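import Cfsg.Agent.H751.IF.HexKill_m3
import Cfsg.Agent.H934.HeisE8
import Cfsg.Agent.H83.RedEEight
import Cfsg.Agent.H584.War.Num
import Cfsg.Agent.H692.IFO.Lang_m3
import Cfsg.Agent.H800.IFx.Gen_m3
import Cfsg.Agent.H209.EPX.Defs_m3
import Cfsg.Agent.S1066
import Cfsg.Agent.H273.IF.Fi22_m3
import Cfsg.Agent.KFacts.TwESix.OutTwo
import Cfsg.Agent.ChevFast.E8
import Cfsg.Agent.ChevFast.Lin
import Cfsg.Agent.H69.OutCount
import Cfsg.Agent.Nodes.LeviDec
import Cfsg.Agent.H203.IF.Heis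
import Cfsg.Agent.H890.IF.FiTwoTwo_m3
import Cfsg.Agent.H897.IF.ENum
import Cfsg.Agent.H430.CfChev
import Cfsg.Agent.H83.TwESix
import Cfsg.Agent.H956.IF.Central
import Cfsg.Agent.KFacts.RgdChevCoord
import Cfsg.Agent.KFacts.RgdFiltChev
import Cfsg.Agent.KFacts.SylFix
import Cfsg.Agent.KFacts.RgdSyl
import Cfsg.Agent.S1063
import Cfsg.Agent.H601.OddDeg.Parity
import Cfsg.Agent.H40.GGAbs
import Cfsg.Agent.H618.ParInd
import Cfsg.Agent.H163.Steinberg
import Cfsg.Agent.H732.PB.AltSplit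
import Cfsg.Agent.H979.LieSplit
import Cfsg.Agent.H469.IF.J3_m3
import Cfsg.Agent.S1086
import Cfsg.Agent.Lib.PermCode
import Cfsg.Agent.Lib.Refl
import Cfsg.Agent.H974.Gs.RowLin
import Cfsg.Agent.H30.IF.Frob_m3
import Cfsg.Agent.H74.PslF
import Cfsg.Agent.H126.Inv.J4_m3
import Cfsg.Agent.S0249
import Mathlib
import Cfsg.Agent.H440.Bs.Rec_m3
import Cfsg.Agent.H845.Bs.Count
import Cfsg.Agent.S0205
import Cfsg.Agent.H968.TwoM22Fact
import Cfsg.Agent.H121.OZ.JTwoCls_m3
import Cfsg.Agent.H30.OZ.HeDat_m3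
import Cfsg.Agent.H226.Tall.Defs
import Cfsg.Agent.EvenType.CharTwoCent
import Cfsg.Agent.H55.OutGen
import Cfsg.Agent.S2060
import Cfsg.Agent.S2063
import Cfsg.Agent.S2064
import Cfsg.Agent.S2068
import Cfsg.Agent.S2070
import Cfsg.Agent.S2083
import Cfsg.Agent.OddHalf.Small.Plug
import Cfsg.Agent.OddHalf.Small.Mathieu
import Cfsg.Agent.OddHalf.Small.M24Char
import Cfsg.Agent.SevenCases.SporJ4
import Cfsg.Agent.SevenCases.SporCo2
import Cfsg.Agent.SevenCases.SporTh
import Cfsg.Agent.S0435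
import Cfsg.Agent.H992.Stages.Mathieu
import Cfsg.Agent.MonsterX.ThOneClass
import Cfsg.Agent.KFacts.CoTwo.RFin
import Cfsg.Agent.J4Type.CloseInst
import Cfsg.Agent.J4Type.FinalGen
import Cfsg.Agent.KFacts.M24Two.Orders
import Cfsg.Agent.H715.Fpr.M23_m3
import Cfsg.Agent.CoThreeStd.AutInv
import Cfsg.Agent.UGT.EndJ1.Main_m3
import Cfsg.Agent.CoThreeStd.AutCent
import Cfsg.Agent.KFacts.He.TwoA_m3
import Cfsg.Agent.KFacts.He.Classes
import Cfsg.Agent.ONType.PslCard
import Cfsg.Agent.H672.IF.Th_m3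
import Cfsg.Agent.H587.NR.He
import Cfsg.Agent.S1695
import Cfsg.Agent.PermParts.Consumer_m3
import Cfsg.Agent.H469.IF.J3K_m3
import Cfsg.Agent.H771.IFx.Three_mg_m3
import Cfsg.Agent.H406.IF.PSUEven_mg_m3
import Cfsg.Agent.H618.IF.FiTT_m3
import Cfsg.Agent.S5580
import Cfsg.Agent.FastGrp
import Cfsg.Agent.Prune
set_option linter.all false

section
prune_inst 0x7ffcacf9a9a8b9dedf7f7e3fa6d0cdfc31800fffa4dff94b7fe061bf0bdf030809c563a509e010fe0ed6401410a87843f97eeabf6069dc7ffffd5ff41ffbee0ff5f7b508519488340f3c0ff603f0778e7f3fffffffffffffffffffffffffffbeffbfffffffff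

-- part: H255/IF/EEight_mg
section
prune_inst 0x353065650440120800040580f1203c87fd0004b2006808018864024006006b628980a16004001112122a220100010028115408f0620000000a0004000005002080aa5004b308a00c26009f800004000000000000000000000000000000000004000000000
set_option linter.all false
open scoped Cfsg.Agent.FastGrp

-- part: H255/IF/EEight
section
/-!
# S5719, `E₈(q)`, `q` even (helper255)
-/

set_option autoImplicit false

namespace Cfsg.Agent.H255.IFEEight

open Cfsg Cfsg.Lie Cfsg.Agent.ChevalleyStructure Cfsg.Agent.ChevalleyStructure.RootWord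
  Cfsg.Agent.ChevalleyStructure.RootCombGood
  Cfsg.Agent.H430.CfChev Cfsg.Agent.H255.IFE Cfsg.Agent.H255.IFR Cfsg.Agent.H209.Fxy
open Cfsg.Agent.H934.HeisE8 (tab tab_ok)

theorem hp : Cfsg.Agent.Nodes.RGDChev.IsType chevE8 8 CoxeterMatrix.E₈ := by
  simp [Cfsg.Agent.Nodes.RGDChev.IsType, Cfsg.Agent.Nodes.RGDChev.typeList]

def pp : List (List ℕ × List ℕ) := [([168, 162], [140, 77]), ([146, 141], [134, 98]), ([140, 135], [134, 104]),
  ([134, 130], [129, 109]), ([129, 126], [125, 113]), ([125, 123], [122, 116]), ([122, 121], [120, 118]),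
  ([120], [238, 119])]

theorem hpp : okPaths chevE8 OE8 pp = true := by (delta Cfsg.Agent.ChevalleyStructure.RootCombGood.car Cfsg.Agent.ChevalleyStructure.RootCombGood.co Cfsg.Agent.H255.IFE.okPaths Cfsg.Agent.H255.IFR.okPath Cfsg.Agent.H255.IFR.okPath._f; rewrite [Cfsg.Agent.ChevFast.E8.cartan, Cfsg.Agent.ChevFast.E8.coroot, Cfsg.Agent.ChevFast.E8.neg]; decide +kernel)

theorem hallA : ∀ s < 60, 1 ≤ car chevE8 239 s → (∃ i, tab.S i = s) ∨ s = tab.th := by
  (delta Cfsg.Agent.ChevalleyStructure.RootCombGood.car Cfsg.Agent.ChevalleyStructure.RootCombGood.co; rewrite [Cfsg.Agent.ChevFast.E8.cartan, Cfsg.Agent.ChevFast.E8.coroot]; decide +kernel)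

theorem hallB : ∀ s < 60, 1 ≤ car chevE8 239 (s + 60) → (∃ i, tab.S i = s + 60) ∨ s + 60 = tab.th := by
  (delta Cfsg.Agent.ChevalleyStructure.RootCombGood.car Cfsg.Agent.ChevalleyStructure.RootCombGood.co; rewrite [Cfsg.Agent.ChevFast.E8.cartan, Cfsg.Agent.ChevFast.E8.coroot]; decide +kernel)

theorem hallC : ∀ s < 60, 1 ≤ car chevE8 239 (s + 120) → (∃ i, tab.S i = s + 120) ∨ s + 120 = tab.th := by
  (delta Cfsg.Agent.ChevalleyStructure.RootCombGood.car Cfsg.Agent.ChevalleyStructure.RootCombGood.co; rewrite [Cfsg.Agent.ChevFast.E8.cartan, Cfsg.Agent.ChevFast.E8.coroot]; decide +kernel)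

theorem hallD : ∀ s < 60, 1 ≤ car chevE8 239 (s + 180) → (∃ i, tab.S i = s + 180) ∨ s + 180 = tab.th := by
  (delta Cfsg.Agent.ChevalleyStructure.RootCombGood.car Cfsg.Agent.ChevalleyStructure.RootCombGood.co; rewrite [Cfsg.Agent.ChevFast.E8.cartan, Cfsg.Agent.ChevFast.E8.coroot]; open scoped Cfsg.Agent.ChevFast.Lin in decide +kernel)

theorem hall : ∀ s < chevE8.nroots, 1 ≤ car chevE8 (chevE8.nroots - 1) s → (∃ i, tab.S i = s) ∨ s = tab.th := by
  intro s hs h1
  have hs' : s < 240 := hs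
  have h1' : 1 ≤ car chevE8 239 s := h1
  rcases Nat.lt_or_ge s 60 with h | h
  · exact hallA s h h1'
  rcases Nat.lt_or_ge s 120 with h2 | h2
  · have h3 := hallB (s - 60) (by omega)
    rw [Nat.sub_add_cancel h] at h3
    exact h3 h1'
  rcases Nat.lt_or_ge s 180 with h4 | h4
  · have h3 := hallC (s - 120) (by omega)
    rw [Nat.sub_add_cancel h2] at h3
    exact h3 h1'
  · have h3 := hallD (s - 180) (by omega)
    rw [Nat.sub_add_cancel h4] at h3
    exact h3 h1'

theorem th_not : car chevE8 239 tab.th ≠ 1 := by (delta Cfsg.Agent.ChevalleyStructure.RootCombGood.car Cfsg.Agent.ChevalleyStructure.RootCombGood.co; rewrite [Cfsg.Agent.ChevFast.E8.cartan, Cfsg.Agent.ChevFast.E8.coroot]; decide +kernel)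

theorem hlev : ∀ r ∈ OE8, car chevE8 (chevE8.nroots - 1) r = 1 → ∃ i, tab.S i = r := by
  intro r hr h1
  have hr' : r < chevE8.nroots := List.mem_range.1 hr
  rcases hall r hr' h1.ge with h | h
  · exact h
  · exact absurd (h ▸ h1 : car chevE8 (chevE8.nroots - 1) tab.th = 1) th_not

theorem hS : ∀ i, 1 ≤ car chevE8 (chevE8.nroots - 1) (tab.S i) := by (delta Cfsg.Agent.ChevalleyStructure.RootCombGood.car Cfsg.Agent.ChevalleyStructure.RootCombGood.co; rewrite [Cfsg.Agent.ChevFast.E8.cartan, Cfsg.Agent.ChevFast.E8.coroot]; decide +kernel)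

theorem rep1 : RepOK chevE8 tab 44 [239] := ⟨[], [239], by decide +kernel, by decide +kernel, by decide +kernel,
  Or.inl (by (delta Cfsg.Agent.ChevalleyStructure.RootCombGood.car Cfsg.Agent.ChevalleyStructure.RootCombGood.co; rewrite [Cfsg.Agent.ChevFast.E8.cartan, Cfsg.Agent.ChevFast.E8.coroot]; decide +kernel))⟩

theorem rep2 : RepOK chevE8 tab 44 [239, 226] := ⟨[7, 6, 5, 4, 3, 2, 1, 3, 4, 5, 6], [238, 227], by decide +kernel,
  by decide +kernel, by (delta Cfsg.Agent.ChevalleyStructure.RootWord.wact Cfsg.Lie.ChevalleyDatum.chainRoot Cfsg.Lie.ChevalleyDatum.reflectRoot; rewrite [Cfsg.Agent.ChevFast.E8.cartan, Cfsg.Agent.ChevFast.E8.chainEntry, Cfsg.Agent.ChevFast.E8.neg]; decide +kernel), Or.inl (by (delta Cfsg.Agent.ChevalleyStructure.RootCombGood.car Cfsg.Agent.ChevalleyStructure.RootCombGood.co; rewrite [Cfsg.Agent.ChevFast.E8.cartan, Cfsg.Agent.ChevFast.E8.coroot]; decide +kernel))⟩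

theorem rep3 : RepOK chevE8 tab 44 [239, 226, 159] := ⟨[7, 6], [238, 227, 160], by decide +kernel,
  by decide +kernel, by decide +kernel, Or.inl (by (delta Cfsg.Agent.ChevalleyStructure.RootCombGood.car Cfsg.Agent.ChevalleyStructure.RootCombGood.co; rewrite [Cfsg.Agent.ChevFast.E8.cartan, Cfsg.Agent.ChevFast.E8.coroot]; decide +kernel))⟩

theorem rep4 : RepOK chevE8 tab 44 [239, 226, 159, 152] := ⟨[7, 6, 5, 4, 3, 2, 1, 3, 4, 5, 6, 7, 0, 2],
  [226, 225, 203, 196], by decide +kernel, by decide +kernel, by (delta Cfsg.Agent.ChevalleyStructure.RootWord.wact Cfsg.Lie.ChevalleyDatum.chainRoot Cfsg.Lie.ChevalleyDatum.reflectRoot; rewrite [Cfsg.Agent.ChevFast.E8.cartan, Cfsg.Agent.ChevFast.E8.chainEntry, Cfsg.Agent.ChevFast.E8.neg]; decide +kernel),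
  Or.inr ⟨226, [225, 203, 196], rfl, by decide +kernel, by (delta Cfsg.Agent.ChevalleyStructure.RootCombGood.car Cfsg.Agent.ChevalleyStructure.RootCombGood.co; rewrite [Cfsg.Agent.ChevFast.E8.cartan, Cfsg.Agent.ChevFast.E8.coroot]; decide +kernel), by (delta Cfsg.Agent.ChevalleyStructure.RootCombGood.car Cfsg.Agent.ChevalleyStructure.RootCombGood.co; rewrite [Cfsg.Agent.ChevFast.E8.cartan, Cfsg.Agent.ChevFast.E8.coroot]; decide +kernel), by (delta Cfsg.Agent.H255.IFE.gd; rewrite [Cfsg.Agent.ChevFast.E8.commTerms, Cfsg.Agent.ChevFast.E8.neg]; decide +kernel)⟩⟩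

theorem main {F : Type*} [Field F] [Fintype F] [CharP F 2] {A : Subgroup ↥(chevE8.group F)}
    (hA : IFK.Fix A) {t : ↥(chevE8.group F)} (ht : t ∈ A) (ho : orderOf t = 2) : A = ⊤ := by
  refine IFE.main (j := 44) (dim := 248) (c := 3) (e := 57) (m := 28) (distOk_all inE8 chkdE8) tab rfl hp
    H83.RedEEight.allchk_eq hlev hpp LE8_eq LE8_le carryE8 (by norm_num) rfl (by norm_num) (by norm_num) hS hall ?_
    (by norm_num) ?_ tab_ok hA ht ho
  · have := H584.War.Num.card_E8 F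
    rwa [Nat.card_eq_fintype_card (α := F)] at this
  · intro R hR
    simp only [H83.RedEEight.reps, List.mem_cons, List.not_mem_nil, or_false] at hR
    rcases hR with rfl | rfl | rfl | rfl | rfl
    · exact Or.inl rfl
    · exact Or.inr rep1
    · exact Or.inr rep2
    · exact Or.inr rep3
    · exact Or.inr rep4

/-- **The cell `e8_even`.** -/
theorem e8_even (F : Type) [Field F] [Fintype F] (h : Even (Fintype.card F)) (hs : IsSimpleGroup ↥(chevE8.group F)) :
    KillE ↥(chevE8.group F) := by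
  have := IFC.charP_of_even F h
  have hfin : Finite (GL chevE8.Idx F) := inferInstance
  have hfinG : Finite ↥(chevE8.group F) := inferInstance
  exact IFC.killE_of (IFC.exists_ne_comm hp.inList tab tab_ok (by norm_num)) fun A hA t ht ho => main hA ht ho

end Cfsg.Agent.H255.IFEEight
end

-- part: H692/IFO/TE6O
section
/-!
# S5719, `²E₆(q)`, `q` odd, `|A|` odd (helper692)

* `NormForm` (helper321), `KForm` (proved by helper460), `CardForm` (proved by helper977) : the statements about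
  `E₆(q)` which are used;
* `odd_of` : `KillO (²E₆(q))` for odd `q` from `NormForm`.
-/

set_option autoImplicit false
set_option linter.unusedSectionVars false

namespace Cfsg.Agent.H692.IFO.TE6O

open Subgroup Cfsg Cfsg.Lie Cfsg.Lie.ChevalleyDatum
open Cfsg.Agent.BpExc.FamTw.Gr (gr)
open Cfsg.Agent.ChevalleyStructure.TwE6Basic (hE6 exists_frob)
open Cfsg.Agent.ChevalleyStructure.GraphSymm (symmE6)
open Cfsg.Agent.H296.ESixGF (hp6 rho6 rho6_symm gr_isGr)
open Cfsg.Agent.H79.OutChev (IsD IsGr)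
open Cfsg.Agent.H79.SimpleGen (xS eq_xS_iff)
open Cfsg.Agent.H209.Fxy

/-! ### `gr` is a graph automorphism -/

theorem gr_isGraph {L : Type*} [Field L] : chevE6.IsGraphAut (gr (L := L) hp6.inList symmE6) := by
  refine ⟨rho6, rho6_symm, fun g i t => ⟨fun h => ?_, fun h => ?_⟩⟩
  · rw [(eq_xS_iff hp6.inList g _ t).2 h]
    exact (eq_xS_iff hp6.inList _ _ _).1 (gr_isGr i t).1
  · rw [(eq_xS_iff hp6.inList g _ t).2 h]
    exact (eq_xS_iff hp6.inList _ _ _).1 (gr_isGr i t).2

theorem gr_ne_one {L : Type*} [Field L] : gr (L := L) hp6.inList symmE6 ≠ 1 := by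
  intro h
  have h1 := (gr_isGr (L := L) (0 : Fin 6) 1).1
  rw [h, MulAut.one_apply, one_pow] at h1
  have h2 := congrArg Subtype.val h1
  have h3 := Cfsg.Agent.H522.FamTw.Cent.co_self (hD := hp6.inList) (F := L) 0 1
  have h4 := Cfsg.Agent.H522.FamTw.Cent.co_ne (hD := hp6.inList) (F := L) (i := 0) (r := chevE6.simple 5) (by decide +kernel)
    (by decide +kernel) 1
  have h5 : Cfsg.Agent.H522.FamTw.Cent.Co hp6.inList 0 (Cfsg.Agent.ChevalleyStructure.Elts.xG hp6.inList
    (chevE6.simple 0) (1 : L)) 0 := by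
    have h6 : Cfsg.Agent.ChevalleyStructure.Elts.xG hp6.inList (chevE6.simple 0) (1 : L) =
      Cfsg.Agent.ChevalleyStructure.Elts.xG hp6.inList (chevE6.simple 5) (1 : L) := h2
    rw [h6]
    exact h4
  exact one_ne_zero (Cfsg.Agent.H522.FamTw.Cent.Co.unique (by decide) h3 h5)

/-! ### the statements about `E₆(q)` -/

/-- the standard diagonal automorphism -/
abbrev Std {F : Type} [Field F] (ε : Fˣ) (d' : MulAut ↥(chevE6.group F)) : Prop :=
  IsD hE6 (fun i : Fin 6 => if i = 1 then ε else 1) d'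

/-- (R1) -/
def NormForm : Prop := ∀ (F : Type) [Field F] [Fintype F], ringChar F ≠ 2 →
  ∀ (σ : MulAut ↥(chevE6.group F)) (y : ↥(chevE6.group F)) (d g : MulAut ↥(chevE6.group F)), σ * σ = 1 →
    chevE6.IsDiagonalAut d → chevE6.IsGraphAut g → g ≠ 1 → (∀ a, σ a = y * d (g a) * y⁻¹) →
    ∃ (ζ d' : MulAut ↥(chevE6.group F)) (ε : Fˣ), ε * ε = 1 ∧ Std ε d' ∧
      σ = ζ⁻¹ * (d' * gr hp6.inList symmE6) * ζ

/-- (K) -/
def KForm : Prop := ∀ (F : Type) [Field F] [Fintype F], ringChar F ≠ 2 →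
  ∀ (d' : MulAut ↥(chevE6.group F)) (ε : Fˣ), ε * ε = 1 → Std ε d' →
    ∃ (L : Type) (_ : Group L) (_ : Finite L) (j : L →* ↥(chevE6.group F)), Function.Injective j ∧
      (∀ k, (d' * gr hp6.inList symmE6 : MulAut ↥(chevE6.group F)) (j k) = j k) ∧
      (∀ X : Subgroup L, Odd (Nat.card X) → Nat.card F ^ 9 ≤ X.index) ∧
      Subgroup.closure {k : L | ∃ m, k ^ ringChar F ^ m = 1} = ⊤

/-- (card) -/
def CardForm : Prop := ∀ (F : Type) [Field F] [Fintype F], ringChar F ≠ 2 →
  ∀ (d' : MulAut ↥(chevE6.group F)) (ε : Fˣ), ε * ε = 1 → Std ε d' →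
    ∀ C0 : Subgroup ↥(chevE6.group F), (∀ c, (d' * gr hp6.inList symmE6 : MulAut ↥(chevE6.group F)) c = c →
      (∃ m, c ^ ringChar F ^ m = 1) → c ∈ C0) → Nat.card F ^ 33 ≤ Nat.card C0

theorem kForm : KForm := by
  intro F _ _ hr d' ε hε hd
  have hp : (ringChar F).Prime := CharP.char_is_prime F _
  have hpf : Fact (ringChar F).Prime := ⟨hp⟩
  have hc : CharP F (ringChar F) := ringChar.charP F
  obtain ⟨L, h1, h2, h3⟩ := Cfsg.Agent.H460.IFO.Six.exists_K (F := F) hr (c := fun i : Fin 6 => if i = 1 then ε else 1)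
    (fun i hi => if_neg fun h => hi (by rw [h]; rfl)) hd
  exact ⟨L, inferInstance, inferInstance, L.subtype, L.subtype_injective, fun k => h1 k k.2,
    fun X hX => (h2 X hX).le, h3⟩

theorem cardForm : CardForm := by
  intro F _ _ hr d' ε hε hd C0 h
  have hp : (ringChar F).Prime := CharP.char_is_prime F _
  have hpf : Fact (ringChar F).Prime := ⟨hp⟩
  have hc : CharP F (ringChar F) := ringChar.charP F
  have h2 : (2 : F) ≠ 0 := by
    intro h0
    have h1 : ringChar F ∣ 2 := by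
      refine (CharP.cast_eq_zero_iff F (ringChar F) 2).1 ?_
      exact_mod_cast h0
    exact hr ((Nat.prime_dvd_prime_iff_eq hp Nat.prime_two).1 h1)
  exact Cfsg.Agent.H977.IFO.E6Card.card_pow hε h2 (ringChar F) hd C0 fun g hg1 hg2 => h g hg2 hg1

/-! ### the order -/

theorem card_le {K : Type*} [Field K] [Fintype K] {q : ℕ} (hq : IsPrimePow q) (hK : Fintype.card K = q ^ 2) :
    Nat.card ↥(twistedE6 K q) ≤ q ^ 78 := by
  have h := Cfsg.Agent.S1066.result hq hK
  have hq2 : 1 < q := hq.one_lt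
  have h1 : Nat.card ↥(twistedE6 K q) ≤ Nat.gcd 3 (q + 1) * Nat.card ↥(twistedE6 K q) :=
    Nat.le_mul_of_pos_left _ (Nat.gcd_pos_of_pos_left _ (by norm_num))
  rw [h] at h1
  refine h1.trans ?_
  have e1 : (q ^ 2 - 1) * (q ^ 5 + 1) ≤ q ^ 7 := by
    obtain ⟨a, ha⟩ : ∃ a, q ^ 2 = a + 1 := ⟨q ^ 2 - 1, by have := Nat.one_le_pow 2 q (by omega); omega⟩
    have hb : a + 1 ≤ q ^ 5 := by rw [← ha]; exact Nat.pow_le_pow_right (by omega) (by norm_num)
    have h7 : q ^ 7 = (a + 1) * q ^ 5 := by rw [← ha]; ring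
    rw [h7, ha, Nat.add_sub_cancel]
    linarith only [hb]
  have e2 : (q ^ 6 - 1) * (q ^ 9 + 1) ≤ q ^ 15 := by
    obtain ⟨a, ha⟩ : ∃ a, q ^ 6 = a + 1 := ⟨q ^ 6 - 1, by have := Nat.one_le_pow 6 q (by omega); omega⟩
    have hb : a + 1 ≤ q ^ 9 := by rw [← ha]; exact Nat.pow_le_pow_right (by omega) (by norm_num)
    have h7 : q ^ 15 = (a + 1) * q ^ 9 := by rw [← ha]; ring
    rw [h7, ha, Nat.add_sub_cancel]
    linarith only [hb]
  have e3 : (q ^ 8 - 1) * (q ^ 12 - 1) ≤ q ^ 20 := by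
    calc (q ^ 8 - 1) * (q ^ 12 - 1) ≤ q ^ 8 * q ^ 12 := Nat.mul_le_mul (Nat.sub_le _ _) (Nat.sub_le _ _)
      _ = q ^ 20 := by ring
  calc q ^ 36 * (q ^ 2 - 1) * (q ^ 5 + 1) * (q ^ 6 - 1) * (q ^ 8 - 1) * (q ^ 9 + 1) * (q ^ 12 - 1)
      = q ^ 36 * ((q ^ 2 - 1) * (q ^ 5 + 1)) * ((q ^ 6 - 1) * (q ^ 9 + 1)) * ((q ^ 8 - 1) * (q ^ 12 - 1)) := by ring
    _ ≤ q ^ 36 * q ^ 7 * q ^ 15 * q ^ 20 :=
        Nat.mul_le_mul (Nat.mul_le_mul (Nat.mul_le_mul_left _ e1) e2) e3
    _ = q ^ 78 := by ring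

/-! ### the result -/

/-- **`²E₆(q)`, `q` odd.** -/
theorem odd_of (H1 : NormForm) {K : Type} [Field K] [Fintype K] {q : ℕ}
    (hq : IsPrimePow q) (hK : Fintype.card K = q ^ 2) [IsSimpleGroup ↥(twistedE6 K q)] (hodd : Odd q) :
    KillO ↥(twistedE6 K q) := by
  intro A Γ h hA
  have H2 := kForm
  have H3 := cardForm
  have hna : ∃ a b : ↥(twistedE6 K q), a * b ≠ b * a := by
    by_contra hcon
    push Not at hcon
    exact (Cfsg.Agent.S1070.result hq hK).2 ⟨⟨hcon⟩⟩
  obtain ⟨x, hxΓ, h2, hne⟩ := Cfsg.Agent.H460.IFO.exists_outer h hA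
  have hxx : x * x = 1 := by rw [← pow_two, ← h2, pow_orderOf_eq_one]
  -- the field
  obtain ⟨r, n, hr, hn0, hn⟩ := (isPrimePow_nat_iff _).1 hq
  have hrf : Fact r.Prime := ⟨hr⟩
  have hchar : CharP K r := by
    obtain ⟨p, hp⟩ := CharP.exists K
    have hpp : p.Prime := CharP.char_is_prime K p
    have h1 : p ∣ Fintype.card K := by
      have : Fact p.Prime := ⟨hpp⟩
      obtain ⟨n, -, h⟩ := FiniteField.card K p
      rw [h]
      exact dvd_pow_self _ n.ne_zero
    rw [hK, ← hn] at h1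
    have h3 := (Nat.prime_dvd_prime_iff_eq hpp hr).1 (hpp.dvd_of_dvd_pow (hpp.dvd_of_dvd_pow h1))
    rwa [h3] at hp
  have hfin : Finite (GaloisField r n) := inferInstance
  have hft : Fintype (GaloisField r n) := Fintype.ofFinite _
  have hF : Fintype.card (GaloisField r n) = q := by
    rw [← Nat.card_eq_fintype_card, GaloisField.card r n hn0.ne', hn]
  have hrc : ringChar (GaloisField r n) = r := ringChar.eq _ r
  have hr2 : ringChar (GaloisField r n) ≠ 2 := by
    rw [hrc]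
    rintro rfl
    rw [← hn] at hodd
    exact (Nat.not_even_iff_odd.2 hodd) (Nat.even_pow.2 ⟨even_two, hn0.ne'⟩)
  obtain ⟨y, d, hd, hx', C0, j, hj, hC0, hfix, hmem⟩ := Lang.transfer hn0 hn.symm hK hxx hne hF
  obtain ⟨x', hxd⟩ : ∃ x' : MulAut ↥(chevE6.group (GaloisField r n)),
    x' = MulAut.conj y * d * gr hp6.inList symmE6 := ⟨_, rfl⟩
  rw [← hxd] at hx' hC0 hmem
  obtain ⟨ζ, d', ε, hε, hst, hx1⟩ := H1 (GaloisField r n) hr2 x' y d _ hx' hd gr_isGraph gr_ne_one
    (fun a => by rw [hxd]; rfl)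
  obtain ⟨s, hs⟩ : ∃ s : MulAut ↥(chevE6.group (GaloisField r n)), s = d' * gr hp6.inList symmE6 := ⟨_, rfl⟩
  have hx2 : ∀ c, x' (ζ⁻¹ c) = ζ⁻¹ (s c) := fun c => by
    rw [hx1, ← hs, MulAut.mul_apply, MulAut.mul_apply, MulAut.apply_inv_self]
  -- (K)
  obtain ⟨L, iL, fL, j1, hj1, hj1s, hodX, hgen⟩ := H2 (GaloisField r n) hr2 d' ε hε hst
  rw [← hs] at hj1s
  have hLC : ∀ k, ζ⁻¹ (j1 k) ∈ C0 := by
    have h1 : (⊤ : Subgroup L) ≤ C0.comap ((ζ⁻¹ : MulAut _).toMonoidHom.comp j1) := by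
      rw [← hgen, Subgroup.closure_le]
      rintro k ⟨m, hm⟩
      refine hmem _ ?_ ⟨m, ?_⟩
      · show x' (ζ⁻¹ (j1 k)) = ζ⁻¹ (j1 k)
        rw [hx2, hj1s]
      · show (ζ⁻¹ (j1 k)) ^ r ^ m = 1
        rw [hrc] at hm
        rw [← map_pow, ← map_pow, hm, map_one, map_one]
    exact fun k => h1 (Subgroup.mem_top k)
  let J : L →* ↥(twistedE6 K q) := j.comp (((ζ⁻¹ : MulAut _).toMonoidHom.comp j1).codRestrict C0 hLC)
  have hJi : Function.Injective J := by
    intro a b hab
    have h1 := hj hab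
    have h2 : ζ⁻¹ (j1 a) = ζ⁻¹ (j1 b) := congrArg Subtype.val h1
    exact hj1 ((ζ⁻¹ : MulAut _).injective h2)
  have hJx : ∀ k, x (J k) = J k := fun k => hfix _
  have hf9 : q ^ 9 ≤ fx A x := by
    have h1 := hodX _ (Cfsg.Agent.H460.IFO.odd_comap hA hJi)
    rw [Nat.card_eq_fintype_card, hF, Subgroup.index_comap] at h1
    refine h1.trans (Cfsg.Agent.H680.Fxy.IF.E1 h hxΓ h2 ?_).1
    rintro _ ⟨k, rfl⟩
    exact hJx k
  -- (card)
  have hc33 : q ^ 33 ≤ Nat.card {g : ↥(twistedE6 K q) // x g = g} := by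
    have h1 := H3 (GaloisField r n) hr2 d' ε hε hst (C0.map ζ.toMonoidHom) (fun c hc hm => by
      rw [← hs] at hc
      refine ⟨ζ⁻¹ c, hmem _ (by rw [hx2, hc]) ?_, MulAut.apply_inv_self _ ζ c⟩
      obtain ⟨m, hm⟩ := hm
      rw [hrc] at hm
      exact ⟨m, by rw [← map_pow, hm, map_one]⟩)
    rw [Nat.card_eq_fintype_card (α := GaloisField r n), hF] at h1
    have h3 : Nat.card (C0.map ζ.toMonoidHom) = Nat.card C0 :=
      (Nat.card_congr (C0.equivMapOfInjective ζ.toMonoidHom ζ.injective).toEquiv).symm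
    rw [h3] at h1
    refine h1.trans (Nat.card_le_card_of_injective (fun c : C0 => (⟨j c, hfix c⟩ : {g : ↥(twistedE6 K q) // x g = g}))
      fun a b hab => hj (congrArg Subtype.val hab))
  have h3 := (Cfsg.Agent.H999.IFB.IF.E2 h hxΓ h2).1
  have h4 := Cfsg.Agent.H999.IFB.card_icl hna x
  have h5 := card_le hq hK
  rw [← h4] at h5
  have h6 : q ^ 45 ≤ fx A x ^ 5 := by
    calc q ^ 45 = (q ^ 9) ^ 5 := by ring
      _ ≤ _ := Nat.pow_le_pow_left hf9 5
  have h7 : q ^ 45 * q ^ 33 < (Cfsg.Agent.H999.IFB.icl x).ncard * Nat.card {g : ↥(twistedE6 K q) // x g = g} :=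
    Nat.mul_lt_mul_of_lt_of_le (h6.trans_lt h3) hc33 (lt_of_lt_of_le (pow_pos hq.pos 33) hc33)
  have h8 : q ^ 45 * q ^ 33 = q ^ 78 := by ring
  omega

end Cfsg.Agent.H692.IFO.TE6O
end

-- part: H363/IFO/TwE
section
/-!
# S5719: `²E₆(q)`, `q` even, `|A|` odd (helper363)

`te6_even_O` : `KillO (twistedE6 K q)`, `q` even.
-/

set_option autoImplicit false
set_option linter.unusedSectionVars false
set_option maxHeartbeats 1000000

namespace Cfsg.Agent.H363.IFO.TwE

open CoxeterSystem Cfsg.Agent.ChevalleyStructure.CoxeterGeom Cfsg.Agent.Tits.Core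
  Cfsg.Agent.Nodes.Reps Cfsg.Agent.Nodes.BNOf Cfsg.Agent.Nodes.Bruhat Cfsg.Agent.Nodes.RGDTwGen
  Cfsg.Agent.Nodes.RGDChev Cfsg.Agent.Nodes.RGDFold Cfsg.Agent.Nodes.RGDFoldSL
open Cfsg.Agent.Tits.Roots hiding ht
open Cfsg.Agent.KFacts.RgdAut Cfsg.Agent.KFacts.RgdDiag Cfsg.Agent.KFacts.RgdRigid
  Cfsg.Agent.KFacts.RgdField Cfsg.Agent.KFacts.RgdTau Cfsg.Agent.KFacts.RgdNodes
open Cfsg.Lie Cfsg.Agent.ChevalleyStructure
open Cfsg.Agent.ChevalleyStructure.SL2Hom (up lo)
open Cfsg.Agent.KFacts.TwESix.NodeCoord Cfsg.Agent.KFacts.TwESix.Out Cfsg.Agent.KFacts.TwESix.OutTwo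
open Cfsg.Agent.Nodes.RGDTwE6 Cfsg.Agent.Nodes.RGDTwNode.E6
open Cfsg.Agent.Nodes (RGDTwActE6.mem_X RGDTwActE6.x_add RGDTwActE6.x_zero)
open Cfsg.Agent.OddHalf.D4 Cfsg.Agent.H209.Fxy

universe u

variable {K : Type u} [Field K] [Fintype K] {q : ℕ} {φ : K →+* K} (hφ : ∀ x, φ x = x ^ q)
  (hqq : ∀ t : K, (t ^ q) ^ q = t)

/-- the words of the short roots of height at least two -/
def wds : List (List (Fin 4)) :=
  [[1], [3], [0, 1], [3, 1], [3, 0, 1], [2, 3, 1], [2, 3, 0, 1], [1, 2, 3, 0, 1], [2, 1, 2, 3, 0, 1],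
    [3, 2, 1, 2, 3, 0, 1]]

/-- the roots -/
def Q : Finset (Fin 4 → ℤ) := (wds.map (ev A 2)).toFinset

set_option backward.isDefEq.respectTransparency false in
theorem Q_card : Q.card = 10 := by decide +kernel

set_option backward.isDefEq.respectTransparency false in
theorem Q_pos : ∀ ω ∈ wds, (∀ i, 0 ≤ ev A 2 ω i) ∧ 1 < ∑ i, ev A 2 ω i := by decide +kernel

include hφ hqq in
theorem F2_card : Nat.card (KF φ 2) = Nat.card K := by
  have h1 : (KF φ 2 : Subfield K) = ⊤ := F2_eq_top hφ hqq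
  rw [h1]
  exact Nat.card_congr Subfield.topEquiv.toEquiv

include hφ hqq in
theorem F3_card : Nat.card (KF φ 3) = Nat.card K := by
  have h1 : (KF φ 3 : Subfield K) = ⊤ := F2_eq_top hφ hqq
  rw [h1]
  exact Nat.card_congr Subfield.topEquiv.toEquiv

include hφ hqq in
theorem F1_card (h2 : (2 : K) = 0) (hK : Fintype.card K = q ^ 2) (hq1 : 1 < q) : q ≤ Nat.card (KF φ 0) := by
  have h1 : ∃ a, φ a ≠ a := by
    by_contra hne
    push Not at hne
    apply F1_ne_top hφ hK hq1
    rw [eq_top_iff]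
    intro x _
    refine (Cfsg.Agent.Nodes.RGDFoldSL.mem_Fx (φ := φ) (k := 1)).2 ?_
    rw [Function.iterate_one]
    exact hne x
  have h3 := card_range h1 (1 : K)
  have h4 : Nat.card {b : K // ∃ a, b = a - 1 * φ a} ≤ Nat.card (KF φ 0) := by
    refine Nat.card_le_card_of_injective (fun b => (⟨b.1, ?_⟩ : KF φ 0)) ?_
    · obtain ⟨a, ha⟩ := b.2
      refine (Cfsg.Agent.Nodes.RGDFoldSL.mem_Fx (φ := φ) (k := 1)).2 ?_
      rw [Function.iterate_one, ha, one_mul, map_sub]
      have e : φ (φ a) = a := by rw [hφ, hφ, hqq]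
      rw [e]
      linear_combination (φ a - a) * h2
    · intro b b' h
      exact Subtype.ext (congrArg (fun z : KF φ 0 => (z : K)) h)
  have h5 : q * q ≤ Nat.card (KF φ 0) * Nat.card (KF φ 0) := by
    have h6 : Nat.card K = q * q := by rw [Nat.card_eq_fintype_card, hK, pow_two]
    rw [← h6]
    exact h3.trans (Nat.mul_le_mul h4 h4)
  exact Nat.mul_self_le_mul_self_iff.1 h5

variable {W : Type*} [Group W] (cs : CoxeterSystem CoxeterMatrix.F₄ W)

include hφ hqq in
theorem sq_one (h2 : (2 : K) = 0) {z : Fin 4 → ℤ} (hz : IsRoot cs isCartan z) : ∀ a ∈ X φ q z, a * a = 1 := by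
  intro a ha
  obtain ⟨a, ha', rfl⟩ := (RGDTwActE6.mem_X hφ hqq hz a).1 ha
  have h3 := RGDTwActE6.x_add hφ hqq hz ha' ha'
  have e : a + a = 0 := by linear_combination a * h2
  rw [e] at h3
  rw [← h3, RGDTwActE6.x_zero hφ hqq hz]

/-- the number of fixed points -/
theorem fix_TwE [Finite W] (hK : Fintype.card K = q ^ 2) (hq1 : 1 < q) [CharP K 2] {β : MulAut ↥(twistedE6 K q)}
    {τ : K ≃+* K} (hF : FTau hφ hqq β τ) (hτ : τ ≠ 1) {u : ↥(twistedE6 K q)}
    (hu : u ∈ RGD.Sup (X φ q) (RGD.Pos cs isCartan)) (hinv : ∀ y, u * β (u * β y * u⁻¹) * u⁻¹ = y) :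
    q ^ 13 ≤ FF (tt β.toMonoidHom u) (RGD.Sup (X φ q) (RGD.Pos cs isCartan)) ⊥ := by
  have : Fact (Nat.Prime 2) := ⟨Nat.prime_two⟩
  have R := Cfsg.Agent.Nodes.RGDTwE6.rgd cs hφ hqq 2
  have h2 : (2 : K) = 0 := by exact_mod_cast CharP.cast_eq_zero K 2
  have hI := StarESix.intComm (cs := cs) hφ hqq
  have D := dat_of (u := u) R hF.diag (fun _ _ => rfl) (one_mul 1) hI (fun x hx => StarESix.abel hφ hqq hx.1)
    (fun x hx => sq_one hφ hqq cs h2 hx.1) hu hinv
  have hne : ∃ t ∈ T K q, chE hφ hqq 2 (β t) ≠ chE hφ hqq 2 t := by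
    by_contra hcon
    push Not at hcon
    apply hτ
    let E : AddSubgroup (KF φ 2) := AddMonoidHom.eqLocus ((τ : K →+ K).comp ((KF φ 2).subtype : KF φ 2 →+ K))
      ((KF φ 2).subtype : KF φ 2 →+ K)
    have hE : E = ⊤ := by
      rw [eq_top_iff, ← (coordE hφ hqq 2).span, AddSubgroup.closure_le]
      rintro _ ⟨t, ht, rfl⟩
      have h3 := hF.char 2 t ht
      rw [hcon t ht] at h3
      exact h3.symm
    ext a
    have h1 : a ∈ KF φ 2 := by
      have := F2_eq_top hφ hqq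
      show a ∈ Cfsg.Agent.Nodes.RGDFoldSL.Fx φ 2
      rw [this]
      exact Subfield.mem_top a
    have h4 : (⟨a, h1⟩ : KF φ 2) ∈ E := by rw [hE]; exact AddSubgroup.mem_top _
    exact h4
  have hqK : Nat.card K = q * q := by rw [Nat.card_eq_fintype_card, hK, pow_two]
  refine D.fix_card R (Q := (Q : Set (Fin 4 → ℤ))) ?_ ?_ (by omega) ?_
  · intro x hx hxQ
    right
    refine ⟨rfl, ?_⟩
    unfold Q at hxQ
    rw [Finset.mem_coe, List.mem_toFinset, List.mem_map] at hxQ
    obtain ⟨ω, -, rfl⟩ := hxQ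
    rw [← rep_ev cs isCartan 2 ω]
    refine card_semi R (Subtype.ext ?_) hF.diag (coordE hφ hqq 2) hne (cs.wordProd ω) ?_
    · exact h2
    · rw [F2_card hφ hqq, hqK]
  · have h3 : (StarLoc.Gt cs isCartan 1 ∩ (Q : Set (Fin 4 → ℤ))) = (Q : Set (Fin 4 → ℤ)) := by
      rw [Set.inter_eq_right]
      intro x hx
      unfold Q at hx
      rw [Finset.mem_coe, List.mem_toFinset, List.mem_map] at hx
      obtain ⟨ω, hω, rfl⟩ := hx
      obtain ⟨h4, h5⟩ := Q_pos ω hω
      exact ⟨⟨⟨_, _, (rep_ev cs isCartan 2 ω).symm⟩, h4⟩, h5⟩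
    rw [h3, Set.ncard_coe_finset, Q_card]
  · refine le_trans (Nat.mul_le_mul_right _ ?_) (peel_all R hI)
    rw [Fin.prod_univ_four, card_of_coord (coordE hφ hqq 0), card_of_coord (coordE hφ hqq 1),
      card_of_coord (coordE hφ hqq 2), card_of_coord (coordE hφ hqq 3), F2_card hφ hqq, F3_card hφ hqq, hqK]
    have h3 := F1_card hφ hqq h2 hK hq1
    have h4 : q ≤ Nat.card (KF φ 1) := h3
    calc q ^ 6 = q * q * (q * q) * (q * q) := by ring
      _ ≤ _ := Nat.mul_le_mul_right _ (Nat.mul_le_mul_right _ (Nat.mul_le_mul h3 h4))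

/-- the order of `²E₆(q)` -/
theorem card_le (hq : IsPrimePow q) (hK : Fintype.card K = q ^ 2) : Nat.card ↥(twistedE6 K q) ≤ (q ^ 13) ^ 6 := by
  have h1 := Cfsg.Agent.S1066.result (K := K) hq hK
  have hg : 0 < Nat.gcd 3 (q + 1) := Nat.gcd_pos_of_pos_left _ (by norm_num)
  have h2 : Nat.card ↥(twistedE6 K q) ≤ Nat.gcd 3 (q + 1) * Nat.card ↥(twistedE6 K q) := Nat.le_mul_of_pos_left _ hg
  rw [h1] at h2
  refine h2.trans ?_
  have hq1 : 1 < q := hq.one_lt
  have a1 : (q ^ 2 - 1) * (q ^ 5 + 1) ≤ q ^ 7 := by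
    have h3 : 1 ≤ q ^ 2 := Nat.one_le_pow _ _ (by omega)
    obtain ⟨a, ha⟩ := Nat.exists_eq_add_of_le h3
    have h4 : q ^ 2 - 1 = a := by omega
    have h5 : q ^ 2 ≤ q ^ 5 + 1 := (Nat.pow_le_pow_right (by omega) (by norm_num : 2 ≤ 5)).trans (Nat.le_succ _)
    have h6 : q ^ 7 = q ^ 2 * q ^ 5 := by ring
    rw [h4, h6, ha] at *
    linarith only [h5]
  have a2 : (q ^ 8 - 1) * (q ^ 9 + 1) ≤ q ^ 17 := by
    have h3 : 1 ≤ q ^ 8 := Nat.one_le_pow _ _ (by omega)
    obtain ⟨a, ha⟩ := Nat.exists_eq_add_of_le h3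
    have h4 : q ^ 8 - 1 = a := by omega
    have h5 : q ^ 8 ≤ q ^ 9 + 1 := (Nat.pow_le_pow_right (by omega) (by norm_num : 8 ≤ 9)).trans (Nat.le_succ _)
    have h6 : q ^ 17 = q ^ 8 * q ^ 9 := by ring
    rw [h4, h6, ha] at *
    linarith only [h5]
  have a3 : q ^ 6 - 1 ≤ q ^ 6 := Nat.sub_le _ _
  have a4 : q ^ 12 - 1 ≤ q ^ 12 := Nat.sub_le _ _
  calc q ^ 36 * (q ^ 2 - 1) * (q ^ 5 + 1) * (q ^ 6 - 1) * (q ^ 8 - 1) * (q ^ 9 + 1) * (q ^ 12 - 1)
      = q ^ 36 * ((q ^ 2 - 1) * (q ^ 5 + 1)) * (q ^ 6 - 1) * ((q ^ 8 - 1) * (q ^ 9 + 1)) * (q ^ 12 - 1) := by ring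
    _ ≤ q ^ 36 * q ^ 7 * q ^ 6 * q ^ 17 * q ^ 12 :=
        Nat.mul_le_mul (Nat.mul_le_mul (Nat.mul_le_mul (Nat.mul_le_mul_left _ a1) a3) a2) a4
    _ = _ := by ring

end Cfsg.Agent.H363.IFO.TwE

namespace Cfsg.Agent.H363.IFO

open Cfsg.Agent.ChevalleyStructure Cfsg.Lie Cfsg.Agent.H209.Fxy Cfsg.Agent.Nodes Cfsg.Agent.Nodes.RGDTwE6
  Cfsg.Agent.KFacts.TwESix.Out Cfsg.Agent.KFacts.TwESix.OutTwo Cfsg.Agent.Nodes.BNOf

/-- **`²E₆(q)`, `q` even, `|A|` odd.** -/
theorem te6_even_O {K : Type*} [Field K] [Fintype K] {q : ℕ} (hq : IsPrimePow q) (hK : Fintype.card K = q ^ 2)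
    (he : Even q) : KillO ↥(twistedE6 K q) := by
  have : Fact (Nat.Prime 2) := ⟨Nat.prime_two⟩
  obtain ⟨φ, hφ, hqq⟩ := TwE6Basic.exists_frob hq hK
  have hq1 : 1 < q := hq.one_lt
  have hch : CharP K 2 := by
    obtain ⟨p, hp⟩ := CharP.exists K
    obtain ⟨m, hpp, hc⟩ := FiniteField.card K p
    have h1 : 2 ∣ p ^ (m : ℕ) := by
      rw [← hc, hK]
      exact he.two_dvd.trans (dvd_pow_self _ (by norm_num))
    have h2 : 2 = p := (Nat.prime_dvd_prime_iff_eq Nat.prime_two hpp).1 (Nat.prime_two.dvd_of_dvd_pow h1)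
    rwa [h2]
  have hWf : Finite CoxeterMatrix.F₄.Group := RGDFold.finite_W (hp := RGDTwE6.hp)
    CoxeterMatrix.F₄.toCoxeterSystem RGDTwE6.isCartan RGDTwE6.foldData
  intro A Γ hIF hO
  obtain ⟨σ, hσ, h2σ, hne⟩ := H460.IFO.exists_outer hIF hO
  have hSp : IsPGroup 2 (Subgroup.zpowers σ) := IsPGroup.of_card (n := 1) (by rw [Nat.card_zpowers, h2σ, pow_one])
  obtain ⟨g, f, -, hf⟩ := exists_outer hφ hqq CoxeterMatrix.F₄.toCoxeterSystem hK hq1 2 hSp
  obtain ⟨⟨u, hu, hF, -⟩, hinn⟩ := hf ⟨σ, Subgroup.mem_zpowers σ⟩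
  obtain ⟨β, hβ⟩ : ∃ β, β = MulAut.conj u * (MulAut.conj g⁻¹ * σ * MulAut.conj g) := ⟨_, rfl⟩
  have hF' : FTau hφ hqq β (f ⟨σ, Subgroup.mem_zpowers σ⟩) := by rw [hβ]; exact hF
  have hβy : ∀ y, u⁻¹ * β y * u⁻¹⁻¹ = g⁻¹ * σ (g * y * g⁻¹) * g := by
    intro y
    rw [hβ]
    simp only [MulAut.mul_apply, MulAut.conj_apply]
    group
  have hσσ : ∀ y, σ (σ y) = y := by
    intro y
    have h1 : σ ^ 2 = 1 := by rw [← h2σ]; exact pow_orderOf_eq_one σ
    rw [pow_two] at h1
    exact congrArg (fun e : MulAut _ => e y) h1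
  have hτ : f ⟨σ, Subgroup.mem_zpowers σ⟩ ≠ 1 := by
    intro h1
    obtain ⟨x, hx⟩ := hinn.1 h1
    exact hne x hx
  have hN := TwE.fix_TwE hφ hqq CoxeterMatrix.F₄.toCoxeterSystem hK hq1 hF' hτ (inv_mem hu) (by
    intro y
    rw [hβy, hβy]
    have e : g * (g⁻¹ * σ (g * y * g⁻¹) * g) * g⁻¹ = σ (g * y * g⁻¹) := by group
    rw [e, hσσ]
    group)
  have R := Cfsg.Agent.Nodes.RGDTwE6.rgd CoxeterMatrix.F₄.toCoxeterSystem hφ hqq 2
  have : Finite (Matrix.GeneralLinearGroup chevE6.Idx K) := inferInstanceAs (Finite (Matrix chevE6.Idx chevE6.Idx K)ˣ)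
  exact false_of_fix hIF hO hσ h2σ R.isPGroup_Upos g (t := tt β.toMonoidHom u⁻¹) (fun y => hβy y) hN
    (TwE.card_le hq hK)


end Cfsg.Agent.H363.IFO
end

-- part: H692/IFO/TE6All
section
/-!
# S5719, the cell `te6_O`, from the norm form of the graph involutions of `E₆(q)` (helper692)

`q` even: helper363; `q` odd: `TE6O.odd_of`.
-/

set_option autoImplicit false

namespace Cfsg.Agent.H692.IFO.TE6All

open Cfsg Cfsg.Lie Cfsg.Agent.H209.Fxy

theorem te6_O_of (H1 : TE6O.NormForm) : ∀ (K : Type) [Field K] [Fintype K] (q : ℕ), IsPrimePow q →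
    Fintype.card K = q ^ 2 → IsSimpleGroup ↥(twistedE6 K q) → KillO ↥(twistedE6 K q) := by
  intro K _ _ q hq hK hs
  rcases Nat.even_or_odd q with he | ho
  · exact Cfsg.Agent.H363.IFO.te6_even_O hq hK he
  · exact TE6O.odd_of H1 hq hK ho

end Cfsg.Agent.H692.IFO.TE6All
end

-- part: H692/IFO/TE6Fin
section
/-!
# S5719, the cell `te6_O` (helper692)

`normForm` : helper321's reduction, helper57's word lemma, helper679's last step. `te6_O` : the cell.
-/

set_option autoImplicit false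

namespace Cfsg.Agent.H692.IFO.TE6Fin

open Cfsg Cfsg.Lie Cfsg.Agent.H209.Fxy
open Cfsg.Agent.BpExc.FamTw.Gr
open Cfsg.Agent.H79.SimpleGen Cfsg.Agent.H79.OutChev
open Cfsg.Agent.H296.ESixGF

theorem wordIndep : Cfsg.Agent.H321.IFE6.WordIndep := fun hw h hind =>
  Cfsg.Agent.H57.IFE6.word_indep hw h hind

theorem finNorm (F : Type*) [Field F] : Cfsg.Agent.H321.IFE6.FinNorm F := by
  intro c d hd hσ
  obtain ⟨d', ε, h1, h2, ζ, h3⟩ := Cfsg.Agent.H679.IF.E6Fin.fin_norm' hd hσ
  refine ⟨ζ, d', ε, h1, Cfsg.Agent.H679.IF.E6Fin.isD_congr h2 ?_, h3⟩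
  intro i
  fin_cases i <;> rfl

theorem normForm : TE6O.NormForm := by
  intro F _ _ hr σ y d g hσ hd hg hg1 hxy
  exact Cfsg.Agent.H321.IFE6.norm_form_of wordIndep (finNorm F) (Ring.two_ne_zero hr) hσ hd hg hg1 hxy

/-- the cell `te6_O` -/
theorem te6_O : ∀ (K : Type) [Field K] [Fintype K] (q : ℕ), IsPrimePow q → Fintype.card K = q ^ 2 →
    IsSimpleGroup ↥(twistedE6 K q) → KillO ↥(twistedE6 K q) := TE6All.te6_O_of normForm

end Cfsg.Agent.H692.IFO.TE6Fin
end

private theorem dce_1115f21cca5d : _root_.True := by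
  try have : _root_.True := by simp only [_root_.Cfsg.Agent.H83.RedEEight.reps.eq_1]
  try have : _root_.True := by simp only [_root_.Cfsg.Agent.KFacts.TwESix.Out.chE.congr_simp]
  exact _root_.True.intro
end

-- part: H441/IF/TE6F_mg
section
prune_inst 0x5300000004000080000058051201c068a000420002800008800020002804b42008001600400100202082001000100281100088020000000000000000000000000001004a0080000000090000080000000000000000000000000000000000004000000000
set_option linter.all false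
open scoped Cfsg.Agent.FastGrp

-- part: H752/RgdIdx
section
/-!
# Index and invariance of a parabolic subgroup of a root group datum

`θ` a dominant vector, `J` the nodes orthogonal to `θ`.

* `index_PJ_le` : `|G : P_J| ≤ ∑ q^(d r)`, the sum over the `W`-orbit of `θ`, `d r` a weighted distance from `θ`;
* `fix_PJ` : a frame automorphism fixing all nodes fixes `P_J`;
* `exists_conj` : the class of `P_J` is invariant under all automorphisms when there are no diagram symmetries.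
-/

set_option autoImplicit false
set_option linter.unusedSectionVars false

namespace Cfsg.Agent.H752.RgdIdx

open CoxeterSystem Cfsg.Agent.ChevalleyStructure.CoxeterGeom Cfsg.Agent.Tits.Roots Cfsg.Agent.Tits.Core
  Cfsg.Agent.Tits.RootComb Cfsg.Agent.Nodes.Reps Cfsg.Agent.Nodes.BNOf Cfsg.Agent.Nodes.StabComb
  Cfsg.Agent.Nodes.Bruhat Cfsg.Agent.Nodes.LeviDec Cfsg.Agent.KFacts.RgdAut Cfsg.Agent.KFacts.RgdDiag
  Cfsg.Agent.H69.OutCount

universe u

variable {I W : Type*} {Y : Type u} [Fintype I] [DecidableEq I] [Group W] [Group Y] {M : CoxeterMatrix I}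
  {cs : CoxeterSystem M W} {A : I → I → ℤ} {h : IsCartan M A} {p : ℕ} {T : Subgroup Y} {n : I → Y}
  {X : (I → ℤ) → Subgroup Y}

section

variable (R : RGD cs h p T n X)

/-- The cosets of `P` in the cells of the elements moving `θ` to `r`. -/
def Ce (P : Subgroup Y) (θ r : I → ℤ) : Set (Y ⧸ P) :=
  {x | ∃ g w, x = QuotientGroup.mk g ∧ Cell R.nsys cs h X w g ∧ rep cs h w θ = r}

include R

theorem exists_split {i : I} {b : Y} (hb : b ∈ RGD.B cs h T X) :
    ∃ u ∈ X (sr i), ∃ b' ∈ RGD.B cs h T X, b * n i = u * n i * b' := by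
  rw [← BJ_univ] at hb
  obtain ⟨v, hv, u, hu, t, ht, e⟩ := mem_BJ' R (Set.mem_univ i) (inv_mem hb)
  have e1 : b = t⁻¹ * u⁻¹ * v⁻¹ := by
    have : b = (b⁻¹)⁻¹ := (inv_inv b).symm
    rw [this, e]; group
  have hu' : t⁻¹ * u⁻¹ * t ∈ X (sr i) := by
    have h1 := R.tor _ (isRoot_sr cs h i) t⁻¹ (inv_mem ht)
    have h2 : t⁻¹ * u⁻¹ * t⁻¹⁻¹ ∈ cj t⁻¹ (X (sr i)) := conj_mem_cj.2 (inv_mem hu)
    rwa [h1, inv_inv] at h2
  have hnT : (n i)⁻¹ * t⁻¹ * n i ∈ T := by
    have h1 := mem_normalizer_iff_cj.1 (rp_simple cs R.nsys i).inv.mem_normalizer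
    have h2 : (n i)⁻¹ * t⁻¹ * (n i)⁻¹⁻¹ ∈ cj (n i)⁻¹ T := conj_mem_cj.2 (inv_mem ht)
    rwa [h1, inv_inv] at h2
  have hnV : (n i)⁻¹ * v⁻¹ * n i ∈ RGD.B cs h T X := by
    have h1 : Rp cs R.nsys (cs.simple i) (n i)⁻¹ := by
      have := (rp_simple cs R.nsys i).inv
      rwa [inv_simple] at this
    have h2 := conj_n_mem R (Set.mem_univ i) h1 (inv_mem hv)
    rwa [inv_inv, BJ_univ] at h2
  refine ⟨t⁻¹ * u⁻¹ * t, hu', ((n i)⁻¹ * t⁻¹ * n i) * ((n i)⁻¹ * v⁻¹ * n i), mul_mem (RGD.T_le_B hnT) hnV, ?_⟩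
  rw [e1]; group

theorem Ce_reflect [Finite Y] (P : Subgroup Y) (θ : I → ℤ) (i : I) (r : I → ℤ) :
    (Ce R P θ (rep cs h (cs.simple i) r)).ncard ≤ Nat.card (X (sr i)) * (Ce R P θ r).ncard := by
  have hsub : Ce R P θ (rep cs h (cs.simple i) r) ⊆
      (fun q : ↥(X (sr i)) × (Y ⧸ P) => ((q.1 : Y) * n i) • q.2) '' (Set.univ ×ˢ Ce R P θ r) := by
    rintro _ ⟨g, w, rfl, ⟨b₁, hb₁, k, hk, b₂, hb₂, rfl⟩, hw⟩
    obtain ⟨u, hu, b', hb', e⟩ := exists_split R (i := i) hb₁
    have hk' : Rp cs R.nsys (cs.simple i * w) ((n i)⁻¹ * k) := by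
      have := (rp_simple cs R.nsys i).inv.mul hk
      rwa [inv_simple] at this
    refine ⟨(⟨u, hu⟩, QuotientGroup.mk (b' * ((n i)⁻¹ * k) * b₂)), ⟨Set.mem_univ _, ?_⟩, ?_⟩
    · refine ⟨_, cs.simple i * w, rfl, ⟨b', hb', _, hk', b₂, hb₂, rfl⟩, ?_⟩
      rw [rep_mul_apply, hw, ← rep_mul_apply, cs.simple_mul_simple_self, map_one, Module.End.one_apply]
    · show (QuotientGroup.mk (u * n i * (b' * ((n i)⁻¹ * k) * b₂)) : Y ⧸ P) = _
      congr 1
      have e2 : u * n i * (b' * ((n i)⁻¹ * k) * b₂) = (u * n i * b') * (n i)⁻¹ * k * b₂ := by group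
      rw [e2, ← e]; group
  refine (Set.ncard_le_ncard hsub (Set.toFinite _)).trans ?_
  refine (Set.ncard_image_le (Set.toFinite _)).trans ?_
  rw [Set.ncard_prod, Set.ncard_univ]

/-- the base point -/
theorem Ce_self [Finite W] [Finite Y] {θ : I → ℤ} (hθ : Dom A θ) :
    (Ce R (PJ cs h T X (orth cs h θ)) θ θ).ncard ≤ 1 := by
  rw [Set.ncard_le_one (Set.toFinite _)]
  have key : ∀ x ∈ Ce R (PJ cs h T X (orth cs h θ)) θ θ, x = QuotientGroup.mk 1 := by
    rintro _ ⟨g, w, rfl, hc, hw⟩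
    have h1 := (mem_PJ_iff_cell R).2 ⟨w, mem_WJ_of_rep hθ hw, hc⟩
    exact (QuotientGroup.eq.2 (by simpa using h1)).symm
  intro a ha b hb
  rw [key a ha, key b hb]

end

/-- the reflection -/
def rf (A : I → I → ℤ) (i : I) (r : I → ℤ) : I → ℤ := r - pairing A i r • sr i

theorem rep_eq_rf (i : I) (r : I → ℤ) : rep cs h (cs.simple i) r = rf A i r := rep_simple_eq cs h i r

/-- A table of weighted distances from `θ`. -/
structure DistOk (A : I → I → ℤ) (e : I → ℕ) (θ : I → ℤ) (O : List (I → ℤ)) (d : (I → ℤ) → ℕ) : Prop where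
  top : θ ∈ O
  step : ∀ r ∈ O, r = θ ∨ ∃ i, rf A i r ∈ O ∧ d (rf A i r) + e i = d r
  closed : ∀ r ∈ O, ∀ i, rf A i r ∈ O

section

variable (R : RGD cs h p T n X)

include R

theorem ncard_Ce_le [Finite W] [Finite Y] {q : ℕ} (hq : 0 < q) {e : I → ℕ} (he : ∀ i, 0 < e i)
    (hX : ∀ i, Nat.card (X (sr i)) = q ^ e i) {θ : I → ℤ} (hθ : Dom A θ) {O : List (I → ℤ)} {d : (I → ℤ) → ℕ}
    (hO : DistOk A e θ O d) {r : I → ℤ} (hr : r ∈ O) :
    (Ce R (PJ cs h T X (orth cs h θ)) θ r).ncard ≤ q ^ d r := by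
  induction hN : d r using Nat.strong_induction_on generalizing r with
  | _ N ih =>
  rcases hO.step r hr with rfl | ⟨i, h1, h2⟩
  · exact (Ce_self R hθ).trans (Nat.one_le_pow _ _ hq)
  · have h3 := Ce_reflect R (PJ cs h T X (orth cs h θ)) θ i (rf A i r)
    have h4 : rep cs h (cs.simple i) (rf A i r) = r := by
      rw [← rep_eq_rf (cs := cs) (h := h), ← rep_mul_apply, cs.simple_mul_simple_self, map_one, Module.End.one_apply]
    rw [h4, hX] at h3
    have h5 := ih (d (rf A i r)) (by have := he i; omega) h1 rfl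
    calc _ ≤ q ^ e i * (Ce R (PJ cs h T X (orth cs h θ)) θ (rf A i r)).ncard := h3
      _ ≤ q ^ e i * q ^ d (rf A i r) := Nat.mul_le_mul_left _ h5
      _ = q ^ N := by rw [← pow_add, ← hN, ← h2, add_comm]

theorem sum_toFinset_le {α : Type*} [DecidableEq α] (L : List α) (f : α → ℕ) :
    ∑ r ∈ L.toFinset, f r ≤ (L.map f).sum := by
  induction L with
  | nil => simp
  | cons a L ih =>
    rw [List.toFinset_cons, List.map_cons, List.sum_cons]
    by_cases ha : a ∈ L.toFinset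
    · rw [Finset.insert_eq_self.2 ha]; omega
    · rw [Finset.sum_insert ha]; omega

/-- **The index of `P_J`.** -/
theorem index_PJ_le [Finite W] [Finite Y] (hG : GG cs h T X = ⊤) {q : ℕ} (hq : 0 < q) {e : I → ℕ}
    (he : ∀ i, 0 < e i) (hX : ∀ i, Nat.card (X (sr i)) = q ^ e i) {θ : I → ℤ} (hθ : Dom A θ)
    {O : List (I → ℤ)} {d : (I → ℤ) → ℕ} (hO : DistOk A e θ O d) :
    (PJ cs h T X (orth cs h θ)).index ≤ (O.map fun r => q ^ d r).sum := by
  classical
  set P := PJ cs h T X (orth cs h θ) with hP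
  have hmem : ∀ w : W, rep cs h w θ ∈ O := by
    intro w
    obtain ⟨ω, rfl⟩ := cs.wordProd_surjective w
    induction ω with
    | nil => rw [wordProd_nil, map_one, Module.End.one_apply]; exact hO.top
    | cons i ω ih =>
      rw [wordProd_cons, rep_mul_apply, rep_eq_rf]
      exact hO.closed _ ih i
  have h1 : (Set.univ : Set (Y ⧸ P)) ⊆ ⋃ r ∈ O.toFinset, Ce R P θ r := by
    intro x _
    obtain ⟨g, rfl⟩ := QuotientGroup.mk_surjective x
    have hg : g ∈ GG cs h T X := by rw [hG]; exact Subgroup.mem_top g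
    obtain ⟨w, hw⟩ := (mem_GG R).1 hg
    exact Set.mem_iUnion₂.2 ⟨rep cs h w θ, List.mem_toFinset.2 (hmem w), g, w, rfl, hw, rfl⟩
  have h2 : P.index = (Set.univ : Set (Y ⧸ P)).ncard := by
    rw [Subgroup.index_eq_card, Set.ncard_univ]
  rw [h2]
  refine (Set.ncard_le_ncard h1 (Set.toFinite _)).trans ?_
  refine (Finset.set_ncard_biUnion_le _ _).trans ?_
  refine (Finset.sum_le_sum fun r hr => ncard_Ce_le R hq he hX hθ hO (List.mem_toFinset.1 hr)).trans ?_
  exact sum_toFinset_le R O _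

end

end Cfsg.Agent.H752.RgdIdx
end

-- part: H441/IF/TE6A
section
/-!
# S5719, `²E₆(q)`, `q` even: the special group of the highest root (helper441)

* `heis`, `sp`, `card_Q` : `Q = ⟨X z | z 0 ≥ 1⟩`, `Z = X ρ`, `|Q| = q^21`;
* `Q_eq` : `Q` is the unipotent radical of the parabolic subgroup `PP` of the nodes orthogonal to `ρ`;
* `index_PP` : `|T : PP| ≤ 2 q^21`; `cent_Z`, `cent_Q` : the class lengths.
-/

set_option autoImplicit false
set_option linter.unusedSectionVars false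
set_option maxHeartbeats 400000

namespace Cfsg.Agent.H441.IF.TE6

open CoxeterSystem Cfsg.Agent.ChevalleyStructure.CoxeterGeom Cfsg.Agent.Tits.Roots Cfsg.Agent.Tits.Core
  Cfsg.Agent.Tits.RootComb Cfsg.Agent.Nodes.Comb Cfsg.Agent.Nodes.Reps Cfsg.Agent.Nodes.BNOf
  Cfsg.Agent.Nodes.RGDTwGen Cfsg.Agent.Nodes.RGDChev Cfsg.Agent.Nodes.RGDFold
  Cfsg.Agent.Nodes.RGDFoldSL Cfsg.Agent.Nodes.RGDTwE6 Cfsg.Agent.Nodes.RGDTwTab Cfsg.Agent.Nodes.RGDTwCoordE6
  Cfsg.Agent.Nodes.RGDTwCoord Cfsg.Agent.Nodes.RGDTwComE6 Cfsg.Agent.Nodes.RGDTwActE6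
  Cfsg.Agent.Nodes.RGDLib Cfsg.Agent.Nodes.Bruhat Cfsg.Agent.Nodes.StabComb Cfsg.Agent.Nodes.LeviDec
open Cfsg.Lie Cfsg.Agent.ChevalleyStructure
open Cfsg.Agent.KFacts.TwESix.Comb (bf rts mem_rts bf_rep rho rho_root rho_long bf_rho pairing_eq)
open Cfsg.Agent.UGT.U2.FOne Cfsg.Agent.UGT.U2.FOne.TwESix

open Cfsg.Agent.H203.IF.TE6
open Cfsg.Agent.H752.RgdIdx
open scoped commutatorElement

/-- the roots of level `1` -/
def SS : Finset (Fin 4 → ℤ) := (rts.filter fun x => x 0 = 1).toFinset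

theorem mem_SS {x : Fin 4 → ℤ} : x ∈ SS ↔ x ∈ rts ∧ x 0 = 1 := by
  unfold SS
  rw [List.mem_toFinset, List.mem_filter, decide_eq_true_eq]

theorem tab_mem : ∀ x ∈ rts, x 0 = 1 → rho - x ∈ rts ∧ (rho - x) 0 = 1 ∧ bf x x = bf (rho - x) (rho - x) := by
  decide +kernel

set_option maxRecDepth 20000 in
theorem tab_add : ∀ x ∈ rts, ∀ y ∈ rts, x 0 = 1 → y 0 = 1 → x + y ∈ rts → y = rho - x := by
  (set_option synthInstance.maxSize 100000 in exact Cfsg.Agent.Lib.Refl.of (by decide +kernel))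

theorem tab_top : ∀ x ∈ rts, 0 ≤ x 0 → rho + x ∉ rts ∧ x ≠ -rho := by
  (set_option synthInstance.maxSize 100000 in exact Cfsg.Agent.Lib.Refl.of (by decide +kernel))

theorem tab_two : ∀ x ∈ rts, 2 ≤ x 0 → x = rho := by
  decide +kernel

/-- the exponent -/
def ee (x : Fin 4 → ℤ) : ℕ := if bf x x = 4 then 1 else 2

theorem sum_ee : ∑ x ∈ SS, ee x = 20 := by decide +kernel

variable {K : Type} [Field K] [Fintype K] {q : ℕ} {φ : K →+* K} (hφ : ∀ x, φ x = x ^ q)
  (hqq : ∀ t : K, (t ^ q) ^ q = t) {W : Type*} [Group W] (cs : CoxeterSystem CoxeterMatrix.F₄ W)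
  {z w : Fin 4 → ℤ}

include hφ in
/-- an element of trace one -/
theorem exists_trace (hq : 2 ≤ q) (hK : Fintype.card K = q ^ 2) [CharP K 2] : ∃ b : K, b + φ b = 1 := by
  obtain ⟨y, hy⟩ : ∃ y, φ y ≠ y := by
    by_contra hcon
    push Not at hcon
    have h1 := card_Fq hφ hq hK
    have h2 : Nat.card (Fq φ) = Nat.card K := Nat.card_congr
      { toFun := fun a => (a : K)
        invFun := fun a => ⟨a, hcon a⟩
        left_inv := fun _ => rfl
        right_inv := fun _ => rfl }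
    rw [h1, Nat.card_eq_fintype_card, hK] at h2
    have : q * 1 < q * q := Nat.mul_lt_mul_of_pos_left (by omega) (by omega)
    rw [mul_one, ← pow_two, ← h2] at this
    exact lt_irrefl _ this
  have h2 : ∀ a : K, a + a = 0 := fun a => CharTwo.add_self_eq_zero a
  have h3 : y + φ y ≠ 0 := by
    intro h
    apply hy
    have h4 := h2 (φ y)
    calc φ y = (y + φ y) + φ y + (y + y) := by rw [h2 y, h, zero_add, add_zero]
      _ = y + (y + y) + (φ y + φ y) := by ring
      _ = y := by rw [h4, h2 y, add_zero, add_zero]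
  have h4 : φ (φ y) = y := by rw [hφ, hφ, ← pow_mul, ← pow_two, ← hK, FiniteField.pow_card]
  refine ⟨y / (y + φ y), ?_⟩
  rw [map_div₀, map_add, h4, add_comm (φ y) y, ← add_div, div_self h3]

include hφ hqq in
/-- ... covers the root group of the sum -/
theorem com_surj2 (hq : 2 ≤ q) (hK : Fintype.card K = q ^ 2) [CharP K 2] (hz : IsRoot cs isCartan z)
    (hw : IsRoot cs isCartan w) (hzw : IsRoot cs isCartan (z + w)) (hl : bf (z + w) (z + w) = 4)
    (he : bf z z = bf w w) : ∀ u ∈ X φ q z, u ≠ 1 → ∀ r ∈ X φ q (z + w), ∃ v ∈ X φ q w, ⁅u, v⁆ = r := by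
  intro u hu hu1 r hr
  obtain ⟨a, ha, rfl⟩ := (mem_X hφ hqq hz _).1 hu
  obtain ⟨c, hc, rfl⟩ := (mem_X hφ hqq hzw _).1 hr
  have ha0 : a ≠ 0 := by
    rintro rfl
    exact hu1 (x_zero hφ hqq hz)
  have hcφ := (ok_iff_long hzw (lg_iff.2 hl)).1 hc
  have hN : ((N z w : ℤ) : K) * ((N z w : ℤ) : K) = 1 := by
    rcases tabN_spec z ((mem_rts cs).1 hz) w ((mem_rts cs).1 hw) ((mem_rts cs).1 hzw) hl he with h | h
    · rw [h]; push_cast; ring
    · rw [h]; push_cast; ring
  rcases Cfsg.Agent.KFacts.TwESix.Comb.norm cs hz with h4 | h2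
  · have ha' := (ok_iff_long hz (lg_iff.2 h4)).1 ha
    have hbφ : φ (((N z w : ℤ) : K) * (a⁻¹ * c)) = ((N z w : ℤ) : K) * (a⁻¹ * c) := by
      rw [map_mul, map_mul, map_intCast, map_inv₀, ha', hcφ]
    refine ⟨_root_.Cfsg.Agent.Nodes.RGDTwComE6.x φ q w (((N z w : ℤ) : K) * (a⁻¹ * c)), x_mem hφ hqq hw (ok_long hw (lg_iff.2 (he ▸ h4)) hbφ), ?_⟩
    obtain ⟨-, h5⟩ := comm_long hφ hqq hz hw hzw (lg_iff.2 h4) (lg_iff.2 (he ▸ h4)) ha' hbφ
    rw [h5]
    congr 1
    calc ((N z w : ℤ) : K) * (a * (((N z w : ℤ) : K) * (a⁻¹ * c)))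
        = (((N z w : ℤ) : K) * ((N z w : ℤ) : K)) * (a * a⁻¹) * c := by ring
      _ = c := by rw [hN, mul_inv_cancel₀ ha0, one_mul, one_mul]
  · obtain ⟨b0, hb0⟩ := exists_trace hφ hq hK
    have hφa : φ a ≠ 0 := fun h => ha0 (by rw [← phi_phi hφ hqq a, h, map_zero])
    refine ⟨_root_.Cfsg.Agent.Nodes.RGDTwComE6.x φ q w (((N z w : ℤ) : K) * (b0 * ((φ a)⁻¹ * c))), x_mem hφ hqq hw
      (ok_short hφ hqq hw (st_iff.2 (he ▸ h2)) _), ?_⟩
    rw [comm_trace hφ hqq hz hw hzw (st_iff.2 h2) (st_iff.2 (he ▸ h2)) (lg_iff.2 hl)]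
    congr 1
    have e1 : φ (((N z w : ℤ) : K) * (b0 * ((φ a)⁻¹ * c))) = ((N z w : ℤ) : K) * (φ b0 * (a⁻¹ * c)) := by
      rw [map_mul, map_mul, map_mul, map_intCast, map_inv₀, phi_phi hφ hqq, hcφ]
    rw [e1]
    calc ((N z w : ℤ) : K) * (a * (((N z w : ℤ) : K) * (φ b0 * (a⁻¹ * c))) +
          φ a * (((N z w : ℤ) : K) * (b0 * ((φ a)⁻¹ * c))))
        = (((N z w : ℤ) : K) * ((N z w : ℤ) : K)) * (φ b0 * c * (a * a⁻¹) + b0 * c * (φ a * (φ a)⁻¹)) := by
          ring
      _ = (b0 + φ b0) * c := by rw [hN, mul_inv_cancel₀ ha0, mul_inv_cancel₀ hφa]; ring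
      _ = c := by rw [hb0, one_mul]

include hφ hqq cs in
theorem X_comm (hz : IsRoot cs isCartan z) : ∀ u ∈ X φ q z, ∀ v ∈ X φ q z, u * v = v * u := by
  intro u hu v hv
  obtain ⟨a, ha, rfl⟩ := (mem_X hφ hqq hz _).1 hu
  obtain ⟨b, hb, rfl⟩ := (mem_X hφ hqq hz _).1 hv
  rw [← x_add hφ hqq hz ha hb, ← x_add hφ hqq hz hb ha, add_comm]

include hφ hqq cs in
/-- The Heisenberg datum. -/
theorem heis (hq : 2 ≤ q) (hK : Fintype.card K = q ^ 2) [CharP K 2] :
    Cfsg.Agent.H203.IF.Heis (X φ q rho) (X φ q) SS (fun x => rho - x) where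
  mem i hi := by
    have h1 := mem_SS.1 hi
    have h2 := tab_mem i h1.1 h1.2
    exact mem_SS.2 ⟨h2.1, h2.2.1⟩
  oo i _ := sub_sub_cancel _ _
  zz := X_comm hφ hqq cs (rho_root cs)
  zx z hz i hi a ha := by
    have h1 := mem_SS.1 hi
    have h2 := tab_top i h1.1 (by omega)
    exact commute_X hφ hqq (rho_root cs) ((mem_rts cs).2 h1.1) h2.1 h2.2 z hz a ha
  comm i hi j hj hji a ha b hb := by
    have h1 := mem_SS.1 hi
    have h2 := mem_SS.1 hj
    refine commute_X hφ hqq ((mem_rts cs).2 h1.1) ((mem_rts cs).2 h2.1)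
      (fun h => hji (tab_add i h1.1 j h2.1 h1.2 h2.2 h)) (fun h => ?_) a ha b hb
    have h3 := congrFun h 0
    rw [Pi.neg_apply] at h3
    omega
  pair i hi a ha b hb := by
    have h1 := mem_SS.1 hi
    have h2 := tab_mem i h1.1 h1.2
    have h3 : i + (rho - i) = rho := add_sub_cancel _ _
    have h4 := com_mem (cs := cs) hφ hqq ((mem_rts cs).2 h1.1) ((mem_rts cs).2 h2.1)
      (by rw [h3]; exact rho_root cs) (by rw [h3]; exact rho_long) h2.2.2 a ha b hb
    rwa [h3] at h4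
  surj i hi a ha ha1 z hz := by
    have h1 := mem_SS.1 hi
    have h2 := tab_mem i h1.1 h1.2
    have h3 : i + (rho - i) = rho := add_sub_cancel _ _
    exact com_surj2 hφ hqq cs hq hK ((mem_rts cs).2 h1.1) ((mem_rts cs).2 h2.1)
      (by rw [h3]; exact rho_root cs) (by rw [h3]; exact rho_long) h2.2.2 a ha ha1 z (by rw [h3]; exact hz)

/-- `Q` -/
noncomputable def QQ (φ : K →+* K) (q : ℕ) : Subgroup ↥(twistedE6 K q) := Cfsg.Agent.H203.IF.QQ (X φ q rho) (X φ q) SS

include hφ hqq cs in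
theorem sp (hq : 2 ≤ q) (hK : Fintype.card K = q ^ 2) [CharP K 2] : H255.IFK.Sp (X φ q rho) (X φ q rho) (QQ φ q) := by
  have H := heis hφ hqq cs hq hK
  exact
    { le := le_rfl
      le' := Cfsg.Agent.H203.IF.Heis.Z_le
      central := fun w hw x hx => (H.zQ hw hx).symm
      comm_mem := fun x hx y hy => by
        have := H.com hx hy
        rwa [commutatorElement_def] at this
      special := fun x hx hxZ z hz => by
        obtain ⟨y, hy, h⟩ := H.surjQ hx hxZ hz
        exact ⟨y, hy, by rw [← h, commutatorElement_def]⟩ }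

include hφ hqq cs in
theorem card_root (hq : 2 ≤ q) (hK : Fintype.card K = q ^ 2) (hz : IsRoot cs isCartan z) :
    Nat.card (X φ q z) = q ^ ee z := by
  unfold ee
  rcases Cfsg.Agent.KFacts.TwESix.Comb.norm cs hz with h4 | h2
  · rw [if_pos h4, card_long hφ hqq hq hK hz h4, pow_one]
  · rw [if_neg (by omega), card_short hφ hqq hK hz h2]

include hφ hqq cs in
theorem card_Z (hq : 2 ≤ q) (hK : Fintype.card K = q ^ 2) : Nat.card (X φ q rho) = q :=
  card_long hφ hqq hq hK (rho_root cs) rho_long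

include hφ hqq cs in
seal _root_.Nat.card _root_.List.foldr _root_.Cardinal.toENatAux _root_.WithTop.recTopCoe _root_.WithTop.untopD _root_.Function.extend _root_.ENat.toNat _root_.decidable_of_decidable_of_iff _root_.decidable_of_iff _root_.Multiset.ofList _root_.Matrix.vecCons in
theorem card_Q (hq : 2 ≤ q) (hK : Fintype.card K = q ^ 2) [CharP K 2] :
    Nat.card (QQ φ q) = q * (q ^ 10) ^ 2 := by
  classical
  have H := heis hφ hqq cs hq hK
  have hprod : ∏ i ∈ SS, Nat.card (X φ q i) = q ^ 20 := by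
    rw [Finset.prod_congr rfl fun i hi => card_root hφ hqq cs hq hK ((mem_rts cs).2 (mem_SS.1 hi).1),
      Finset.prod_pow_eq_pow_sum, sum_ee]
  have hZ := card_Z hφ hqq cs hq hK
  have hfin : Finite ↥(twistedE6 K q) := inferInstance
  apply le_antisymm
  · let ex : ((i : SS) → X φ q i) → (Fin 4 → ℤ) → ↥(twistedE6 K q) := fun a i =>
      if h : i ∈ SS then (a ⟨i, h⟩ : ↥(twistedE6 K q)) else 1
    have hex : ∀ a, ∀ i ∈ SS, ex a i ∈ X φ q i := by
      intro a i hi
      simp only [ex, dif_pos hi]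
      exact (a ⟨i, hi⟩).2
    let f : X φ q rho × ((i : SS) → X φ q i) → QQ φ q := fun p =>
      ⟨p.1 * Cfsg.Agent.H203.IF.Heis.pr (ex p.2) SS.toList, mul_mem (Cfsg.Agent.H203.IF.Heis.Z_le p.1.2)
        (Cfsg.Agent.H203.IF.Heis.pr_mem (fun i hi => Finset.mem_toList.1 hi) (hex p.2))⟩
    have hf : Function.Surjective f := by
      rintro ⟨g, hg⟩
      obtain ⟨a, ha, z, hz, e⟩ := H.nf hg
      refine ⟨(⟨z, hz⟩, fun i => ⟨a i, ha i i.2⟩), Subtype.ext ?_⟩
      show z * Cfsg.Agent.H203.IF.Heis.pr (ex _) SS.toList = g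
      rw [e]
      refine congrArg (z * ·) ?_
      unfold Cfsg.Agent.H203.IF.Heis.pr
      refine congrArg List.prod (List.map_congr_left ?_)
      intro i hi
      have hi' := Finset.mem_toList.1 hi
      simp only [ex, dif_pos hi']
    have h1 := Nat.card_le_card_of_surjective f hf
    rw [Nat.card_prod, Nat.card_pi, hZ, Finset.prod_coe_sort SS (fun i => Nat.card (X φ q i)), hprod] at h1
    rw [← pow_mul]
    exact h1
  · have h1 := H.card_ge (by
      intro h
      rw [h, Subgroup.card_bot] at hZ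
      omega)
    rw [hprod, hZ] at h1
    rw [← pow_mul]
    exact h1

end Cfsg.Agent.H441.IF.TE6
end

-- part: H441/IF/TE6B
section
/-!
# S5719, `²E₆(q)`, `q` even: the parabolic subgroup and opposite root elements (helper441)

* `QQ_eq`, `norm_Q`, `norm_Z`, `cent_Z`, `cent_Q`;
* `conj_long` : long root elements are conjugate; `opp` : opposite elements.
-/

set_option autoImplicit false
set_option linter.unusedSectionVars false
set_option maxHeartbeats 400000

namespace Cfsg.Agent.H441.IF.TE6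

open CoxeterSystem Cfsg.Agent.ChevalleyStructure.CoxeterGeom Cfsg.Agent.Tits.Roots Cfsg.Agent.Tits.Core
  Cfsg.Agent.Tits.RootComb Cfsg.Agent.Nodes.Comb Cfsg.Agent.Nodes.Reps Cfsg.Agent.Nodes.BNOf
  Cfsg.Agent.Nodes.RGDTwGen Cfsg.Agent.Nodes.RGDChev Cfsg.Agent.Nodes.RGDFold
  Cfsg.Agent.Nodes.RGDFoldSL Cfsg.Agent.Nodes.RGDTwE6 Cfsg.Agent.Nodes.RGDTwTab Cfsg.Agent.Nodes.RGDTwCoordE6
  Cfsg.Agent.Nodes.RGDTwCoord Cfsg.Agent.Nodes.RGDTwComE6 Cfsg.Agent.Nodes.RGDTwActE6
  Cfsg.Agent.Nodes.RGDLib Cfsg.Agent.Nodes.Bruhat Cfsg.Agent.Nodes.StabComb Cfsg.Agent.Nodes.LeviDec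
open Cfsg.Lie Cfsg.Agent.ChevalleyStructure
open Cfsg.Agent.KFacts.TwESix.Comb (bf rts mem_rts bf_rep bf_rep_left rho rho_root rho_long bf_rho pairing_eq
  bf_neg_left bf_neg_right two_bf_sr exists_rep_long sr_norm)
open Cfsg.Agent.UGT.U2.FOne Cfsg.Agent.UGT.U2.FOne.TwESix
open Cfsg.Agent.H203.IF.TE6
open Cfsg.Agent.H752.RgdIdx
open scoped commutatorElement

variable {K : Type} [Field K] [Fintype K] {q : ℕ} {φ : K →+* K} (hφ : ∀ x, φ x = x ^ q)
  (hqq : ∀ t : K, (t ^ q) ^ q = t) {W : Type*} [Group W] (cs : CoxeterSystem CoxeterMatrix.F₄ W)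
  {z w : Fin 4 → ℤ}

/-- the parabolic subgroup of the nodes orthogonal to `ρ` -/
noncomputable def PP (φ : K →+* K) (q : ℕ) : Subgroup ↥(twistedE6 K q) :=
  PJ cs isCartan (T K q) (X φ q) (orth cs isCartan rho)

theorem orth_tab : ∀ k : Fin 4, ¬ pairing A k rho = 0 ↔ k = 0 := by decide +kernel

theorem not_orth {k : Fin 4} : k ∉ orth cs isCartan rho ↔ k = 0 := by
  rw [mem_orth]; exact orth_tab k

theorem mem_NotJ_iff {x : Fin 4 → ℤ} : x ∈ NotJ cs isCartan (orth cs isCartan rho) ↔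
    IsRoot cs isCartan x ∧ 0 < x 0 := by
  constructor
  · rintro ⟨h1, -, k, hk, h0⟩
    rw [not_orth] at hk
    subst hk
    exact ⟨h1, h0⟩
  · rintro ⟨h1, h0⟩
    exact ⟨h1, nonneg_of_pos_apply h1 h0, 0, (not_orth cs).2 rfl, h0⟩

theorem rho_zero : rho 0 = 2 := rfl

theorem X_le_QQ (hz : IsRoot cs isCartan z) (h0 : 0 < z 0) : X φ q z ≤ QQ φ q := by
  have hz' := (mem_rts cs).1 hz
  rcases lt_or_ge (z 0) 2 with h1 | h1
  · exact Cfsg.Agent.H203.IF.Heis.X_le (mem_SS.2 ⟨hz', by omega⟩)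
  · rw [tab_two z hz' h1]
    exact Cfsg.Agent.H203.IF.Heis.Z_le

theorem QQ_eq : QQ φ q = VJ cs isCartan (X φ q) (orth cs isCartan rho) := by
  apply le_antisymm
  · refine Cfsg.Agent.H203.IF.Heis.QQ_le ?_ fun i hi => ?_
    · exact RGD.le_Sup ((mem_NotJ_iff cs).2 ⟨rho_root cs, by rw [rho_zero]; norm_num⟩)
    · have h1 := mem_SS.1 hi
      exact RGD.le_Sup ((mem_NotJ_iff cs).2 ⟨(mem_rts cs).2 h1.1, by omega⟩)
  · refine RGD.Sup_le fun z hz => ?_
    have h1 := (mem_NotJ_iff cs).1 hz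
    exact X_le_QQ cs h1.1 h1.2

theorem tab_comm : ∀ x ∈ rts, 0 ≤ x 0 → x + rho ∉ rts ∧ rho ≠ -x := by (set_option synthInstance.maxSize 100000 in exact Cfsg.Agent.Lib.Refl.of (by decide +kernel))

include hφ hqq cs in
theorem comm_rho (hz : IsRoot cs isCartan z) (h0 : 0 ≤ z 0) :
    ∀ u ∈ X φ q z, ∀ v ∈ X φ q rho, u * v = v * u := by
  have h1 := tab_comm z ((mem_rts cs).1 hz) h0
  exact commute_X hφ hqq hz (rho_root cs) h1.1 h1.2

theorem le_normalizer_of_comm {G : Type*} [Group G] {H L : Subgroup G} (h : ∀ u ∈ H, ∀ v ∈ L, u * v = v * u) :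
    H ≤ Subgroup.normalizer (L : Set G) := by
  intro u hu
  rw [Subgroup.mem_normalizer_iff]
  intro v
  constructor
  · intro hv
    rw [h u hu v hv, mul_inv_cancel_right]
    exact hv
  · intro hv
    have h1 := h u hu _ hv
    have h2 : v = u * v * u⁻¹ := by
      have h3 : u * (u * v * u⁻¹) * u⁻¹ = u * v * u⁻¹ := by rw [h1]; group
      have h4 := mul_right_cancel h3
      exact (mul_left_cancel h4).symm
    rw [h2]
    exact hv

variable [CharP K 2]

include hφ hqq in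
theorem norm_Q : ∀ g ∈ PP cs φ q, ∀ x ∈ QQ φ q, g * x * g⁻¹ ∈ QQ φ q := by
  intro g hg x hx
  rw [QQ_eq cs] at hx ⊢
  have h1 := PJ_le_normalizer_VJ (_root_.Cfsg.Agent.Nodes.RGDTwE6.rgd cs hφ hqq 2) _ hg
  exact (Subgroup.mem_normalizer_iff.1 h1 x).1 hx

include hφ hqq in
theorem norm_Z : ∀ g ∈ PP cs φ q, ∀ x ∈ X φ q rho, g * x * g⁻¹ ∈ X φ q rho := by
  have R := _root_.Cfsg.Agent.Nodes.RGDTwE6.rgd cs hφ hqq 2
  have h1 : PP cs φ q ≤ Subgroup.normalizer (X φ q rho : Set ↥(twistedE6 K q)) := by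
    refine sup_le (sup_le (fun t ht => ?_) (RGD.Sup_le fun r hr => ?_)) (RGD.Sup_le fun r hr => ?_)
    · rw [mem_normalizer_iff_cj]
      exact R.tor rho (rho_root cs) t ht
    · have h0 : r 0 = 0 := hr.2 0 ((not_orth cs).2 rfl)
      exact le_normalizer_of_comm (comm_rho hφ hqq cs hr.1 (by omega))
    · have h0 := (mem_NotJ_iff cs).1 hr
      exact le_normalizer_of_comm (comm_rho hφ hqq cs h0.1 (by omega))
  intro g hg x hx
  exact (Subgroup.mem_normalizer_iff.1 (h1 hg) x).1 hx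

section Idx

variable (hq : 2 ≤ q) (hK : Fintype.card K = q ^ 2) (hidx : (PP cs φ q).index ≤ 2 * q ^ 21)

include hφ hqq hq hK hidx

theorem cent_Z {t : ↥(twistedE6 K q)} (ht : t ∈ X φ q rho) :
    (Subgroup.centralizer ({t} : Set ↥(twistedE6 K q))).index ≤ 2 * q ^ 21 * q := by
  have hfin : Finite ↥(twistedE6 K q) := inferInstance
  refine (H255.IFK.index_centralizer_le (norm_Z hφ hqq cs) ht).trans ?_
  rw [card_Z hφ hqq cs hq hK]
  exact Nat.mul_le_mul_right _ hidx

theorem cent_Q {t : ↥(twistedE6 K q)} (ht : t ∈ QQ φ q) :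
    (Subgroup.centralizer ({t} : Set ↥(twistedE6 K q))).index ≤ 2 * q ^ 21 * (q * (q ^ 10) ^ 2) := by
  have hfin : Finite ↥(twistedE6 K q) := inferInstance
  refine (H255.IFK.index_centralizer_le (norm_Q hφ hqq cs) ht).trans ?_
  rw [card_Q hφ hqq cs hq hK]
  exact Nat.mul_le_mul_right _ hidx

end Idx

include hφ hqq cs in
/-- root elements are involutions -/
theorem sq_one (hz : IsRoot cs isCartan z) : ∀ u ∈ X φ q z, u * u = 1 := by
  intro u hu
  obtain ⟨a, ha, rfl⟩ := (mem_X hφ hqq hz _).1 hu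
  rw [← x_add hφ hqq hz ha ha, CharTwo.add_self_eq_zero]
  exact x_zero hφ hqq hz

include hφ hqq cs in
theorem order_two (hz : IsRoot cs isCartan z) {u : ↥(twistedE6 K q)} (hu : u ∈ X φ q z) (h1 : u ≠ 1) :
    orderOf u = 2 := orderOf_eq_prime (by rw [pow_two]; exact sq_one hφ hqq cs hz u hu) h1

include hφ hqq cs in
/-- long root elements are conjugate -/
theorem conj_long (hz : IsRoot cs isCartan z) (hw : IsRoot cs isCartan w) (lz : bf z z = 4) (lw : bf w w = 4)
    {u v : ↥(twistedE6 K q)} (hu : u ∈ X φ q z) (hv : v ∈ X φ q w) (hu1 : u ≠ 1) (hv1 : v ≠ 1) : IsConj u v := by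
  have R := _root_.Cfsg.Agent.Nodes.RGDTwE6.rgd cs hφ hqq 2
  obtain ⟨w1, h1⟩ := exists_rep_long cs hz lz
  obtain ⟨w2, h2⟩ := exists_rep_long cs hw lw
  have h3 : rep cs isCartan (w2 * w1⁻¹) z = w := by
    rw [rep_mul_apply, ← h1, rep_inv_apply, h2]
  obtain ⟨k, hk⟩ := exists_rp cs R.nsys (w2 * w1⁻¹)
  have h4 := R.conj_mem hk hz hu
  rw [h3] at h4
  have h5 : k * u * k⁻¹ ≠ 1 := fun h => hu1 (by
    have : u = k⁻¹ * (k * u * k⁻¹) * k := by group
    rw [this, h]; group)
  obtain ⟨a, ha, ea⟩ := (mem_X hφ hqq hw _).1 h4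
  obtain ⟨b, hb, eb⟩ := (mem_X hφ hqq hw _).1 hv
  have ha0 : a ≠ 0 := by
    rintro rfl
    exact h5 (by rw [← ea, x_zero hφ hqq hw])
  have hb0 : b ≠ 0 := by
    rintro rfl
    exact hv1 (by rw [← eb, x_zero hφ hqq hw])
  obtain ⟨t, -, ht⟩ := exists_T hφ hqq hw ha hb ha0 hb0
  have h6 := ht a ha
  rw [div_mul_cancel₀ _ ha0, ea, eb] at h6
  exact (isConj_iff.2 ⟨k, rfl⟩ : IsConj u (k * u * k⁻¹)).trans (isConj_iff.2 ⟨t, h6⟩)

include hφ hqq cs in
/-- Opposite elements. -/
theorem opp (hq : 2 ≤ q) (hK : Fintype.card K = q ^ 2) :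
    ∃ x ∈ X φ q (-rho), x ≠ 1 ∧ ∀ c ∈ QQ φ q, c * x = x * c → c = 1 := by
  have hW : Finite W := Cfsg.Agent.KFacts.TwESix.Comb.finiteW cs
  have R := _root_.Cfsg.Agent.Nodes.RGDTwE6.rgd cs hφ hqq 2
  have H := heis hφ hqq cs hq hK
  have h0 : IsRoot cs isCartan (-sr 0) := (isRoot_sr cs isCartan 0).neg
  obtain ⟨u, hu, hu1⟩ : ∃ u ∈ X φ q (-sr 0), u ≠ 1 :=
    ⟨_root_.Cfsg.Agent.Nodes.RGDTwComE6.x φ q (-sr 0) 1, x_mem hφ hqq h0 (ok_one _), fun h => one_ne_zero ((x_eq_one_iff hφ hqq h0 (ok_one _)).1 h)⟩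
  obtain ⟨a, ha, t, ht, b, hb, e⟩ := R.rk1 0 u hu hu1
  obtain ⟨w, hw⟩ := exists_rep_long cs (rho_root cs) rho_long
  obtain ⟨k, hk⟩ := exists_rp cs R.nsys w
  have hx := R.conj_mem hk h0 hu
  have ha' := R.conj_mem hk (isRoot_sr cs isCartan 0) ha
  have hb' := R.conj_mem hk (isRoot_sr cs isCartan 0) hb
  rw [hw] at ha' hb'
  rw [map_neg, hw] at hx
  refine ⟨k * u * k⁻¹, hx, fun h => hu1 (by
    have : u = k⁻¹ * (k * u * k⁻¹) * k := by group
    rw [this, h]; group), fun c hc hcx => ?_⟩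
  set m := k * (t * _root_.Cfsg.Agent.Nodes.RGDTwE6.nn hφ 0) * k⁻¹ with hm
  have hmR : Rp cs R.nsys (w * cs.simple 0 * w⁻¹) m := by
    have h1 := (rp_of_mem (cs := cs) (hN := R.nsys) ht).mul (rp_simple cs R.nsys 0)
    rw [one_mul] at h1
    exact (hk.mul h1).mul hk.inv
  have hme : m = (k * a * k⁻¹)⁻¹ * (k * u * k⁻¹) * (k * b * k⁻¹)⁻¹ := by
    rw [hm, e]; group
  have hca := H.zQ ha' hc
  have hcb := H.zQ hb' hc
  have hmc : m * c * m⁻¹ = c := by
    have h1 : m * c = c * m := by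
      have e1 : (k * b * k⁻¹)⁻¹ * c = c * (k * b * k⁻¹)⁻¹ := by
        rw [inv_mul_eq_iff_eq_mul, ← mul_assoc, hcb, mul_assoc, mul_inv_cancel, mul_one]
      have e2 : (k * a * k⁻¹)⁻¹ * c = c * (k * a * k⁻¹)⁻¹ := by
        rw [inv_mul_eq_iff_eq_mul, ← mul_assoc, hca, mul_assoc, mul_inv_cancel, mul_one]
      rw [hme, mul_assoc, e1, ← mul_assoc, mul_assoc (k * a * k⁻¹)⁻¹, ← hcx, ← mul_assoc, e2]
      simp only [mul_assoc]
    rw [h1, mul_inv_cancel_right]
  -- `m Q m⁻¹ ≤ VNJ`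
  have h2 : m * c * m⁻¹ ∈ VNJ cs isCartan (X φ q) (orth cs isCartan rho) := by
    have hc' := hc
    rw [QQ_eq cs] at hc'
    have h3 : cj m (VJ cs isCartan (X φ q) (orth cs isCartan rho)) ≤
        VNJ cs isCartan (X φ q) (orth cs isCartan rho) := by
      unfold VJ
      rw [RGD.cj_Sup]
      refine iSup_le ?_
      rintro ⟨y, hy⟩
      have hy' := (mem_NotJ_iff cs).1 hy
      rw [R.conj_rp hmR hy'.1]
      refine RGD.le_Sup ?_
      show -(rep cs isCartan (w * cs.simple 0 * w⁻¹) y) ∈ NotJ cs isCartan (orth cs isCartan rho)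
      have e1 : pairing A 0 (rep cs isCartan w⁻¹ y) = y 0 := by
        have e2 := two_bf_sr (rep cs isCartan w⁻¹ y) 0
        rw [sr_norm.1, bf_rep_left cs w⁻¹, inv_inv, hw, bf_rho] at e2
        omega
      have e3 : rep cs isCartan (w * cs.simple 0 * w⁻¹) y = y - (y 0) • rho := by
        rw [rep_mul_apply, rep_mul_apply, rep_simple_eq, e1, map_sub, map_smul, hw, rep_apply_inv]
      rw [mem_NotJ_iff]
      refine ⟨(hy'.1.act _).neg, ?_⟩
      rw [e3, Pi.neg_apply, Pi.sub_apply, Pi.smul_apply, rho_zero, smul_eq_mul]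
      have := hy'.2
      omega
    exact h3 (conj_mem_cj.2 hc')
  rw [hmc] at h2
  have h3 : c ∈ PJ cs isCartan (T K q) (X φ q) (orth cs isCartan rho) := by
    rw [QQ_eq cs] at hc
    exact VJ_le_PJ hc
  have h4 : c ∈ VNJ cs isCartan (X φ q) (orth cs isCartan rho) ⊓ PJ cs isCartan (T K q) (X φ q)
      (orth cs isCartan rho) := ⟨h2, h3⟩
  rw [VNJ_inf_PJ R] at h4
  exact h4

end Cfsg.Agent.H441.IF.TE6
end

-- part: H441/IF/TE6C
section
/-!
# S5719, `²E₆(q)`, `q` even: all long root groups in `A` (helper441)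

* `scale`, `down` : commutators of long and short root elements;
* `all_long` : `Fix A` and all long root groups in `A`: `A = ⊤`.
-/

set_option autoImplicit false
set_option linter.unusedSectionVars false
set_option maxHeartbeats 400000

namespace Cfsg.Agent.H441.IF.TE6

open CoxeterSystem Cfsg.Agent.ChevalleyStructure.CoxeterGeom Cfsg.Agent.Tits.Roots Cfsg.Agent.Tits.Core
  Cfsg.Agent.Tits.RootComb Cfsg.Agent.Nodes.Comb Cfsg.Agent.Nodes.Reps Cfsg.Agent.Nodes.BNOf
  Cfsg.Agent.Nodes.RGDTwGen Cfsg.Agent.Nodes.RGDChev Cfsg.Agent.Nodes.RGDFold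
  Cfsg.Agent.Nodes.RGDFoldSL Cfsg.Agent.Nodes.RGDTwE6 Cfsg.Agent.Nodes.RGDTwTab Cfsg.Agent.Nodes.RGDTwCoordE6
  Cfsg.Agent.Nodes.RGDTwCoord Cfsg.Agent.Nodes.RGDTwComE6 Cfsg.Agent.Nodes.RGDTwActE6
  Cfsg.Agent.Nodes.RGDLib Cfsg.Agent.Nodes.Bruhat Cfsg.Agent.Nodes.StabComb Cfsg.Agent.Nodes.LeviDec
open Cfsg.Lie Cfsg.Agent.ChevalleyStructure
open Cfsg.Agent.KFacts.TwESix.Comb (bf rts mem_rts bf_rep bf_rep_left rho rho_root rho_long bf_rho pairing_eq
  bf_neg_left bf_neg_right two_bf_sr exists_rep_long sr_norm)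
open Cfsg.Agent.UGT.U2.FOne Cfsg.Agent.UGT.U2.FOne.TwESix
open Cfsg.Agent.H203.IF.TE6
open Cfsg.Agent.H752.RgdIdx
open scoped commutatorElement

/-- the structure constants of long and short roots are signs -/
def tabQ : Prop := ∀ z ∈ rts, ∀ w ∈ rts, z + w ∈ rts → bf z z = 4 → bf w w = 2 → N z w = 1 ∨ N z w = -1

theorem NN_sign (r s : ℕ) : Cfsg.Agent.Nodes.RGDTwCoord.NN dgE6 Cfsg.Agent.Nodes.RGDTwCoordE6.dl r s = 1 ∨
    Cfsg.Agent.Nodes.RGDTwCoord.NN dgE6 Cfsg.Agent.Nodes.RGDTwCoordE6.dl r s = -1 := by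
  have h1 : ∀ n : ℕ, Cfsg.Agent.Nodes.RGDTwCoordE6.dl n = 1 ∨ Cfsg.Agent.Nodes.RGDTwCoordE6.dl n = -1 := by
    intro n
    unfold Cfsg.Agent.Nodes.RGDTwCoordE6.dl
    split_ifs
    · exact Or.inr rfl
    · exact Or.inl rfl
  have h2 : ∀ n : ℕ, dc n = 1 ∨ dc n = -1 := by
    intro n
    unfold dc
    split_ifs
    · exact Or.inl rfl
    · exact Or.inr rfl
  unfold Cfsg.Agent.Nodes.RGDTwCoord.NN
  rcases h1 (dk (dgE6 r s)) with a | a <;> rcases h2 (dgE6 r s) with b | b <;> rcases h1 r with c | c <;>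
    rcases h1 s with d | d <;> rw [a, b, c, d] <;> decide

theorem tabQ_spec : tabQ := by
  intro z _ w _ _ _ _
  unfold N
  split_ifs
  · exact NN_sign _ _
  · exact NN_sign _ _
  · exact NN_sign _ _

/-- a long root with sum a root -/
theorem tab_ex : ∀ w ∈ rts, bf w w = 2 → ∃ z ∈ rts, bf z z = 4 ∧ z + w ∈ rts ∧ bf (z + w) (z + w) = 2 := by
  (delta Cfsg.Agent.KFacts.TwESix.Comb.bf; set_option synthInstance.maxSize 100000 in exact Cfsg.Agent.Lib.Refl.of (by decide +kernel))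

theorem tab_lev : ∀ w ∈ rts, bf w w = 2 → w 0 < 0 → w + rho ∈ rts ∧ bf (w + rho) (w + rho) = 2 ∧ 0 ≤ (w + rho) 0 := by
  decide +kernel

variable {K : Type} [Field K] [Fintype K] {q : ℕ} {φ : K →+* K} (hφ : ∀ x, φ x = x ^ q)
  (hqq : ∀ t : K, (t ^ q) ^ q = t) {W : Type*} [Group W] (cs : CoxeterSystem CoxeterMatrix.F₄ W)
  {z w : Fin 4 → ℤ} {A : Subgroup ↥(twistedE6 K q)}

include hφ hqq cs in
theorem down (hl : ∀ z, IsRoot cs isCartan z → bf z z = 4 → X φ q z ≤ A) (hz : IsRoot cs isCartan z)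
    (hw : IsRoot cs isCartan w) (hzw : IsRoot cs isCartan (z + w)) (lz : bf z z = 4) (sw : bf w w = 2) {b : K}
    (hb : _root_.Cfsg.Agent.Nodes.RGDTwComE6.x φ q w b ∈ A) {a : K} (ha : φ a = a) : _root_.Cfsg.Agent.Nodes.RGDTwComE6.x φ q (z + w) (a * b) ∈ A := by
  obtain ⟨h1, h2, h3, h4⟩ := comm_quad hφ hqq hz hw hzw (lg_iff.2 lz) (st_iff.2 sw)
    (a := ((N z w : ℤ) : K) * a) (by rw [map_mul, map_intCast, ha]) b
  have hN : ((N z w : ℤ) : K) * ((N z w : ℤ) : K) = 1 := by
    rcases tabQ_spec z ((mem_rts cs).1 hz) w ((mem_rts cs).1 hw) ((mem_rts cs).1 hzw) lz sw with h | h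
    · rw [h]; push_cast; ring
    · rw [h]; push_cast; ring
  have e1 : ((N z w : ℤ) : K) * (((N z w : ℤ) : K) * a * b) = a * b := by
    calc _ = (((N z w : ℤ) : K) * ((N z w : ℤ) : K)) * (a * b) := by ring
      _ = _ := by rw [hN, one_mul]
  rw [e1] at h4
  have h5 : _root_.Cfsg.Agent.Nodes.RGDTwComE6.x φ q z (((N z w : ℤ) : K) * a) ∈ A :=
    hl z hz lz (x_mem hφ hqq hz (ok_long hz (lg_iff.2 lz) (by rw [map_mul, map_intCast, ha])))
  have h6 : ⁅_root_.Cfsg.Agent.Nodes.RGDTwComE6.x φ q z (((N z w : ℤ) : K) * a), _root_.Cfsg.Agent.Nodes.RGDTwComE6.x φ q w b⁆ ∈ A := by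
    rw [commutatorElement_def]
    exact mul_mem (mul_mem (mul_mem h5 hb) (inv_mem h5)) (inv_mem hb)
  have h7 : _root_.Cfsg.Agent.Nodes.RGDTwComE6.x φ q (z + (2 : ℤ) • w) (((N2 z w : ℤ) : K) * (((N z w : ℤ) : K) * a * (b * φ b))) ∈ A := by
    refine hl _ h2 (lg_iff.1 h3) (x_mem hφ hqq h2 (ok_long h2 h3 ?_))
    rw [map_mul, map_mul, map_mul, map_mul, map_intCast, map_intCast, phi_phi hφ hqq, ha, mul_comm (φ b) b]
  rw [h4] at h6
  exact (Subgroup.mul_mem_cancel_right A h7).1 h6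

include hφ hqq cs in
theorem scale (hl : ∀ z, IsRoot cs isCartan z → bf z z = 4 → X φ q z ≤ A) (hw : IsRoot cs isCartan w)
    (sw : bf w w = 2) {b : K} (hb : _root_.Cfsg.Agent.Nodes.RGDTwComE6.x φ q w b ∈ A) {a : K} (ha : φ a = a) : _root_.Cfsg.Agent.Nodes.RGDTwComE6.x φ q w (a * b) ∈ A := by
  obtain ⟨z, hz', lz, hzw', szw⟩ := tab_ex w ((mem_rts cs).1 hw) sw
  have hz := (mem_rts cs).2 hz'
  have hzw := (mem_rts cs).2 hzw'
  have h1 := down hφ hqq cs hl hz hw hzw lz sw hb (a := 1) (map_one φ)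
  rw [one_mul] at h1
  have e : -z + (z + w) = w := neg_add_cancel_left z w
  have h2 := down hφ hqq cs hl hz.neg hzw (by rw [e]; exact hw) (by rw [bf_neg_left, bf_neg_right, neg_neg, lz]) szw h1 ha
  rwa [e] at h2

include hφ hqq cs in
/-- a short root group with small index -/
theorem short_le (hq : 2 ≤ q) (hK : Fintype.card K = q ^ 2)
    (hl : ∀ z, IsRoot cs isCartan z → bf z z = 4 → X φ q z ≤ A) (hw : IsRoot cs isCartan w)
    (sw : bf w w = 2) {f : ℕ} (hf : f < q) (hrel : A.relIndex (X φ q w) ≤ f) : X φ q w ≤ A := by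
  intro g hg
  obtain ⟨b, hb, rfl⟩ := (mem_X hφ hqq hw _).1 hg
  by_contra hcon
  have hfin : Finite ↥(twistedE6 K q) := inferInstance
  let ψ : Fq φ → (X φ q w) ⧸ A.subgroupOf (X φ q w) := fun a =>
    QuotientGroup.mk ⟨_root_.Cfsg.Agent.Nodes.RGDTwComE6.x φ q w ((a : K) * b), x_mem hφ hqq hw (ok_short hφ hqq hw (st_iff.2 sw) _)⟩
  have hinj : Function.Injective ψ := by
    intro a a' h
    by_contra hne
    have h1 := QuotientGroup.eq.1 h
    rw [Subgroup.mem_subgroupOf] at h1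
    have h2 : (_root_.Cfsg.Agent.Nodes.RGDTwComE6.x φ q w ((a : K) * b))⁻¹ * _root_.Cfsg.Agent.Nodes.RGDTwComE6.x φ q w ((a' : K) * b) ∈ A := h1
    have hok : ∀ c, Ok chevE6 J O φ w c := ok_short hφ hqq hw (st_iff.2 sw)
    have h3 : (_root_.Cfsg.Agent.Nodes.RGDTwComE6.x φ q w ((a : K) * b))⁻¹ * _root_.Cfsg.Agent.Nodes.RGDTwComE6.x φ q w ((a' : K) * b) = _root_.Cfsg.Agent.Nodes.RGDTwComE6.x φ q w (((a' : K) - a) * b) := by
      rw [inv_mul_eq_iff_eq_mul, ← x_add hφ hqq hw (hok _) (hok _)]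
      congr 1
      ring
    rw [h3] at h2
    have hd : (a' : K) - a ≠ 0 := fun h0 => hne (Subtype.ext (sub_eq_zero.1 h0).symm)
    have hφa : φ (a : K) = a := a.2
    have hφa' : φ (a' : K) = a' := a'.2
    have h4 := scale hφ hqq cs hl hw sw h2 (a := ((a' : K) - a)⁻¹) (by rw [map_inv₀, map_sub, hφa, hφa'])
    rw [← mul_assoc, inv_mul_cancel₀ hd, one_mul] at h4
    exact hcon h4
  have h1 := Nat.card_le_card_of_injective ψ hinj
  rw [card_Fq hφ hq hK] at h1
  have h2 : Nat.card ((X φ q w) ⧸ A.subgroupOf (X φ q w)) = A.relIndex (X φ q w) := rfl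
  omega

variable [CharP K 2]

include hφ hqq cs in
/-- the centralizer bound for a long root element of `A` -/
theorem f_lt (hq : 2 ≤ q) (hK : Fintype.card K = q ^ 2) (hidx : (PP cs φ q).index ≤ 2 * q ^ 21)
    (hA : H255.IFK.Fix A) (hl : X φ q rho ≤ A) (hl' : X φ q (-rho) ≤ A) :
    ∃ f < q, ∀ B : Subgroup ↥(twistedE6 K q), (∀ b ∈ B, ∀ v ∈ X φ q rho, b * v = v * b) → A.relIndex B ≤ f := by
  have hfin : Finite ↥(twistedE6 K q) := inferInstance
  have H := heis hφ hqq cs hq hK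
  obtain ⟨x', hx', hx1, hxQ⟩ := opp hφ hqq cs hq hK
  have hrr := rho_root cs
  set t := _root_.Cfsg.Agent.Nodes.RGDTwComE6.x φ q rho 1 with ht
  have htX : t ∈ X φ q rho := x_mem hφ hqq hrr (ok_one _)
  have ht1 : t ≠ 1 := fun h => one_ne_zero ((x_eq_one_iff hφ hqq hrr (ok_one _)).1 h)
  have hcj := conj_long hφ hqq cs hrr hrr.neg rho_long (by rw [bf_neg_left, bf_neg_right, neg_neg, rho_long]) htX hx'
    ht1 hx1
  have hQt : QQ φ q ≤ Subgroup.centralizer ({t} : Set ↥(twistedE6 K q)) := by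
    intro c hc
    rw [Subgroup.mem_centralizer_singleton_iff]
    exact (H.zQ htX hc).symm
  obtain ⟨f, h1, h2⟩ := H255.IFK.s13 hA (hl htX) (order_two hφ hqq cs hrr htX ht1) (hl' hx') hcj hQt hxQ
  refine ⟨f, ?_, fun B hB => h1 B fun b hb => ?_⟩
  · by_contra hge
    push Not at hge
    have h3 := h2.trans_le (cent_Z hφ hqq cs hq hK hidx htX)
    rw [card_Q hφ hqq cs hq hK] at h3
    have h4 : q ^ 4 * (q * (q ^ 10) ^ 2) < 2 * q ^ 21 * q :=
      lt_of_le_of_lt (Nat.mul_le_mul_right _ (Nat.pow_le_pow_left hge 4)) h3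
    have h5 : q ^ 4 * (q * (q ^ 10) ^ 2) = q ^ 22 * q ^ 3 := by ring
    have h6 : 2 * q ^ 21 * q = q ^ 22 * 2 := by ring
    rw [h5, h6] at h4
    have h7 : q ^ 3 < 2 := lt_of_mul_lt_mul_left h4 (Nat.zero_le _)
    have h8 : 2 ^ 3 ≤ q ^ 3 := Nat.pow_le_pow_left hq 3
    omega
  · rw [Subgroup.mem_centralizer_singleton_iff]
    exact hB b hb t htX

include hφ hqq in
/-- **All long root groups in `A`.** -/
theorem all_long (hq : 2 ≤ q) (hK : Fintype.card K = q ^ 2) (hidx : (PP cs φ q).index ≤ 2 * q ^ 21)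
    (hA : H255.IFK.Fix A) (hl : ∀ z, IsRoot cs isCartan z → bf z z = 4 → X φ q z ≤ A) : A = ⊤ := by
  have hrr := rho_root cs
  obtain ⟨f, hf, hrel⟩ := f_lt hφ hqq cs hq hK hidx hA (hl _ hrr rho_long)
    (hl _ hrr.neg (by rw [bf_neg_left, bf_neg_right, neg_neg, rho_long]))
  have h1 : ∀ w, IsRoot cs isCartan w → bf w w = 2 → 0 ≤ w 0 → X φ q w ≤ A := fun w hw sw h0 =>
    short_le hφ hqq cs hq hK hl hw sw hf (hrel _ fun b hb v hv => comm_rho hφ hqq cs hw h0 b hb v hv)
  have h2 : ∀ w, IsRoot cs isCartan w → X φ q w ≤ A := by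
    intro w hw
    rcases Cfsg.Agent.KFacts.TwESix.Comb.norm cs hw with lw | sw
    · exact hl w hw lw
    · rcases le_or_gt 0 (w 0) with h0 | h0
      · exact h1 w hw sw h0
      · obtain ⟨h3, h4, h5⟩ := tab_lev w ((mem_rts cs).1 hw) sw h0
        have h6 := h1 _ ((mem_rts cs).2 h3) h4 h5
        intro g hg
        obtain ⟨b, hb, rfl⟩ := (mem_X hφ hqq hw _).1 hg
        have e : -rho + (w + rho) = w := by abel
        have h7 := down hφ hqq cs hl hrr.neg ((mem_rts cs).2 h3) (by rw [e]; exact hw)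
          (by rw [bf_neg_left, bf_neg_right, neg_neg, rho_long]) h4
          (h6 (x_mem hφ hqq ((mem_rts cs).2 h3) (ok_short hφ hqq ((mem_rts cs).2 h3) (st_iff.2 h4) b)))
          (a := 1) (map_one φ)
        rwa [e, one_mul] at h7
  rw [eq_top_iff, ← _root_.Cfsg.Agent.Nodes.RGDTwE6.G1_eq_top cs hφ hqq]
  exact RGD.Sup_le fun z hz => h2 z hz

end Cfsg.Agent.H441.IF.TE6
end

-- part: H441/IF/TE6D
section
/-!
# S5719, `²E₆(q)`, `q` even: the main theorem from the index of the parabolic subgroup and the representatives (helper441)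

* `step` : long roots at angle 60°; `long_all`; `noZ`, `noQ`;
* `main` : `Fix A`, an involution in `A`: `A = ⊤`.
-/

set_option autoImplicit false
set_option linter.unusedSectionVars false
set_option maxHeartbeats 400000

namespace Cfsg.Agent.H441.IF.TE6

open CoxeterSystem Cfsg.Agent.ChevalleyStructure.CoxeterGeom Cfsg.Agent.Tits.Roots Cfsg.Agent.Tits.Core
  Cfsg.Agent.Tits.RootComb Cfsg.Agent.Nodes.Comb Cfsg.Agent.Nodes.Reps Cfsg.Agent.Nodes.BNOf
  Cfsg.Agent.Nodes.RGDTwGen Cfsg.Agent.Nodes.RGDChev Cfsg.Agent.Nodes.RGDFold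
  Cfsg.Agent.Nodes.RGDFoldSL Cfsg.Agent.Nodes.RGDTwE6 Cfsg.Agent.Nodes.RGDTwTab Cfsg.Agent.Nodes.RGDTwCoordE6
  Cfsg.Agent.Nodes.RGDTwCoord Cfsg.Agent.Nodes.RGDTwComE6 Cfsg.Agent.Nodes.RGDTwActE6
  Cfsg.Agent.Nodes.RGDLib Cfsg.Agent.Nodes.Bruhat Cfsg.Agent.Nodes.StabComb Cfsg.Agent.Nodes.LeviDec
open Cfsg.Lie Cfsg.Agent.ChevalleyStructure
open Cfsg.Agent.KFacts.TwESix.Comb (bf rts mem_rts bf_rep bf_rep_left rho rho_root rho_long bf_rho pairing_eq
  bf_neg_left bf_neg_right two_bf_sr exists_rep_long sr_norm)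
open Cfsg.Agent.UGT.U2.FOne Cfsg.Agent.UGT.U2.FOne.TwESix
open Cfsg.Agent.H203.IF.TE6
open Cfsg.Agent.H752.RgdIdx
open scoped commutatorElement Pointwise

theorem tab_path : ∀ r ∈ rts, bf r r = 4 → ∀ s ∈ rts, bf s s = 4 → bf r s ≠ -4 →
    ∃ t ∈ rts, bf t t = 4 ∧ bf r t = 2 ∧ bf t s = 2 := by (delta Cfsg.Agent.KFacts.TwESix.Comb.bf; set_option synthInstance.maxSize 100000 in exact Cfsg.Agent.Lib.Refl.of (by decide +kernel))

theorem tab_opp : ∀ r ∈ rts, bf r r = 4 → ∃ t ∈ rts, bf t t = 4 ∧ bf r t = 2 := by decide +kernel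

theorem tab_neg : ∀ r ∈ rts, bf r r = 4 → ∀ s ∈ rts, bf s s = 4 → bf r s = -4 → s = -r := by (delta Cfsg.Agent.KFacts.TwESix.Comb.bf; set_option synthInstance.maxSize 100000 in exact Cfsg.Agent.Lib.Refl.of (by decide +kernel))

variable {K : Type} [Field K] [Fintype K] {q : ℕ} {φ : K →+* K} (hφ : ∀ x, φ x = x ^ q)
  (hqq : ∀ t : K, (t ^ q) ^ q = t) {W : Type*} [Group W] (cs : CoxeterSystem CoxeterMatrix.F₄ W)
  {r s : Fin 4 → ℤ} {A : Subgroup ↥(twistedE6 K q)} [CharP K 2]

include hφ hqq cs in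
/-- **The step.** -/
theorem step (hq : 2 ≤ q) (hK : Fintype.card K = q ^ 2) (hidx : (PP cs φ q).index ≤ 2 * q ^ 21)
    (hA : H255.IFK.Fix A) (hr : IsRoot cs isCartan r) (hs : IsRoot cs isCartan s) (lr : bf r r = 4) (ls : bf s s = 4)
    (hrs : bf r s = 2) {u : ↥(twistedE6 K q)} (hu : u ∈ X φ q r) (hu1 : u ≠ 1) (huA : u ∈ A) : X φ q s ≤ A := by
  have hfin : Finite ↥(twistedE6 K q) := inferInstance
  have R := _root_.Cfsg.Agent.Nodes.RGDTwE6.rgd cs hφ hqq 2
  have H := heis hφ hqq cs hq hK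
  have hrr := rho_root cs
  obtain ⟨w0, h0⟩ := exists_rep_long cs hs ls
  obtain ⟨w1, h1⟩ := exists_rep_long cs hrr rho_long
  have hv : rep cs isCartan (w1 * w0⁻¹) s = rho := by rw [rep_mul_apply, ← h0, rep_inv_apply, h1]
  obtain ⟨k, hk⟩ := exists_rp cs R.nsys (w1 * w0⁻¹)
  set r' := rep cs isCartan (w1 * w0⁻¹) r with hr'
  have hr'r : IsRoot cs isCartan r' := hr.act _
  have lr' : bf r' r' = 4 := by rw [hr', bf_rep, lr]
  have hr0 : r' 0 = 1 := by
    have h2 : bf r' rho = 2 := by rw [← hv, hr', bf_rep, hrs]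
    rw [bf_rho] at h2
    omega
  have hSS : r' ∈ SS := mem_SS.2 ⟨(mem_rts cs).1 hr'r, hr0⟩
  have ht : k * u * k⁻¹ ∈ X φ q r' := R.conj_mem hk hr hu
  have ht1 : k * u * k⁻¹ ≠ 1 := fun h => hu1 (by
    have : u = k⁻¹ * (k * u * k⁻¹) * k := by group
    rw [this, h]; group)
  have hA' := hA.conj k
  have htA : k * u * k⁻¹ ∈ MulAut.conj k • A := H255.IFK.conj_mem_conj huA
  have hz1 : _root_.Cfsg.Agent.Nodes.RGDTwComE6.x φ q rho 1 ∈ X φ q rho := x_mem hφ hqq hrr (ok_one _)
  have hz2 : _root_.Cfsg.Agent.Nodes.RGDTwComE6.x φ q rho 1 ≠ 1 := fun h => one_ne_zero ((x_eq_one_iff hφ hqq hrr (ok_one _)).1 h)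
  have htZ : k * u * k⁻¹ ∉ X φ q rho := by
    intro hmem
    obtain ⟨b, hb, hab⟩ := H.surj r' hSS _ ht ht1 _ hz1
    have h2 := H.zx _ hmem (rho - r') (H.mem r' hSS) b hb
    rw [Cfsg.Agent.H203.IF.com_eq_one h2] at hab
    exact hz2 hab.symm
  have hle : X φ q rho ≤ MulAut.conj k • A := by
    by_contra hcon
    have h3 := H255.IFK.s1 hA' (sp hφ hqq cs hq hK) (card_Z hφ hqq cs hq hK) (card_Q hφ hqq cs hq hK) htA
      (Cfsg.Agent.H203.IF.Heis.X_le hSS ht) htZ (order_two hφ hqq cs hr'r ht ht1)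
      (fun z hz hz1 => conj_long hφ hqq cs hr'r hrr lr' rho_long ht hz ht1 hz1) hcon
    rw [H255.IFK.index_centralizer_conj (conj_long hφ hqq cs hr'r hrr lr' rho_long ht hz1 ht1 hz2)] at h3
    have h4 := cent_Z hφ hqq cs hq hK hidx hz1
    have h5 : 16 * (q ^ 10) ^ 5 < q ^ 4 * (2 * q ^ 21 * q) := lt_of_lt_of_le h3 (Nat.mul_le_mul_left _ h4)
    have h6 : q ^ 4 * (2 * q ^ 21 * q) = 2 * q ^ 26 := by ring
    have h7 : (q ^ 10) ^ 5 = q ^ 26 * q ^ 24 := by ring
    rw [h6, h7] at h5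
    have h8 : q ^ 26 ≤ q ^ 26 * q ^ 24 := Nat.le_mul_of_pos_right _ (pow_pos (by omega) _)
    omega
  intro g hg
  have h2 := R.conj_mem hk hs hg
  rw [hv] at h2
  have h3 := hle h2
  rw [H255.IFK.mem_conj] at h3
  have e : k⁻¹ * (k * g * k⁻¹) * k = g := by group
  rwa [e] at h3

include hφ hqq cs in
/-- A long root element in `A`: all long root groups are in `A`. -/
theorem long_all (hq : 2 ≤ q) (hK : Fintype.card K = q ^ 2) (hidx : (PP cs φ q).index ≤ 2 * q ^ 21)
    (hA : H255.IFK.Fix A) (hr : IsRoot cs isCartan r) (lr : bf r r = 4)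
    {u : ↥(twistedE6 K q)} (hu : u ∈ X φ q r) (hu1 : u ≠ 1) (huA : u ∈ A) :
    ∀ s, IsRoot cs isCartan s → bf s s = 4 → X φ q s ≤ A := by
  have key : ∀ r s, IsRoot cs isCartan r → IsRoot cs isCartan s → bf r r = 4 → bf s s = 4 → bf r s ≠ -4 →
      ∀ u ∈ X φ q r, u ≠ 1 → u ∈ A → X φ q s ≤ A := by
    intro r s hr hs lr ls hrs u hu hu1 huA
    obtain ⟨t, ht', lt, h1, h2⟩ := tab_path r ((mem_rts cs).1 hr) lr s ((mem_rts cs).1 hs) ls hrs
    have ht := (mem_rts cs).2 ht'
    have h3 := step hφ hqq cs hq hK hidx hA hr ht lr lt h1 hu hu1 huA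
    exact step hφ hqq cs hq hK hidx hA ht hs lt ls h2 (x_mem hφ hqq ht (ok_one _))
      (fun h => one_ne_zero ((x_eq_one_iff hφ hqq ht (ok_one _)).1 h)) (h3 (x_mem hφ hqq ht (ok_one _)))
  intro s hs ls
  by_cases h : bf r s = -4
  · have h1 := tab_neg r ((mem_rts cs).1 hr) lr s ((mem_rts cs).1 hs) ls h
    obtain ⟨t, ht', lt, h2⟩ := tab_opp r ((mem_rts cs).1 hr) lr
    have ht := (mem_rts cs).2 ht'
    have h3 := step hφ hqq cs hq hK hidx hA hr ht lr lt h2 hu hu1 huA
    refine key t s ht hs lt ls ?_ _ (x_mem hφ hqq ht (ok_one _))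
      (fun h => one_ne_zero ((x_eq_one_iff hφ hqq ht (ok_one _)).1 h)) (h3 (x_mem hφ hqq ht (ok_one _)))
    rw [h1, bf_neg_right, Cfsg.Agent.KFacts.TwESix.Comb.bf_comm, h2]
    norm_num
  · exact key r s hr hs lr ls h u hu hu1 huA

theorem top_of_conj {G : Type*} [Group G] {A : Subgroup G} {g : G} (h : MulAut.conj g • A = ⊤) : A = ⊤ := by
  rw [Subgroup.eq_top_iff']
  intro x
  have h3 : g * x * g⁻¹ ∈ MulAut.conj g • A := by rw [h]; exact Subgroup.mem_top _
  rw [H255.IFK.mem_conj] at h3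
  have e1 : g⁻¹ * (g * x * g⁻¹) * g = x := by group
  rwa [e1] at h3

section Main

variable (hq : 2 ≤ q) (hK : Fintype.card K = q ^ 2) (hidx : (PP cs φ q).index ≤ 2 * q ^ 21)
  (hA : H255.IFK.Fix A) (hne : A ≠ ⊤)

include hφ hqq cs hq hK hidx hA hne

theorem noZ (g : ↥(twistedE6 K q)) : (MulAut.conj g • A) ⊓ X φ q rho = ⊥ := by
  rw [Subgroup.eq_bot_iff_forall]
  rintro u ⟨huA, hu⟩
  by_contra hu1
  have hA' := hA.conj g
  have h1 := long_all hφ hqq cs hq hK hidx hA' (rho_root cs) rho_long hu hu1 huA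
  exact hne (top_of_conj (all_long hφ hqq cs hq hK hidx hA' h1))

theorem noQ (g : ↥(twistedE6 K q)) : (MulAut.conj g • A) ⊓ QQ φ q = ⊥ := by
  have hfin : Finite ↥(twistedE6 K q) := inferInstance
  have hrr := rho_root cs
  have hA' := hA.conj g
  have hZ := noZ hφ hqq cs hq hK hidx hA hne g
  have hz1 : _root_.Cfsg.Agent.Nodes.RGDTwComE6.x φ q rho 1 ∈ X φ q rho := x_mem hφ hqq hrr (ok_one _)
  have hz2 : _root_.Cfsg.Agent.Nodes.RGDTwComE6.x φ q rho 1 ≠ 1 := fun h => one_ne_zero ((x_eq_one_iff hφ hqq hrr (ok_one _)).1 h)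
  have hcQ := card_Q hφ hqq cs hq hK
  have hcZ := card_Z hφ hqq cs hq hK
  have hZA : ¬ X φ q rho ≤ MulAut.conj g • A := by
    intro h
    have h1 : _root_.Cfsg.Agent.Nodes.RGDTwComE6.x φ q rho 1 ∈ (MulAut.conj g • A ⊓ X φ q rho : Subgroup ↥(twistedE6 K q)) := ⟨h hz1, hz1⟩
    rw [hZ, Subgroup.mem_bot] at h1
    exact hz2 h1
  by_contra hcon
  have hex : ∃ t ∈ (MulAut.conj g • A ⊓ QQ φ q : Subgroup ↥(twistedE6 K q)), orderOf t = 2 := by
    have h1 : 1 < Nat.card (MulAut.conj g • A ⊓ QQ φ q : Subgroup ↥(twistedE6 K q)) := by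
      have := Nat.card_pos (α := (MulAut.conj g • A ⊓ QQ φ q : Subgroup ↥(twistedE6 K q)))
      rcases Nat.lt_or_ge 1 (Nat.card (MulAut.conj g • A ⊓ QQ φ q : Subgroup ↥(twistedE6 K q))) with h | h
      · exact h
      · have h5 : Nat.card (MulAut.conj g • A ⊓ QQ φ q : Subgroup ↥(twistedE6 K q)) = 1 := by omega
        exact absurd ((Subgroup.card_eq_one).1 h5) hcon
    have h2 : Nat.card (MulAut.conj g • A ⊓ QQ φ q : Subgroup ↥(twistedE6 K q)) ∣ Nat.card (QQ φ q) :=
      Subgroup.card_dvd_of_le inf_le_right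
    obtain ⟨f, -, hf⟩ := FiniteField.card K 2
    have h21 : Nat.card (QQ φ q) ∣ 2 ^ ((f : ℕ) * 21) := by
      rw [hcQ, pow_mul, ← hf, hK]
      exact ⟨q ^ 21, by ring⟩
    obtain ⟨j, -, hj⟩ := (Nat.dvd_prime_pow Nat.prime_two).1 (h2.trans h21)
    have h4 : 2 ∣ Nat.card (MulAut.conj g • A ⊓ QQ φ q : Subgroup ↥(twistedE6 K q)) := by
      rw [hj] at h1 ⊢
      rcases j with _ | j
      · omega
      · exact dvd_pow_self 2 (Nat.succ_ne_zero j)
    have : Fact (Nat.Prime 2) := ⟨Nat.prime_two⟩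
    obtain ⟨t, ht⟩ := exists_prime_orderOf_dvd_card' 2 h4
    exact ⟨t, t.2, by rw [Subgroup.orderOf_coe, ht]⟩
  obtain ⟨t, ⟨htA, htQ⟩, ho⟩ := hex
  have h1 := H255.IFK.s2 hA' (sp hφ hqq cs hq hK) (n := q ^ 10) (w := 1) hcZ hcZ hcQ
    (by rw [hZ, Subgroup.card_bot]) hZA htA htQ ho
  have h2 := cent_Q hφ hqq cs hq hK hidx htQ
  have h3 : (q * q ^ 10) ^ 5 < (q * 1) ^ 5 * (2 * q ^ 21 * (q * (q ^ 10) ^ 2)) :=
    lt_of_lt_of_le h1 (Nat.mul_le_mul_left _ h2)
  have h4 : (q * q ^ 10) ^ 5 = q ^ 47 * q ^ 8 := by ring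
  have h5 : (q * 1) ^ 5 * (2 * q ^ 21 * (q * (q ^ 10) ^ 2)) = q ^ 47 * 2 := by ring
  rw [h4, h5] at h3
  have h6 : q ^ 8 < 2 := lt_of_mul_lt_mul_left h3 (Nat.zero_le _)
  have h7 : 2 ^ 8 ≤ q ^ 8 := Nat.pow_le_pow_left hq 8
  omega

end Main

include hφ hqq cs in
/-- **The main theorem.** -/
theorem main (hq : 2 ≤ q) (hK : Fintype.card K = q ^ 2) (hidx : (PP cs φ q).index ≤ 2 * q ^ 21)
    (hrep : ∀ t : ↥(twistedE6 K q), t * t = 1 → ∃ g, g * t * g⁻¹ ∈ VJ cs isCartan (X φ q) (orth cs isCartan rho))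
    (hA : H255.IFK.Fix A) {t : ↥(twistedE6 K q)} (ht : t ∈ A) (ho : orderOf t = 2) : A = ⊤ := by
  by_contra hne
  have htt : t * t = 1 := by
    have h1 := pow_orderOf_eq_one t
    rwa [ho, pow_two] at h1
  obtain ⟨g, hg⟩ := hrep t htt
  rw [← QQ_eq cs] at hg
  have h1 : g * t * g⁻¹ ∈ (MulAut.conj g • A ⊓ QQ φ q : Subgroup ↥(twistedE6 K q)) :=
    ⟨H255.IFK.conj_mem_conj ht, hg⟩
  rw [noQ hφ hqq cs hq hK hidx hA hne g, Subgroup.mem_bot] at h1
  have h2 : t = 1 := by
    have : t = g⁻¹ * (g * t * g⁻¹) * g := by group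
    rw [this, h1]; group
  rw [h2, orderOf_one] at ho
  omega

end Cfsg.Agent.H441.IF.TE6
end

-- part: H441/IF/TE6E
section
/-!
# S5719, `²E₆(q)`, `q` even: the index of the parabolic subgroup (helper441)
-/

set_option autoImplicit false
set_option linter.unusedSectionVars false
set_option maxHeartbeats 400000

namespace Cfsg.Agent.H441.IF.TE6

open CoxeterSystem Cfsg.Agent.ChevalleyStructure.CoxeterGeom Cfsg.Agent.Tits.Roots Cfsg.Agent.Tits.Core
  Cfsg.Agent.Tits.RootComb Cfsg.Agent.Nodes.Comb Cfsg.Agent.Nodes.Reps Cfsg.Agent.Nodes.BNOf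
  Cfsg.Agent.Nodes.RGDTwGen Cfsg.Agent.Nodes.RGDChev Cfsg.Agent.Nodes.RGDFold
  Cfsg.Agent.Nodes.RGDFoldSL Cfsg.Agent.Nodes.RGDTwE6 Cfsg.Agent.Nodes.RGDTwTab Cfsg.Agent.Nodes.RGDTwCoordE6
  Cfsg.Agent.Nodes.RGDTwCoord Cfsg.Agent.Nodes.RGDTwComE6 Cfsg.Agent.Nodes.RGDTwActE6
  Cfsg.Agent.Nodes.RGDLib Cfsg.Agent.Nodes.Bruhat Cfsg.Agent.Nodes.StabComb Cfsg.Agent.Nodes.LeviDec
open Cfsg.Lie Cfsg.Agent.ChevalleyStructure
open Cfsg.Agent.KFacts.TwESix.Comb (bf rts mem_rts rho rho_root rho_long pairing_eq)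
open Cfsg.Agent.UGT.U2.FOne Cfsg.Agent.UGT.U2.FOne.TwESix
open Cfsg.Agent.H203.IF.TE6
open Cfsg.Agent.H752.RgdIdx

/-- look up in a table -/
def look (tab : List ((Fin 4 → ℤ) × ℕ)) (r : Fin 4 → ℤ) : ℕ :=
  ((tab.find? fun p => p.1 = r).map Prod.snd).getD 0

/-- weighted distances from the highest root -/
def tabE : List ((Fin 4 → ℤ) × ℕ) :=
  [(![2, 3, 4, 2], 0), (![1, 3, 4, 2], 1), (![1, 2, 4, 2], 2), (![1, 2, 2, 2], 4), (![1, 1, 2, 2], 5),
  (![0, 1, 2, 2], 6), (![1, 2, 2, 0], 6), (![1, 1, 2, 0], 7), (![0, 1, 2, 0], 8), (![1, 1, 0, 0], 9),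
  (![0, 1, 0, 0], 10), (![1, 0, 0, 0], 10), (![-1, 0, 0, 0], 11), (![0, -1, 0, 0], 11), (![-1, -1, 0, 0], 12),
  (![0, -1, -2, 0], 13), (![-1, -1, -2, 0], 14), (![-1, -2, -2, 0], 15), (![0, -1, -2, -2], 15),
  (![-1, -1, -2, -2], 16), (![-1, -2, -2, -2], 17), (![-1, -2, -4, -2], 19), (![-1, -3, -4, -2], 20),
  (![-2, -3, -4, -2], 21)]

theorem distE : DistOk A ![1, 1, 2, 2] rho (tabE.map Prod.fst) (look tabE) := by
  constructor <;> decide +kernel

theorem domE : Dom A rho := by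
  show ∀ i, 0 ≤ pairing A i rho
  decide +kernel

variable {K : Type} [Field K] [Fintype K] {q : ℕ} {φ : K →+* K} (hφ : ∀ x, φ x = x ^ q)
  (hqq : ∀ t : K, (t ^ q) ^ q = t) {W : Type*} [Group W] (cs : CoxeterSystem CoxeterMatrix.F₄ W) [CharP K 2]

theorem ee_sr : ∀ i : Fin 4, ee (sr i) = (![1, 1, 2, 2] : Fin 4 → ℕ) i := by decide +kernel

include hφ hqq in
/-- **The index.** -/
theorem index_PP (hq : 2 ≤ q) (hK : Fintype.card K = q ^ 2) : (PP cs φ q).index ≤ 2 * q ^ 21 := by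
  have hW : Finite W := Cfsg.Agent.KFacts.TwESix.Comb.finiteW cs
  have R := _root_.Cfsg.Agent.Nodes.RGDTwE6.rgd cs hφ hqq 2
  have hG := GG_top (cs := cs) φ hφ hqq
  have hfG : Finite ↥(twistedE6 K q) := inferInstance
  have hX : ∀ i, Nat.card ↥(X φ q (sr i)) = q ^ (![1, 1, 2, 2] : Fin 4 → ℕ) i := by
    intro i
    rw [card_root hφ hqq cs hq hK (isRoot_sr cs isCartan i), ee_sr]
  refine (index_PJ_le R hG (by omega) (e := ![1, 1, 2, 2]) (by decide) hX domE distE).trans ?_
  have h1 : ((tabE.map Prod.fst).map fun r => q ^ look tabE r) =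
      [0, 1, 2, 4, 5, 6, 6, 7, 8, 9, 10, 10, 11, 11, 12, 13, 14, 15, 15, 16, 17, 19, 20, 21].map fun x => q ^ x := by
    rw [show [0, 1, 2, 4, 5, 6, 6, 7, 8, 9, 10, 10, 11, 11, 12, 13, 14, 15, 15, 16, 17, 19, 20, 21] =
      (tabE.map Prod.fst).map (look tabE) by decide +kernel, List.map_map]
    rfl
  rw [h1]
  exact (Cfsg.Agent.H430.CfChev.sum_le hq _ 21 (by decide)).trans (Nat.mul_le_mul_right _ (by decide +kernel))

end Cfsg.Agent.H441.IF.TE6
end

-- part: H441/IF/TE6F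
section
/-!
# S5719, cell `te6_even`: `KillE (twistedE6 K q)`, `q` even (helper441)
-/

set_option autoImplicit false
set_option linter.unusedSectionVars false
set_option maxHeartbeats 400000

namespace Cfsg.Agent.H441.IF.TE6

open CoxeterSystem Cfsg.Agent.ChevalleyStructure.CoxeterGeom Cfsg.Agent.Tits.Roots Cfsg.Agent.Tits.Core
  Cfsg.Agent.Tits.RootComb Cfsg.Agent.Nodes.Comb Cfsg.Agent.Nodes.Reps Cfsg.Agent.Nodes.BNOf
  Cfsg.Agent.Nodes.RGDTwGen Cfsg.Agent.Nodes.RGDChev Cfsg.Agent.Nodes.RGDFold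
  Cfsg.Agent.Nodes.RGDFoldSL Cfsg.Agent.Nodes.RGDTwE6 Cfsg.Agent.Nodes.RGDTwTab Cfsg.Agent.Nodes.RGDTwCoordE6
  Cfsg.Agent.Nodes.RGDTwCoord Cfsg.Agent.Nodes.RGDTwComE6 Cfsg.Agent.Nodes.RGDTwActE6
  Cfsg.Agent.Nodes.RGDLib Cfsg.Agent.Nodes.Bruhat Cfsg.Agent.Nodes.StabComb Cfsg.Agent.Nodes.LeviDec
open Cfsg.Lie Cfsg.Agent.ChevalleyStructure
open Cfsg.Agent.ChevalleyStructure.TwE6Basic (sg twisted_le_fix exists_frob)
open Cfsg.Agent.ChevalleyStructure.TwE6BN (rs rs_le x_mem_rs)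
open Cfsg.Agent.KFacts.TwESix.Comb (bf rts mem_rts rho rho_root rho_long pairing_eq)
open Cfsg.Agent.H209.Fxy (IF KillE)
open Cfsg.Agent.H83.ChevInv (PX PX_cons PX_nil)

theorem cls71 : ∀ k < chevE6.nroots, (V chevE6 J k = rho ↔ k ∈ [71]) := by decide +kernel
theorem cls68 : ∀ k < chevE6.nroots, (V chevE6 J k = ![1, 2, 3, 2] ↔ k ∈ [68, 66]) := by decide +kernel
theorem cls53 : ∀ k < chevE6.nroots, (V chevE6 J k = ![1, 2, 2, 0] ↔ k ∈ [53]) := by decide +kernel
theorem lt71 : ∀ k ∈ [71], k < chevE6.nroots := by decide +kernel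
theorem lt68 : ∀ k ∈ [68, 66], k < chevE6.nroots := by decide +kernel
theorem lt53 : ∀ k ∈ [53], k < chevE6.nroots := by decide +kernel

variable {K : Type} [Field K] [Fintype K] {q : ℕ} {φ : K →+* K} (hφ : ∀ x, φ x = x ^ q)
  (hqq : ∀ t : K, (t ^ q) ^ q = t) {W : Type*} [Group W] (cs : CoxeterSystem CoxeterMatrix.F₄ W) [CharP K 2]

include hφ hqq in
theorem mem_X_of {z : Fin 4 → ℤ} {L : List ℕ} (hL : ∀ k < chevE6.nroots, (V chevE6 J k = z ↔ k ∈ L))
    (hlt : ∀ k ∈ L, k < chevE6.nroots) {g : ↥(twistedE6 K q)} (hg : (g : GL chevE6.Idx K) ∈ rs K L) :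
    g ∈ X φ q z := by
  show (g : GL chevE6.Idx K) ∈ R chevE6 hp K J (sg φ) z
  rw [R_eq hL hlt, rspan_eq]
  exact ⟨hg, twisted_le_fix φ hφ hqq g.2⟩

include hφ hqq in
/-- **Every involution is conjugate into `Q`.** -/
theorem rep_Q (hK : Fintype.card K = q ^ 2) (t : ↥(twistedE6 K q)) (ht : t * t = 1) :
    ∃ g, g * t * g⁻¹ ∈ VJ cs isCartan (X φ q) (orth cs isCartan rho) := by
  have h71 : X φ q rho ≤ QQ φ q := X_le_QQ cs (rho_root cs) (by decide)
  have h68 : X φ q ![1, 2, 3, 2] ≤ QQ φ q := X_le_QQ cs ((mem_rts cs).2 (by decide +kernel)) (by decide)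
  have h53 : X φ q ![1, 2, 2, 0] ≤ QQ φ q := X_le_QQ cs ((mem_rts cs).2 (by decide +kernel)) (by decide)
  rw [← QQ_eq cs]
  rcases Cfsg.Agent.H83.TwESix.exists_rep hK t.2 (congrArg Subtype.val ht) with h1 | ⟨L, hL, g, hg, e⟩
  · refine ⟨1, ?_⟩
    have : t = 1 := Subtype.ext h1
    rw [this, mul_one, one_mul, inv_one]
    exact one_mem _
  · have hmem := Cfsg.Agent.H83.TwESix.reps_mem (K := K) (q := q) hK L hL
    refine ⟨⟨g, hg⟩, ?_⟩
    have e' : (⟨g, hg⟩ : ↥(twistedE6 K q)) * t * (⟨g, hg⟩ : ↥(twistedE6 K q))⁻¹ = ⟨PX hp.inList K L, hmem⟩ :=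
      Subtype.ext e
    rw [e']
    have hx : ∀ (L : List ℕ) (r : ℕ), r ∈ L → Elts.xG hp.inList r (1 : K) ∈ rs K L := fun L r hr => x_mem_rs hr 1
    have hP2 : PX hp.inList K [68, 66] ∈ rs K [68, 66] := by
      rw [PX_cons, PX_cons, PX_nil, mul_one]
      exact mul_mem (hx _ _ (by simp)) (hx _ _ (by simp))
    have hmem2 : PX hp.inList K [68, 66] ∈ twistedE6 K q := by
      have h1 := Cfsg.Agent.H83.TwESix.reps_mem (K := K) (q := q) hK [66, 68] (by
        simp [Cfsg.Agent.H83.TwESix.reps])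
      have h5 : PX hp.inList K [66, 68] = PX hp.inList K [68, 66] :=
        Cfsg.Agent.H83.OrthRed.PX_perm ⟨by decide +kernel, by decide +kernel⟩ (List.isPerm_iff.1 (by decide +kernel))
      rwa [← h5]
    simp only [Cfsg.Agent.H83.TwESix.reps, List.mem_cons, List.not_mem_nil, or_false] at hL
    rcases hL with rfl | rfl | rfl
    · refine h71 (mem_X_of hφ hqq cls71 lt71 ?_)
      show PX hp.inList K [71] ∈ rs K [71]
      rw [PX_cons, PX_nil, mul_one]
      exact hx _ _ (by simp)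
    · refine h68 (mem_X_of hφ hqq cls68 lt68 ?_)
      show PX hp.inList K [66, 68] ∈ rs K [68, 66]
      rw [PX_cons, PX_cons, PX_nil, mul_one]
      exact mul_mem (hx _ _ (by simp)) (hx _ _ (by simp))
    · have e1 : PX hp.inList K [53, 68, 66] = Elts.xG hp.inList 53 1 * PX hp.inList K [68, 66] := PX_cons _ _ _ _
      have h53m : Elts.xG hp.inList 53 (1 : K) ∈ twistedE6 K q := by
        rw [e1] at hmem
        exact (Subgroup.mul_mem_cancel_right _ hmem2).1 hmem
      have e2 : (⟨PX hp.inList K [53, 68, 66], hmem⟩ : ↥(twistedE6 K q)) =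
          ⟨Elts.xG hp.inList 53 1, h53m⟩ * ⟨PX hp.inList K [68, 66], hmem2⟩ := Subtype.ext e1
      rw [e2]
      exact mul_mem (h53 (mem_X_of hφ hqq cls53 lt53 (hx _ _ (by simp)))) (h68 (mem_X_of hφ hqq cls68 lt68 hP2))

/-- **The cell.** -/
theorem te6_even : ∀ (K : Type) [Field K] [Fintype K] (q : ℕ), IsPrimePow q → Fintype.card K = q ^ 2 → Even q →
    IsSimpleGroup (twistedE6 K q) → KillE (twistedE6 K q) := by
  intro K _ _ q hq hK he hs A Γ h hex
  obtain ⟨t, ht, ho⟩ := hex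
  obtain ⟨φ, hφ, hqq⟩ := exists_frob hq hK
  have hc : CharP K 2 := by
    obtain ⟨p, hp⟩ := CharP.exists K
    obtain ⟨n, hpp, hn⟩ := FiniteField.card K p
    have h1 : 2 ∣ Fintype.card K := by rw [hK]; exact dvd_pow he.two_dvd (by norm_num)
    rw [hn] at h1
    have h2 : 2 = p := (Nat.prime_dvd_prime_iff_eq Nat.prime_two hpp).1 (Nat.prime_two.dvd_of_dvd_pow h1)
    rw [h2]; exact hp
  have hfin : Finite ↥(twistedE6 K q) := inferInstance
  have hna : ∃ a b : ↥(twistedE6 K q), a * b ≠ b * a := by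
    by_contra hcon
    push Not at hcon
    apply (Cfsg.Agent.S1070.result hq hK).2
    exact ⟨⟨hcon⟩⟩
  refine h.ne_top ?_
  exact main hφ hqq CoxeterMatrix.F₄.toCoxeterSystem hq.two_le hK (index_PP hφ hqq _ hq.two_le hK)
    (rep_Q hφ hqq _ hK) (H255.IFK.fix_of_IF h hna) ht ho

end Cfsg.Agent.H441.IF.TE6
end

-- part: H363/IFO/ESix
section
/-!
# S5719: `E₆(q)`, `q` even, `|A|` odd (helper363)

`e6_even_O` : `KillO (chevE6.group F)`, `q` even; all outer involutions at once: graph and graph-field involutions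
move ten pairs of positive roots of height at least two, field involutions act semilinearly on all root groups.
-/

set_option autoImplicit false
set_option linter.unusedSectionVars false

namespace Cfsg.Agent.H363.IFO

open Subgroup CoxeterSystem Cfsg.Agent.ChevalleyStructure.CoxeterGeom Cfsg.Agent.Tits.Core
  Cfsg.Agent.Nodes.Reps Cfsg.Agent.Nodes.BNOf Cfsg.Agent.Nodes.Bruhat Cfsg.Agent.Nodes.NormalForm Cfsg.Agent.Nodes
  Cfsg.Agent.KFacts.RgdFilt Cfsg.Agent.KFacts.RgdBorelTits Cfsg.Agent.OddHalf.D4.StarLoc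
  Cfsg.Agent.KFacts.RgdAut Cfsg.Agent.KFacts.RgdDiag Cfsg.Agent.KFacts.RgdField Cfsg.Agent.KFacts.RgdTau
open Cfsg.Agent.Tits.Roots hiding ht
open Cfsg.Agent.OddHalf.D4.LineRgd (ht ht_pos ht_apply)
open scoped commutatorElement

universe v

variable {I W : Type*} {Y : Type v} [Fintype I] [DecidableEq I] [Group W] [Group Y] {M : CoxeterMatrix I}
  {cs : CoxeterSystem M W} {A : I → I → ℤ} {h : IsCartan M A} {p : ℕ} {T : Subgroup Y} {n : I → Y}
  {X : (I → ℤ) → Subgroup Y}

/-- **The fixed points in `U`**, general form. -/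
theorem Dat.fix_card' {β : Y →* Y} {u : Y} {π : (I → ℤ) → I → ℤ} (D : Dat cs h X β u π) [Finite W] [Finite Y]
    (R : RGD cs h p T n X) {q : ℕ} {Q : Set (I → ℤ)}
    (hQ : ∀ x ∈ RGD.Pos cs h, x ∈ Q → (x ≠ π x ∧ π x ∉ Q ∧ q ≤ Nat.card (X x)) ∨
      (x = π x ∧ q ≤ Nat.card {y : Y // ∃ a ∈ X x, y = a * β a}))
    {c N : ℕ} (hc : c ≤ (Gt cs h 1 ∩ Q).ncard) (hq : 0 < q)
    (hN : N * Nat.card (RGD.Sup X (Gt cs h 1)) ≤ Nat.card (RGD.Sup X (RGD.Pos cs h))) :
    N * (q * q) ^ c ≤ FF (tt β u) (RGD.Sup X (RGD.Pos cs h)) ⊥ * FF (tt β u) (RGD.Sup X (RGD.Pos cs h)) ⊥ := by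
  have h1 := D.chain R hQ _ (Gt cs h 1) (up_gt 1)
    (fun x hx => ⟨D.pos x hx.1, by rw [D.hh x hx.1]; exact hx.2⟩) le_rfl
  have h2 := D.base_q
  set F1 := FF (tt β u) (RGD.Sup X (RGD.Pos cs h)) (RGD.Sup X (Gt cs h 1)) with hF1
  set F0 := FF (tt β u) (RGD.Sup X (RGD.Pos cs h)) ⊥ with hF0
  set V := Nat.card (RGD.Sup X (Gt cs h 1)) with hV
  have hpos : 0 < V := Nat.card_pos
  have h3 : F1 * q ^ c ≤ F0 * V := le_trans (Nat.mul_le_mul_left _ (Nat.pow_le_pow_right hq hc)) h1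
  refine Nat.le_of_mul_le_mul_right ?_ (Nat.mul_pos hpos hpos)
  calc N * (q * q) ^ c * (V * V) = (N * V * V) * (q * q) ^ c := by ring
    _ ≤ (Nat.card (RGD.Sup X (RGD.Pos cs h)) * V) * (q * q) ^ c :=
        Nat.mul_le_mul_right _ (Nat.mul_le_mul_right _ hN)
    _ ≤ (F1 * F1) * (q * q) ^ c := Nat.mul_le_mul_right _ h2
    _ = (F1 * q ^ c) * (F1 * q ^ c) := by rw [mul_pow]; ring
    _ ≤ (F0 * V) * (F0 * V) := Nat.mul_le_mul h3 h3
    _ = _ := by ring

/-- **The image of `1 + β`** on a group with a coordinate on which `β` acts semilinearly. -/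
theorem card_semi' [Finite Y] {F : Type*} [Field F] [Finite F] (h2 : (2 : F) = 0) {β : Y →* Y} {P : Subgroup Y}
    {y : F → Y} (hy : ∀ a, y a ∈ P) (hadd : ∀ a b, y (a + b) = y a * y b) (hinj : Function.Injective y)
    {τ : F ≃+* F} (hτ : τ ≠ 1) {d : F} (hβ : ∀ a, β (y a) = y (d * τ a)) :
    Nat.card F ≤ Nat.card {z : Y // ∃ a ∈ P, z = a * β a} * Nat.card {z : Y // ∃ a ∈ P, z = a * β a} := by
  have hτ' : ∃ a, (τ : F →+* F) a ≠ a := by
    by_contra hcon
    push Not at hcon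
    exact hτ (RingEquiv.ext hcon)
  have h6 := card_range hτ' d
  have h7 : Nat.card {b : F // ∃ a, b = a - d * (τ : F →+* F) a} ≤ Nat.card {z : Y // ∃ a ∈ P, z = a * β a} := by
    refine Nat.card_le_card_of_injective (fun b => ⟨y b.1, ?_⟩) ?_
    · obtain ⟨a, ha⟩ := b.2
      refine ⟨_, hy a, ?_⟩
      have e : b.1 = a + d * τ a := by
        rw [ha]
        have h8 : ((τ : F →+* F) a) = τ a := rfl
        rw [h8]
        linear_combination (-(d * τ a)) * h2
      rw [hβ, e, hadd]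
    · intro b b' hb
      have h8 : y b.1 = y b'.1 := congrArg Subtype.val hb
      exact Subtype.ext (hinj h8)
  exact h6.trans (Nat.mul_le_mul h7 h7)

section Out

variable {F : Type*} [Field F] {x : (I → ℤ) → F → Y} {χ : (I → ℤ) → Y → F} {hh : I → F → Y}

/-- **An outer involution of a group of Lie type in characteristic two.** -/
theorem exists_tau2 [Finite W] [Finite Y] [Nonempty I] [CharP F 2] (R : RGD cs h 2 T n X)
    (hG1 : RGD.Sup X {x | IsRoot cs h x} = ⊤)
    (C : Coords cs h T n X x χ) (H : Coroots A T X χ hh)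
    (hconn : ∀ J : Set I, J.Nonempty → J ≠ Set.univ → ∃ a ∈ J, ∃ b, b ∉ J ∧ M a b ≠ 2)
    (hA : ∀ σ : Equiv.Perm I, (∀ i j, M (σ i) (σ j) = M i j) → ∀ i j, A (σ i) (σ j) = A i j)
    {s : MulAut Y} (hs : s * s = 1) (hne : ∀ a, s ≠ MulAut.conj a) :
    ∃ (g u : Y) (β : MulAut Y) (ρ : Equiv.Perm I) (τ : F ≃+* F), u ∈ RGD.Sup X (RGD.Pos cs h) ∧
      Tau T X χ A β ρ τ ∧ (∀ y, u * β y * u⁻¹ = g⁻¹ * s (g * y * g⁻¹) * g) ∧ ρ * ρ = 1 ∧ (ρ ≠ 1 ∨ τ ≠ 1) := by
  have : Fact (Nat.Prime 2) := ⟨Nat.prime_two⟩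
  have hi : ¬ 2 ∣ (RGD.Sup X (RGD.Pos cs h)).index := by
    have h1 := Cfsg.Agent.KFacts.RgdSyl.not_dvd_relIndex R
    rwa [GG_eq_top (T := T) hG1, Subgroup.relIndex_top_right] at h1
  have hp2 : ∀ s : MulAut Y, s * s = 1 → IsPGroup 2 (Subgroup.zpowers s) := by
    intro s hs
    refine IsPGroup.iff_card.2 ?_
    rw [Nat.card_zpowers]
    exact (Nat.dvd_prime_pow Nat.prime_two (m := 1)).1 (orderOf_dvd_of_pow_eq_one (by rw [pow_one, pow_two, hs])) |>.imp
      fun k hk => hk.2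
  obtain ⟨g, hg⟩ := Cfsg.Agent.KFacts.SylFix.exists_conj_fix (p := 2) R.isPGroup_Upos hi (hp2 s hs)
  obtain ⟨s', hs'⟩ : ∃ s', s' = MulAut.conj g⁻¹ * s * MulAut.conj g := ⟨_, rfl⟩
  have hss : s' * s' = 1 := by
    rw [hs', map_inv]
    calc (MulAut.conj g)⁻¹ * s * MulAut.conj g * ((MulAut.conj g)⁻¹ * s * MulAut.conj g)
        = (MulAut.conj g)⁻¹ * (s * s) * MulAut.conj g := by group
      _ = 1 := by rw [hs]; group
  obtain ⟨f, hf⟩ := exists_outer R hG1 C H hconn hA (hp2 s' hss) (by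
    intro α hα
    obtain ⟨k, rfl⟩ := Subgroup.mem_zpowers_iff.1 hα
    have h1 : _root_.Cfsg.Agent.KFacts.RgdAut.Fix s' (RGD.Sup X (RGD.Pos cs h)) := by rw [hs']; exact hg s (Subgroup.mem_zpowers s)
    rcases Int.even_or_odd' k with ⟨m, rfl | rfl⟩
    · rw [zpow_mul, zpow_two, hss, one_zpow]
      exact fun y => Iff.rfl
    · rw [zpow_add, zpow_mul, zpow_two, hss, one_zpow, one_mul, zpow_one]
      exact h1)
  obtain ⟨⟨u, hu, hT⟩, hinn⟩ := hf ⟨s', Subgroup.mem_zpowers s'⟩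
  have hff : f ⟨s', Subgroup.mem_zpowers s'⟩ * f ⟨s', Subgroup.mem_zpowers s'⟩ = 1 := by
    rw [← map_mul, ← map_one f]
    congr 1
    exact Subtype.ext hss
  refine ⟨g, u⁻¹, _, _, _, inv_mem hu, hT, ?_, congrArg Prod.fst hff, ?_⟩
  · intro y
    simp only [hs', MulAut.mul_apply, MulAut.conj_apply]
    group
  · by_contra hcon
    push Not at hcon
    obtain ⟨v, -, hv⟩ := hinn.1 (Prod.ext hcon.1 hcon.2)
    apply hne (g * v * g⁻¹)
    have hv' : s' = MulAut.conj v := hv
    rw [map_mul, map_mul, ← hv', hs', map_inv]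
    group

end Out

end Cfsg.Agent.H363.IFO

namespace Cfsg.Agent.H363.IFO.ESix

open CoxeterSystem Cfsg.Agent.ChevalleyStructure.CoxeterGeom Cfsg.Agent.Tits.Core
  Cfsg.Agent.Nodes.Reps Cfsg.Agent.Nodes.BNOf Cfsg.Agent.Nodes Cfsg.Agent.Nodes.RGDChev
  Cfsg.Agent.ChevalleyStructure.CoxeterGeomTypes
  Cfsg.Agent.KFacts.RgdFilt Cfsg.Agent.KFacts.RgdBorelTits
  Cfsg.Agent.KFacts.RgdAut Cfsg.Agent.KFacts.RgdDiag Cfsg.Agent.KFacts.RgdField Cfsg.Agent.KFacts.RgdTau
  Cfsg.Agent.KFacts.RgdChevCoord Cfsg.Agent.H209.Fxy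
open Cfsg.Agent.Tits.Roots hiding ht
open Cfsg.Lie Cfsg.Agent.ChevalleyStructure Cfsg.Agent.ChevalleyStructure.Elts
open Cfsg.Agent.OddHalf.D4 (StarLoc.Gt)
open scoped commutatorElement

theorem hp : IsType chevE6 6 CoxeterMatrix.E₆ := by simp [IsType, typeList]

/-- the graph automorphism -/
def rho : Equiv.Perm (Fin 6) := Equiv.swap 0 5 * Equiv.swap 2 4

set_option backward.isDefEq.respectTransparency false in
set_option maxRecDepth 10000 in
theorem perm_E6 : ∀ σ : Equiv.Perm (Fin 6), (∀ i j, CoxeterMatrix.E₆ (σ i) (σ j) = CoxeterMatrix.E₆ i j) →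
    σ = 1 ∨ σ = rho := by (simp only [↓Cfsg.Agent.PermCode.M, Cfsg.Agent.PermCode.P6.R, Cfsg.Agent.PermCode.B]; decide +kernel)

theorem lab_E6 : ∀ i j : Fin 6, i ≠ j → CoxeterMatrix.E₆ i j = 2 ∨ CoxeterMatrix.E₆ i j = 3 := by
  intro i j; revert j; fin_cases i <;> decide

set_option backward.isDefEq.respectTransparency false in
theorem conn_fin : ∀ J : Finset (Fin 6), J = ∅ ∨ J = Finset.univ ∨ ∃ a b : Fin 6, a ∈ J ∧ b ∉ J ∧
    CoxeterMatrix.E₆ a b ≠ 2 := by (set_option synthInstance.maxSize 100000 in exact Cfsg.Agent.Lib.Refl.of (by decide +kernel))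

theorem conn (J : Set (Fin 6)) (h1 : J.Nonempty) (h2 : J ≠ Set.univ) : ∃ a ∈ J, ∃ b, b ∉ J ∧
    CoxeterMatrix.E₆ a b ≠ 2 := by
  classical
  rcases conn_fin J.toFinset with h3 | h3 | ⟨a, b, ha, hb, h3⟩
  · rw [Set.toFinset_eq_empty] at h3
    exact absurd h3 h1.ne_empty
  · exact absurd (by rw [← Set.coe_toFinset J, h3, Finset.coe_univ]) h2
  · exact ⟨a, Set.mem_toFinset.1 ha, b, fun hb' => hb (Set.mem_toFinset.2 hb'), h3⟩

/-- the words of representatives of the pairs of roots of height at least two -/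
def wg : List (List (Fin 6)) :=
  [[2], [2, 1], [0, 2], [0, 2, 1], [3, 0, 2], [4, 0, 2], [4, 0, 2, 1], [3, 4, 0, 2, 1], [2, 3, 4, 0, 2, 1],
    [5, 2, 3, 4, 0, 2, 1]]

/-- the words of twenty roots of height at least two -/
def wf : List (List (Fin 6)) :=
  [[1], [2], [4], [2, 1], [4, 1], [0, 2], [4, 2], [5, 4], [0, 2, 1], [4, 2, 1], [5, 4, 1], [3, 0, 2], [4, 0, 2],
    [5, 4, 2], [5, 3, 4], [4, 0, 2, 1], [3, 4, 2, 1], [5, 4, 2, 1], [5, 4, 0, 2], [3, 4, 0, 2, 1]]

/-- the roots -/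
def Qg : Finset (Fin 6 → ℤ) := (wg.map (ev (cartanOf chevE6 6) 3)).toFinset
/-- the roots -/
def Qf : Finset (Fin 6 → ℤ) := (wf.map (ev (cartanOf chevE6 6) 3)).toFinset

set_option backward.isDefEq.respectTransparency false in
theorem Qg_card : Qg.card = 10 := by decide +kernel

set_option backward.isDefEq.respectTransparency false in
theorem Qf_card : Qf.card = 20 := by decide +kernel

set_option backward.isDefEq.respectTransparency false in
theorem Qg_pos : ∀ ω ∈ wg, (∀ i, 0 ≤ ev (cartanOf chevE6 6) 3 ω i) ∧ 1 < ∑ i, ev (cartanOf chevE6 6) 3 ω i := by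
  decide +kernel

set_option backward.isDefEq.respectTransparency false in
theorem Qf_pos : ∀ ω ∈ wf, (∀ i, 0 ≤ ev (cartanOf chevE6 6) 3 ω i) ∧ 1 < ∑ i, ev (cartanOf chevE6 6) 3 ω i := by
  decide +kernel

set_option backward.isDefEq.respectTransparency false in
theorem Qg_ne : ∀ x ∈ Qg, x ≠ x ∘ rho.symm ∧ x ∘ rho.symm ∉ Qg := by decide +kernel

section

variable {F : Type*} [Field F] [Finite F] {W : Type*} [Group W] (cs : CoxeterSystem CoxeterMatrix.E₆ W)

theorem intComm : IntComm cs hp.isCartan (XX chevE6 6 F) := by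
  intro x y hx hy hxy hxy' a ha b hb
  have h1 := Cfsg.Agent.KFacts.RgdFiltChev.intComm_GL (K := F) hp cs x y hx hy hxy hxy' a ha b hb
  have h3 : FS (fun z => (XV chevE6 6 F z).subgroupOf (chevE6.group F)) {z | IB cs hp.isCartan x y z} =
      (FS (XV chevE6 6 F) {z | IB cs hp.isCartan x y z}).subgroupOf (chevE6.group F) := by
    unfold FS
    rw [Nodes.RGDLib.iSup_subgroupOf]
    rintro ⟨z, hz⟩
    exact XV_le_group hp _
  rw [h3, Subgroup.mem_subgroupOf]
  exact h1

theorem coord_card {Y K : Type*} [Group Y] [Field K] {T P : Subgroup Y} {x : K → Y} {χ : Y → K}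
    (C : Coord T P x χ) : Nat.card ↥P = Nat.card K := by
  refine (Nat.card_congr (Equiv.ofBijective (fun a => (⟨x a, (C.mem _).2 ⟨a, rfl⟩⟩ : ↥P)) ⟨?_, ?_⟩)).symm
  · intro a b h
    exact C.inj (congrArg Subtype.val h)
  · rintro ⟨y, hy⟩
    obtain ⟨a, rfl⟩ := (C.mem y).1 hy
    exact ⟨a, rfl⟩

/-- explicit roots lie above height one -/
theorem Gt_of {w : List (List (Fin 6))} (hw : ∀ ω ∈ w, (∀ i, 0 ≤ ev (cartanOf chevE6 6) 3 ω i) ∧
    1 < ∑ i, ev (cartanOf chevE6 6) 3 ω i) :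
    (StarLoc.Gt cs hp.isCartan 1 ∩ ((w.map (ev (cartanOf chevE6 6) 3)).toFinset : Set (Fin 6 → ℤ))) =
      ((w.map (ev (cartanOf chevE6 6) 3)).toFinset : Set (Fin 6 → ℤ)) := by
  rw [Set.inter_eq_right]
  intro x hx
  rw [Finset.mem_coe, List.mem_toFinset, List.mem_map] at hx
  obtain ⟨ω, hω, rfl⟩ := hx
  obtain ⟨h4, h5⟩ := hw ω hω
  exact ⟨⟨⟨_, _, (rep_ev cs hp.isCartan 3 ω).symm⟩, h4⟩, h5⟩

/-- **The fixed points of an outer involution.** -/
theorem fix_E6 [Finite W] [CharP F 2] {s : MulAut ↥(chevE6.group F)} (hs : s * s = 1)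
    (hne : ∀ a, s ≠ MulAut.conj a) :
    ∃ (g u : ↥(chevE6.group F)) (β : MulAut ↥(chevE6.group F)),
      (∀ y, tt β.toMonoidHom u y = g⁻¹ * s (g * y * g⁻¹) * g) ∧
      Nat.card F ^ 13 ≤ FF (tt β.toMonoidHom u) (RGD.Sup (XX chevE6 6 F) (RGD.Pos cs hp.isCartan)) ⊥ := by
  have : Fact (Nat.Prime 2) := ⟨Nat.prime_two⟩
  have hfin : Finite (Matrix.GeneralLinearGroup chevE6.Idx F) :=
    inferInstanceAs (Finite (Matrix chevE6.Idx chevE6.Idx F)ˣ)
  have R := rgd (K := F) hp cs 2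
  have hG1 : RGD.Sup (XX chevE6 6 F) {x | IsRoot cs hp.isCartan x} = ⊤ := G1_eq_top hp cs
  have C := coords (K := F) hp cs 2
  have H := coroots (K := F) hp cs 2
  have hI := intComm (F := F) cs
  have h2 : (2 : F) = 0 := by exact_mod_cast CharP.cast_eq_zero F 2
  obtain ⟨g, u, β, ρ, τ, hu, hT, hβ, hρ, hor⟩ := exists_tau2 R hG1 C H conn
    (fun σ hσ => cartan_of_laced hp.isCartan lab_E6 hσ) hs hne
  refine ⟨g, u, β, hβ, ?_⟩
  have hss : ∀ y, s (s y) = y := fun y => congrArg (fun e : MulAut _ => e y) hs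
  have hab : ∀ x ∈ RGD.Pos cs hp.isCartan, ∀ a ∈ XX chevE6 6 F x, ∀ b ∈ XX chevE6 6 F x, a * b = b * a := by
    intro x hx a ha b hb
    obtain ⟨a, rfl⟩ := ((C.coord x hx.1).mem _).1 ha
    obtain ⟨b, rfl⟩ := ((C.coord x hx.1).mem _).1 hb
    rw [← (C.coord x hx.1).add, ← (C.coord x hx.1).add, add_comm]
  have hsq : ∀ x ∈ RGD.Pos cs hp.isCartan, ∀ a ∈ XX chevE6 6 F x, a * a = 1 := by
    intro x hx a ha
    obtain ⟨a, rfl⟩ := ((C.coord x hx.1).mem _).1 ha
    have e : a + a = 0 := by linear_combination a * h2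
    rw [← (C.coord x hx.1).add, e, (C.coord x hx.1).zero]
  have D := dat_of R hT.diag hT.cartan hρ hI hab hsq hu (by
    intro y
    rw [hβ, hβ]
    have e : g * (g⁻¹ * s (g * y * g⁻¹) * g) * g⁻¹ = s (g * y * g⁻¹) := by group
    rw [e, hss]
    group)
  have hcard : ∀ x, IsRoot cs hp.isCartan x → Nat.card (XX chevE6 6 F x) = Nat.card F := fun x hx =>
    coord_card (C.coord x hx)
  have hN : Nat.card F ^ 6 * Nat.card (RGD.Sup (XX chevE6 6 F) (StarLoc.Gt cs hp.isCartan 1)) ≤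
      Nat.card (RGD.Sup (XX chevE6 6 F) (RGD.Pos cs hp.isCartan)) := by
    have h3 := peel_all R hI
    rw [Finset.prod_congr rfl (fun i _ => hcard _ (isRoot_sr cs hp.isCartan i)), Finset.prod_const,
      Finset.card_univ, Fintype.card_fin] at h3
    exact h3
  have hF0 : 0 < Nat.card F := Nat.card_pos
  apply Nat.mul_self_le_mul_self_iff.1
  rcases perm_E6 ρ (hT.diag.matrix R) with rfl | rfl
  · -- field automorphisms
    have hτ : τ ≠ 1 := hor.resolve_left (fun h => h rfl)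
    obtain ⟨q, hq1, hq2⟩ : ∃ q : ℕ, Nat.card F ≤ q * q ∧ ∀ m : ℕ, Nat.card F ≤ m * m → q ≤ m := by
      classical
      have hex : ∃ m : ℕ, Nat.card F ≤ m * m := ⟨Nat.card F, Nat.le_mul_of_pos_left _ hF0⟩
      exact ⟨Nat.find hex, Nat.find_spec hex, fun m hm => Nat.find_min' hex hm⟩
    have hq0 : 0 < q := by
      rcases Nat.eq_zero_or_pos q with rfl | h
      · simp at hq1; omega
      · exact h
    have h4 := D.fix_card' R (q := q) (Q := (Qf : Set (Fin 6 → ℤ))) (by
      intro x hx _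
      right
      refine ⟨rfl, hq2 _ ?_⟩
      obtain ⟨c, -, hc⟩ := Tau.root R C hT hx.1
      exact card_semi' h2 (fun a => ((C.coord x hx.1).mem _).2 ⟨a, rfl⟩) (C.coord x hx.1).add (C.coord x hx.1).inj
        hτ hc) (c := 20) (by
      unfold Qf
      rw [Gt_of cs Qf_pos, Set.ncard_coe_finset]
      exact Qf_card.ge) hq0 hN
    refine le_trans ?_ h4
    calc Nat.card F ^ 13 * Nat.card F ^ 13 = Nat.card F ^ 6 * Nat.card F ^ 20 := by ring
      _ ≤ Nat.card F ^ 6 * (q * q) ^ 20 := Nat.mul_le_mul_left _ (Nat.pow_le_pow_left hq1 20)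
  · -- graph and graph-field automorphisms
    have h4 := D.fix_card' R (q := Nat.card F) (Q := (Qg : Set (Fin 6 → ℤ))) (by
      intro x hx hxQ
      left
      obtain ⟨h5, h6⟩ := Qg_ne x hxQ
      exact ⟨h5, h6, (hcard x hx.1).ge⟩) (c := 10) (by
      unfold Qg
      rw [Gt_of cs Qg_pos, Set.ncard_coe_finset]
      exact Qg_card.ge) hF0 hN
    refine le_trans (le_of_eq ?_) h4
    ring

/-- the order of `E₆(q)` -/
theorem card_le [Fintype F] : Nat.card ↥(chevE6.group F) ≤ (Nat.card F ^ 13) ^ 6 := by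
  have h1 := Cfsg.Agent.S1063.result (F := F) (q := Nat.card F) Nat.card_eq_fintype_card.symm
  set q := Nat.card F with hq
  have hg : 0 < Nat.gcd 3 (q - 1) := Nat.gcd_pos_of_pos_left _ (by norm_num)
  have h2 : Nat.card ↥(chevE6.group F) ≤ Nat.gcd 3 (q - 1) * Nat.card ↥(chevE6.group F) := Nat.le_mul_of_pos_left _ hg
  rw [h1] at h2
  refine h2.trans ?_
  calc q ^ 36 * (q ^ 2 - 1) * (q ^ 5 - 1) * (q ^ 6 - 1) * (q ^ 8 - 1) * (q ^ 9 - 1) * (q ^ 12 - 1)
      ≤ q ^ 36 * q ^ 2 * q ^ 5 * q ^ 6 * q ^ 8 * q ^ 9 * q ^ 12 :=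
        Nat.mul_le_mul (Nat.mul_le_mul (Nat.mul_le_mul (Nat.mul_le_mul (Nat.mul_le_mul (Nat.mul_le_mul_left _
          (Nat.sub_le _ _)) (Nat.sub_le _ _)) (Nat.sub_le _ _)) (Nat.sub_le _ _)) (Nat.sub_le _ _)) (Nat.sub_le _ _)
    _ = _ := by ring

end

end Cfsg.Agent.H363.IFO.ESix

namespace Cfsg.Agent.H363.IFO

open Cfsg.Lie Cfsg.Agent.H209.Fxy Cfsg.Agent.Nodes.BNOf Cfsg.Agent.Nodes.RGDChev

/-- **`E₆(q)`, `q` even, `|A|` odd.** -/
theorem e6_even_O {F : Type*} [Field F] [Fintype F] (he : Even (Fintype.card F)) : KillO ↥(chevE6.group F) := by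
  have : Fact (Nat.Prime 2) := ⟨Nat.prime_two⟩
  have hch : CharP F 2 := by
    obtain ⟨p, hp⟩ := CharP.exists F
    obtain ⟨m, hpp, hc⟩ := FiniteField.card F p
    have h1 : 2 ∣ p ^ (m : ℕ) := by rw [← hc]; exact he.two_dvd
    have h2 : 2 = p := (Nat.prime_dvd_prime_iff_eq Nat.prime_two hpp).1 (Nat.prime_two.dvd_of_dvd_pow h1)
    rwa [h2]
  have hWf : Finite CoxeterMatrix.E₆.Group := finite_W ESix.hp CoxeterMatrix.E₆.toCoxeterSystem
  have hfin : Finite (Matrix.GeneralLinearGroup chevE6.Idx F) :=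
    inferInstanceAs (Finite (Matrix chevE6.Idx chevE6.Idx F)ˣ)
  intro A Γ hIF hO
  obtain ⟨σ, hσ, h2σ, hne⟩ := H460.IFO.exists_outer hIF hO
  have hσσ : σ * σ = 1 := by rw [← pow_two, ← h2σ]; exact pow_orderOf_eq_one σ
  obtain ⟨g, u, β, h1, h2⟩ := ESix.fix_E6 CoxeterMatrix.E₆.toCoxeterSystem hσσ hne
  have R := rgd (K := F) ESix.hp CoxeterMatrix.E₆.toCoxeterSystem 2
  exact false_of_fix hIF hO hσ h2σ R.isPGroup_Upos g (t := tt β.toMonoidHom u) h1 h2 ESix.card_le

end Cfsg.Agent.H363.IFO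
end

-- part: H118/Four/Count
section
/-!
# Counting multiplicities (TEAM FOUR, S4947)

`G` finite, `U ≤ B` subgroups.

* `exists_real` : a real irreducible character `χ ≠ 1` of odd degree with `mult H χ ≠ 0` for `|G : H|` even;
* `mult_eq` : if `U` and `B` have the same orbits on `G / B`, then `mult U χ = mult B χ` for every irreducible `χ`
  with `mult B χ ≠ 0`;
* `mult_odd` : for `U` of odd order, `mult U χ` is odd for a real character `χ` of odd degree.
-/

set_option autoImplicit false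
set_option linter.unusedSectionVars false

namespace Cfsg.Agent.H118.Four

open Cfsg Subgroup Cfsg.Agent.Characters.Core Cfsg.Agent.H601.OddDeg
open scoped ComplexConjugate Classical

section

variable {G : Type*} [Group G] [Fintype G]

/-- Real characters of odd degree. -/
theorem mult_odd {U : Subgroup G} (hodd : Odd (Nat.card U)) {χ : G → ℂ} (hχ : IsIrrCharacter G χ)
    (hreal : ∀ x, (χ x).im = 0) (hd : ¬ 2 ∣ charDegree χ) {m : ℕ} (hm : mult U χ = m) : Odd m := by
  have h1 := H618.ParInd.parity_of_real hodd (isCharacter_comp U.subtype (isIrr_isCharacter hχ))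
    (fun u => Complex.conj_eq_iff_im.2 (hreal u)) (n := charDegree χ) (m := m) (by
      change χ ((1 : U) : G) = _
      rw [Subgroup.coe_one]
      exact Cfsg.Agent.Blocks.Basic.irr_one_eq_charDegree hχ) (by
      rw [← hm, mult_eq_classInner]
      rfl)
  rw [Nat.odd_iff]
  omega

end

end Cfsg.Agent.H118.Four
end

-- part: H283/Fxo/OddIdx
section
/-!
# The index of a subgroup of odd order (S5719, block ODD)

* `degree_le_index` : a real irreducible character of odd degree of `K` has degree at most the index of every subgroup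
  of odd order.
* `exists_real_steinberg` : the Steinberg character of a split (B,N)-pair is real.
* `part_le_index` : for a group with a split (B,N)-pair of characteristic `p` (any prime `p`) the `p`-part of `|K|` is at
  most the index of every subgroup of odd order.
* `part_le_index_of_lie`, `part_le_relIndex` : the versions for simple groups of Lie type and for subgroups.
-/

set_option autoImplicit false

namespace Cfsg.Agent.H283.Fxo

open Cfsg Subgroup Cfsg.Agent.H601.OddDeg Cfsg.Agent.FixBN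

universe u

section

variable {K : Type u} [Group K] [Finite K]

/-- **The index of a subgroup of odd order** is at least the degree of every real irreducible character of odd degree. -/
theorem degree_le_index {X : Subgroup K} (hX : Odd (Nat.card X)) {χ : K → ℂ} (hχ : IsIrrCharacter K χ)
    (hreal : ∀ x, (χ x).im = 0) (hd : Odd (charDegree χ)) : charDegree χ ≤ X.index := by
  classical
  have := Fintype.ofFinite K
  have hfin : Finite (IrrCharacter K) := Cfsg.Agent.Characters.Core.finite_irr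
  have := Fintype.ofFinite (IrrCharacter K)
  have hm : ∀ χ : IrrCharacter K, ∃ n : ℕ, mult X (χ : K → ℂ) = n := fun χ =>
    exists_mult_eq X (Cfsg.Agent.Characters.Core.isIrr_isCharacter χ.2)
  choose m hm using hm
  have hdeg : ∀ χ : IrrCharacter K, (χ : K → ℂ) 1 = charDegree (χ : K → ℂ) := fun χ =>
    Cfsg.Agent.Blocks.Basic.irr_one_eq_charDegree χ.2
  have hsum : ∑ χ : IrrCharacter K, m χ * charDegree (χ : K → ℂ) = X.index := by
    have h1 := sum_mult X
    have h2 : ∀ χ : IrrCharacter K, mult X (χ : K → ℂ) * (χ : K → ℂ) 1 =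
        ((m χ * charDegree (χ : K → ℂ) : ℕ) : ℂ) := by
      intro χ
      rw [hm, hdeg]
      push_cast
      rfl
    rw [Finset.sum_congr rfl fun χ _ => h2 χ] at h1
    exact_mod_cast h1
  let c : IrrCharacter K := ⟨χ, hχ⟩
  have hodd : Odd (m c) := H118.Four.mult_odd hX hχ hreal (fun h2 => by rw [Nat.odd_iff] at hd; omega) (hm c)
  have h1 : 1 * charDegree χ ≤ m c * charDegree χ := Nat.mul_le_mul_right _ hodd.pos
  have h2 : m c * charDegree χ ≤ ∑ χ : IrrCharacter K, m χ * charDegree (χ : K → ℂ) :=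
    Finset.single_le_sum (f := fun χ : IrrCharacter K => m χ * charDegree (χ : K → ℂ)) (fun _ _ => Nat.zero_le _)
      (Finset.mem_univ c)
  omega

end

section Steinberg

open Cfsg.Agent Cfsg.Agent.Tits.Core Cfsg.Agent.Tits.Core.Bldg Cfsg.Agent.Tits.OfBN

/-- **The Steinberg character is real**, of degree the order of a Sylow subgroup. -/
theorem exists_real_steinberg {K : Type u} [Group K] [Finite K] {P : Cfsg.BNPair K} {p : ℕ} [Fact p.Prime]
    {U : Subgroup K} (h : Split P p U) :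
    ∃ χ : K → ℂ, IsIrrCharacter K χ ∧ (∀ g, (χ g).im = 0) ∧
      charDegree χ = p ^ (Nat.card K).factorization p := by
  classical
  have hN : ((P.B ⊓ P.N).subgroupOf P.N).Normal := normal_subgroupOf P
  obtain ⟨M, cs, hcs⟩ := S0320.result P
  have : Fintype P.S := Fintype.ofFinite _
  have : Fintype (K ⧸ P.B) := Fintype.ofFinite _
  have hC : Tits.OppRes.Cox cs := inferInstance
  set Δ := bldg P (Equiv.refl P.S) cs hcs with hΔ
  have S : FixBN.Sys Δ K p := FixBN.OfBN.sys (Equiv.refl P.S) cs hcs h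
  set c : K ⧸ P.B := QuotientGroup.mk 1 with hc
  have hiso : ∀ (g : K) (x y : K ⧸ P.B), Δ.δ (g • x) (g • y) = Δ.δ x y := fun g x y => _root_.Cfsg.Agent.Tits.OfBN.dist_smul P g x y
  have htr : ∀ x y x' y', Δ.δ x y = Δ.δ x' y' → ∃ g : K, g • x = x' ∧ g • y = y' :=
    fun x y x' y' hd => Cfsg.Agent.Tits.OfBN.trans P x y x' y' hd
  -- the parabolic subgroups
  let Q : Finset P.S → Subgroup K := fun J =>
    { carrier := {g | Δ.δ c (g • c) ∈ WJ cs (J : Set P.S)}
      one_mem' := by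
        show Δ.δ c ((1 : K) • c) ∈ WJ cs (J : Set P.S)
        rw [one_smul, (Δ.eq_one c c).2 rfl]
        exact one_mem _
      mul_mem' := by
        intro a b ha hb
        show Δ.δ c ((a * b) • c) ∈ WJ cs (J : Set P.S)
        have h1 : (a • c) ∈ Δ.Res (J : Set P.S) c := Δ.mem_Res.2 ha
        have h2 : (a • b • c) ∈ Δ.Res (J : Set P.S) (a • c) := by
          rw [Δ.mem_Res, hiso]; exact hb
        rw [mul_smul]
        exact Δ.mem_Res.1 (Δ.mem_Res_trans h1 h2)
      inv_mem' := by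
        intro a ha
        show Δ.δ c (a⁻¹ • c) ∈ WJ cs (J : Set P.S)
        rw [← hiso a, smul_inv_smul]
        have h1 : (a • c) ∈ Δ.Res (J : Set P.S) c := Δ.mem_Res.2 ha
        exact Δ.mem_Res.1 (Δ.mem_Res_symm h1) }
  have hQ : ∀ (J : Finset P.S) (g : K), g ∈ Q J ↔ Δ.δ c (g • c) ∈ WJ cs (J : Set P.S) := fun J g => Iff.rfl
  -- the apartment
  let a : WP P → K ⧸ P.B := fun w => QuotientGroup.mk ((w.out : P.N) : K)
  have ha : ∀ v w, Δ.δ (a v) (a w) = v⁻¹ * w := by
    intro v w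
    show _root_.Cfsg.Agent.Tits.OfBN.dist P (QuotientGroup.mk ((v.out : P.N) : K)) (QuotientGroup.mk ((w.out : P.N) : K)) = _
    rw [dist_mk]
    have h1 : ((v.out : P.N) : K)⁻¹ * ((w.out : P.N) : K) = ((v.out⁻¹ * w.out : P.N) : K) := by push_cast; rfl
    rw [h1, wt_of_mem P (n := v.out⁻¹ * w.out) (LieExceptional.BNPairCore.self_mem_C _), QuotientGroup.mk_mul,
      QuotientGroup.mk_inv, QuotientGroup.out_eq', QuotientGroup.out_eq']
  obtain ⟨h1, h2⟩ := H167.AltBldg.exists_char_alt Δ hiso htr a ha c Q hQ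
  refine ⟨_, h1, ?_, ?_⟩
  · intro g
    rw [Complex.im_sum]
    refine Finset.sum_eq_zero fun J _ => ?_
    unfold fixedPointCharacter
    rcases neg_one_pow_eq_or ℂ J.card with h3 | h3 <;> rw [h3] <;> simp only [_root_.Nat.card_coe_set_eq, _root_.one_mul, _root_.Complex.natCast_im, _root_.neg_mul, _root_.Complex.neg_im, _root_.neg_zero]
  · obtain ⟨d, hd⟩ := Tits.Opp.exists_opp Δ c
    have h3 := h2 c 1 (one_smul _ _)
    have h4 : Nat.card {y : K ⧸ P.B // Δ.Opp c y ∧ (1 : K) • y = y} = Nat.card (S.U c) := by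
      have hstab : ∀ u ∈ S.U c, ∀ e, Δ.Opp c e → Δ.Opp c (u • e) := by
        intro u hu e he
        have h1 := S.iso u c e
        rw [S.fix c u hu] at h1
        exact h1.trans he
      refine Nat.card_congr (Equiv.ofBijective
        (fun v : S.U c => (⟨(v : K) • d, hstab v v.2 d hd, one_smul _ _⟩ :
          {y : K ⧸ P.B // Δ.Opp c y ∧ (1 : K) • y = y})) ⟨?_, ?_⟩).symm
      · intro v w hvw
        have h1 : (v : K) • d = (w : K) • d := congrArg Subtype.val hvw
        have h2 : ((w : K)⁻¹ * v) • d = d := by rw [mul_smul, h1, inv_smul_smul]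
        have h3 := S.free c d hd _ (mul_mem (inv_mem w.2) v.2) h2
        exact Subtype.ext (inv_mul_eq_one.1 h3).symm
      · rintro ⟨e, he, he'⟩
        obtain ⟨v, hv, rfl⟩ := S.trans c d e hd he
        exact ⟨⟨v, hv⟩, rfl⟩
    have h5 : (charDegree (fun g : K => ∑ J ∈ (Finset.univ : Finset P.S).powerset, (-1 : ℂ) ^ J.card *
        fixedPointCharacter (Q J) g) : ℂ) = ((Nat.card (S.U c) : ℕ) : ℂ) := by
      rw [← h4, ← h3]
      exact (Blocks.Knorr.charDegree_eq h1).symm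
    have h6 := Nat.cast_injective h5
    rw [h6]
    -- `S.U c` is a Sylow `p`-subgroup
    obtain ⟨Y, hY⟩ := (S.isP c).exists_le_sylow
    obtain ⟨c', hc'⟩ := S.exists_fix Y Y.isPGroup'
    have hY' : (Y : Subgroup K) = S.U c' :=
      (Y.is_maximal' (S.isP c') (S.max c' Y Y.isPGroup' hc')).symm
    have hcard : Nat.card (S.U c) = Nat.card (S.U c') := by
      obtain ⟨g, hg⟩ := MulAction.exists_smul_eq K c c'
      have hle : ∀ (x y : K ⧸ P.B) (g : K), g • x = y → Nat.card (S.U x) ≤ Nat.card (S.U y) := by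
        intro x y g hg
        have h7 : (S.U x).map (MulAut.conj g).toMonoidHom ≤ S.U y := by
          refine S.max y _ ((S.isP x).map _) ?_
          rintro _ ⟨v, hv, rfl⟩
          show (g * v * g⁻¹) • y = y
          rw [← hg, mul_smul, mul_smul, inv_smul_smul, S.fix x v hv]
        have h8 := Subgroup.card_le_of_le h7
        rwa [Nat.card_congr ((S.U x).equivMapOfInjective _ (MulAut.conj g).injective).toEquiv.symm] at h8
      exact le_antisymm (hle c c' g hg) (hle c' c g⁻¹ (by rw [← hg, inv_smul_smul]))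
    rw [hcard, ← hY']
    exact Sylow.card_eq_multiplicity Y

end Steinberg

section

variable {K : Type u} [Group K] [Finite K] {p : ℕ}

/-- **The `p`-part of the order of a group with a split (B,N)-pair of characteristic `p` is at most the index of every
subgroup of odd order.** -/
theorem part_le_index [hp : Fact p.Prime] (h : HasSplit p K) {X : Subgroup K} (hX : Odd (Nat.card X)) :
    p ^ (Nat.card K).factorization p ≤ X.index := by
  by_cases hp2 : p = 2
  · subst hp2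
    have h1 : 2 ^ (Nat.card K).factorization 2 ∣ Nat.card X * X.index := by
      rw [X.card_mul_index]
      exact Nat.ordProj_dvd _ _
    have h2 : (2 ^ (Nat.card K).factorization 2).Coprime (Nat.card X) :=
      Nat.Coprime.pow_left _ (Nat.coprime_two_left.2 hX)
    exact Nat.le_of_dvd (Nat.pos_of_ne_zero X.index_ne_zero_of_finite) (h2.dvd_of_dvd_mul_left h1)
  · obtain ⟨P, U, -, hU⟩ := h
    obtain ⟨χ, h1, h2, h3⟩ := exists_real_steinberg hU
    rw [← h3]
    refine degree_le_index hX h1 h2 ?_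
    rw [h3]
    exact (hp.out.odd_of_ne_two hp2).pow

/-- the version for simple groups of Lie type -/
theorem part_le_index_of_lie [IsSimpleGroup K] (hp : p.Prime) (h : IsLieTypeChar p K) {X : Subgroup K}
    (hX : Odd (Nat.card X)) : p ^ (Nat.card K).factorization p ≤ X.index := by
  have : Fact p.Prime := ⟨hp⟩
  exact part_le_index (H979.LieSplit.hasSplit_of_isLieTypeChar hp h) hX

end

end Cfsg.Agent.H283.Fxo
end

-- part: H321/IF/E6O
section
/-!
# S5719: `KillO` for `E₆(q)` (helper321)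

* `no_diag` : inner-diagonal; `no_gf` : graph-field; `e6_odd_O`, `e6_O` : no counterexample with `|A|` odd in `E₆(F)`.
-/

set_option autoImplicit false
set_option linter.unusedSectionVars false

namespace Cfsg.Agent.H321.IFE6

open Subgroup Cfsg Cfsg.Lie Cfsg.Lie.ChevalleyDatum Cfsg.Agent.ChevalleyStructure Cfsg.Agent.ChevalleyStructure.Elts
  Cfsg.Agent.ChevalleyStructure.GraphSymm
open Cfsg.Agent.BpExc.FamTw.Gr
open Cfsg.Agent.H296.ESixGF
open Cfsg.Agent.H79.SimpleGen Cfsg.Agent.H79.OutChev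
open Cfsg.Agent.H209.Fxy Cfsg.Agent.H460.IFO Cfsg.Agent.H249.Pi.FldType

universe u

/-- the cube of a diagonal automorphism is inner -/
theorem cube_inner {F : Type u} [Field F] {d : MulAut ↥(chevE6.group F)} (hd : chevE6.IsDiagonalAut d) :
    ∃ t : ↥(chevE6.group F), d * d * d = MulAut.conj t := by
  obtain ⟨χ, hχ, rfl⟩ := H79.CharDiag.eq_diagAut hE hd
  have hc := H79.DiagAuts.isD_diagAut (F := F) hE hχ
  obtain ⟨t, ht, hpos, hneg⟩ := Cfsg.Agent.BpExc.FamTw.Tor.exists_diag hp6 (F := F) (m := 3)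
    (B := ![![4,3,5,6,4,2],![3,6,6,9,6,3],![5,6,10,12,8,4],![6,9,12,18,12,6],![4,6,8,12,10,5],
    ![2,3,4,6,5,4]]) (by
      intro i k
      exact Cfsg.Agent.BpExc.FamInst.inv_E6 i k)
    (b := fun i => ((χ (chevE6.simple i) : F)) ^ 3) (fun i => pow_ne_zero _ (Units.ne_zero _))
    (fun i => ⟨_, rfl⟩) (by norm_num)
  have htG : t ∈ chevE6.group F := ((le_sup_left : chevE6.diagonalSubgroup F ≤ chevE6.monomialSubgroup F).trans
    (monomial_le_group hE F)) ht
  refine ⟨⟨t, htG⟩, ?_⟩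
  refine IsD.unique ((hc.mul hc).mul hc) fun i a => ⟨Subtype.ext ?_, Subtype.ext ?_⟩
  · refine (hpos i a).trans ?_
    show _ = xG hE _ _
    congr 2
    show _ = ((χ _ * χ _ * χ _ : Fˣ) : F)
    push_cast
    ring
  · refine (hneg i a).trans ?_
    show _ = xG hE _ _
    congr 2
    show _ = (((χ _ * χ _ * χ _)⁻¹ : Fˣ) : F)
    push_cast
    congr 1
    ring

variable {F : Type} [Field F] [Fintype F] {A : Subgroup ↥(chevE6.group F)} {Γ : Subgroup (MulAut ↥(chevE6.group F))}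

/-- **no involution of diagonal type** -/
theorem no_diag (h : IF A Γ) (hO : Odd (Nat.card A)) {σ : MulAut ↥(chevE6.group F)} (hσ : σ ∈ Γ)
    (h2 : orderOf σ = 2) {y : ↥(chevE6.group F)} {d : MulAut ↥(chevE6.group F)} (hd : chevE6.IsDiagonalAut d)
    (e : σ = MulAut.conj y * d) : False := by
  obtain ⟨t, ht⟩ := cube_inner hd
  have hs : σ * σ = 1 := by rw [← pow_two, ← h2, pow_orderOf_eq_one]
  refine ne_conj h hO hσ h2 (y * d y * d (d y) * t) ?_
  have h3 : σ = σ * σ * σ := by rw [hs, one_mul]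
  rw [h3, map_mul, ← ht, map_mul, map_mul]
  have h4 : ∀ a, MulAut.conj (d a) = d * MulAut.conj a * d⁻¹ := fun a => by rw [mul_conj]; group
  rw [h4 (d y), h4 y, e]
  group

/-- **no involution of graph-field type** -/
theorem no_gf (h : IF A Γ) (hO : Odd (Nat.card A)) {σ : MulAut ↥(chevE6.group F)} (hσ : σ ∈ Γ)
    (h2 : orderOf σ = 2) {y : ↥(chevE6.group F)} {d g φ : MulAut ↥(chevE6.group F)} (hd : chevE6.IsDiagonalAut d)
    (hg : chevE6.IsGraphAut g) (hφ : chevE6.IsFieldAut φ) (hg1 : g ≠ 1) (hφ1 : φ ≠ 1)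
    (hxy : ∀ a, σ a = y * d (g (φ a)) * y⁻¹) : False := by
  have hs : σ * σ = 1 := by rw [← pow_two, ← h2, pow_orderOf_eq_one]
  obtain ⟨q, hq, hF, ⟨N, ⟨e⟩, hN, -⟩, -⟩ := comp hs hd hg hφ hg1 hφ1 hxy
  obtain ⟨p, hp⟩ := CharP.exists F
  have : Fact p.Prime := ⟨CharP.char_is_prime F p⟩
  have hfin : Finite ↥(chevE6.group F) := inferInstance
  let j : ↥N →* ↥(chevE6.group F) := (fixedSubgroup σ).subtype.comp N.subtype
  have hj : Function.Injective j := fun a b hab => Subtype.ext (Subtype.ext hab)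
  have hjf : ∀ k, σ (j k) = j k := fun k => k.1.2
  have hL : IsLieTypeChar p ↥N := by
    have : IsTwistedE6D4Char p ↥N := ⟨F, inferInstance, inferInstance, hp, q, hq, Or.inl ⟨hF, ⟨e⟩⟩⟩
    unfold IsLieTypeChar
    simp only [this, true_or, or_true]
  have h3 := Cfsg.Agent.H283.Fxo.part_le_index_of_lie (Fact.out : p.Prime) hL (X := A.comap j) (odd_comap hO hj)
  have h4 := comap_lt h hσ h2 j hjf
  -- `q ^ 36` divides the order
  have h5 : q ^ 36 ∣ Nat.card ↥N := by
    rw [Nat.card_congr e.toEquiv, ← Cfsg.Agent.S1086.result hq hF]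
    exact Subgroup.card_dvd_of_le inf_le_right
  obtain ⟨r, m, hr, hm, rfl⟩ := hq
  have hrp : r = p := by
    have h6 : p ∣ Fintype.card F := by
      have := FiniteField.cast_card_eq_zero F
      exact (CharP.cast_eq_zero_iff F p _).1 this
    rw [hF] at h6
    have h7 := (Fact.out : p.Prime).dvd_of_dvd_pow ((Fact.out : p.Prime).dvd_of_dvd_pow h6)
    exact ((Nat.prime_dvd_prime_iff_eq Fact.out hr.nat_prime).1 h7).symm
  subst hrp
  have h6 : (r ^ m) ^ 36 ≤ r ^ (Nat.card ↥N).factorization r := by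
    rw [← pow_mul] at h5 ⊢
    exact Nat.pow_le_pow_right hr.nat_prime.pos
      ((hr.nat_prime.pow_dvd_iff_le_factorization Nat.card_pos.ne').1 h5)
  have h7 := (Nat.pow_le_pow_left (h6.trans h3) 6).trans_lt (h4.trans_le (index_le_card A))
  have h8 : Nat.card ↥(chevE6.group F) ≤ Nat.card F ^ 78 := Cfsg.Agent.H460.IFO.Six.card_le6
  rw [Nat.card_eq_fintype_card (α := F), hF] at h8
  have h9 := h7.trans_le h8
  rw [← pow_mul (r ^ m) 36 6, ← pow_mul (r ^ m) 2 78] at h9
  have h10 : 1 < r ^ m := Nat.one_lt_pow hm.ne' hr.nat_prime.one_lt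
  have h11 := (Nat.pow_lt_pow_iff_right h10).1 h9
  omega

/-- **`KillO` for `E₆(F)`, `F` odd.** -/
theorem e6_odd_O (hF : ringChar F ≠ 2) : KillO (chevE6.group F) := by
  intro A Γ h hO
  obtain ⟨σ, hσ, h2, -⟩ := exists_outer h hO
  have hs : σ * σ = 1 := by rw [← pow_two, ← h2, pow_orderOf_eq_one]
  obtain ⟨y, d, g, φ, hd, hg, hφ, e⟩ := Cfsg.Agent.H79.Steinberg.exists_fac hE σ
  by_cases hg1 : g = 1
  · subst hg1
    by_cases hφ1 : φ = 1
    · subst hφ1
      exact no_diag h hO hσ h2 (y := y) hd (MulEquiv.ext fun a => e a)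
    · exact no_field (by simp [Ex5]) h hO hσ h2 hd hφ hφ1 e
  · by_cases hφ1 : φ = 1
    · subst hφ1
      obtain ⟨ζ, d', ε, hε, h3, h4⟩ := norm_form hF hs hd hg hg1 e
      exact Cfsg.Agent.H460.IFO.Six.kill_std hF h hO hσ h2 hε h3 h4
    · exact no_gf h hO hσ h2 hd hg hφ hg1 hφ1 e

/-- **`KillO` for `E₆(F)`.** -/
theorem e6_O : ∀ (F : Type) [Field F] [Fintype F], IsSimpleGroup (chevE6.group F) → KillO (chevE6.group F) := by
  intro F _ _ _
  by_cases hF : ringChar F = 2
  · refine Cfsg.Agent.H363.IFO.e6_even_O ?_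
    have hc : CharP F 2 := hF ▸ ringChar.charP F
    exact even_iff_two_dvd.2 ((CharP.cast_eq_zero_iff F 2 _).1 (FiniteField.cast_card_eq_zero F))
  · exact e6_odd_O hF

end Cfsg.Agent.H321.IFE6
end

private theorem dce_5648700161ae : _root_.True := by
  try have : _root_.True := by simp only [_root_.Cfsg.Agent.H249.Pi.FldType.Ex5.eq_1]
  try have : _root_.True := by simp only [_root_.Cfsg.Agent.Nodes.StabComb.orth.congr_simp]
  exact _root_.True.intro
end

-- part: H974/IF/SLCell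
section
prune_inst 0x20006025500010000004001080000081010000000000080000a401420008200000008000000005001800000000000000004400200000000000000400000100000080000000400108020000000000000000000000000000000000000000000000000000000
set_option linter.all false
open scoped Cfsg.Agent.FastGrp

-- part: H974/IF/Coord
section
/-!
# S5719, `SL_n`: the standard involutions `sI I` (-1 on the coordinates in `I`) and the natural subgroups (helper974)

* `NatG_le_centralizer`, `card_centralizer_sI` : `|SL_I| |SL_{Iᶜ}| ≤ |C(sI I)|`;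
* `card_block` : the elements of `NatG J` commuting with `sI (I₀ ∪ I₁)` modulo scalars are block matrices;
* `sup_natG` : `⟨NatG (I₁ ∪ R), NatG (I₀ ∪ R)⟩ = SL`, `R ≠ ∅`.
-/

set_option autoImplicit false

namespace Cfsg.Agent.H974.IF

open Matrix Subgroup
open Cfsg.Agent.H127.Gs Cfsg.Agent.H974.Gs
open Cfsg.Agent.ClassicalGeometry.AutPSL.Root (pr pr_surjective pr_eq_one_iff exists_smul_of_pr_eq)

section

variable {F : Type*} [Field F] {ι : Type*} [Fintype ι] [DecidableEq ι]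

/-- the sign function -/
def sg (F : Type*) [Field F] (I : Finset ι) (i : ι) : F := if i ∈ I then -1 else 1

omit [Fintype ι] in
theorem sg_mul (I : Finset ι) (i : ι) : sg F I i * sg F I i = 1 := by
  unfold sg
  split_ifs <;> ring

theorem det_sg {I : Finset ι} (hI : Even I.card) : (diagonal (sg F I)).det = 1 := by
  rw [det_diagonal]
  unfold sg
  rw [Finset.prod_ite, Finset.prod_const, Finset.prod_const_one, mul_one, Finset.filter_mem_eq_inter,
    Finset.univ_inter]
  exact hI.neg_one_pow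

/-- `-1` on the coordinates in `I` -/
def sI (F : Type*) [Field F] (I : Finset ι) (hI : Even I.card) : Matrix.SpecialLinearGroup ι F :=
  ⟨diagonal (sg F I), det_sg hI⟩

theorem coe_sI (I : Finset ι) (hI : Even I.card) : (sI F I hI : Matrix ι ι F) = diagonal (sg F I) := rfl

theorem sI_mul_self (I : Finset ι) (hI : Even I.card) : sI F I hI * sI F I hI = 1 := by
  apply sl_ext
  rw [Matrix.SpecialLinearGroup.coe_mul, coe_sI, diagonal_mul_diagonal, Matrix.SpecialLinearGroup.coe_one]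
  simp only [sg_mul]
  exact diagonal_one

theorem sI_inv (I : Finset ι) (hI : Even I.card) : (sI F I hI)⁻¹ = sI F I hI :=
  inv_eq_of_mul_eq_one_left (sI_mul_self I hI)

theorem sI_comm (I J : Finset ι) (hI : Even I.card) (hJ : Even J.card) :
    sI F I hI * sI F J hJ = sI F J hJ * sI F I hI := by
  apply sl_ext
  rw [Matrix.SpecialLinearGroup.coe_mul, Matrix.SpecialLinearGroup.coe_mul, coe_sI, coe_sI, diagonal_mul_diagonal,
    diagonal_mul_diagonal]
  congr 1
  funext i
  exact mul_comm _ _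

/-- `sI I` centralises the natural subgroups on subsets of `I` and of the complement -/
theorem NatG_le_centralizer {I J : Finset ι} (hI : Even I.card) {c : F} (hc : ∀ j ∈ J, sg F I j = c) :
    NatG F J ≤ centralizer ({sI F I hI} : Set (Matrix.SpecialLinearGroup ι F)) := by
  apply NatG_le
  intro v hv f hf hvf
  rw [mem_centralizer_iff]
  rintro _ rfl
  have hv' : (sI F I hI : Matrix ι ι F) *ᵥ v = c • v := by
    rw [coe_sI]
    funext i
    rw [mulVec_diagonal, Pi.smul_apply, smul_eq_mul]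
    by_cases hi : i ∈ J
    · rw [hc i hi]
    · rw [hv i hi, mul_zero, mul_zero]
  have hf' : f ᵥ* (((sI F I hI)⁻¹ : Matrix.SpecialLinearGroup ι F) : Matrix ι ι F) = c • f := by
    rw [sI_inv, coe_sI]
    funext i
    rw [vecMul_diagonal, Pi.smul_apply, smul_eq_mul, mul_comm]
    by_cases hi : i ∈ J
    · rw [hc i hi]
    · rw [hf i hi, mul_zero, mul_zero]
  by_cases hJ : J.Nonempty
  · obtain ⟨j, hj⟩ := hJ
    have hcc : c * c = 1 := by rw [← hc j hj, sg_mul]
    have h1 := conj_tv (sI F I hI) hvf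
    rw [hv', hf', tv_smul_left c (by rw [smul_dotProduct, hvf, smul_zero]), smul_smul, hcc, one_smul,
      mul_inv_eq_iff_eq_mul] at h1
    exact h1
  · have hv0 : v = 0 := by
      funext i
      exact hv i (fun hi => hJ ⟨i, hi⟩)
    rw [hv0, tv_zero_left, one_mul, mul_one]

/-- rows of elements of the natural subgroup -/
theorem NatG_fix_row {I : Finset ι} {s : Matrix.SpecialLinearGroup ι F} (hs : s ∈ NatG F I) {k : ι} (hk : k ∉ I) :
    Pi.single k 1 ᵥ* (s : Matrix ι ι F) = Pi.single k 1 := by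
  have hmul : ∀ y z : Matrix.SpecialLinearGroup ι F, Pi.single k 1 ᵥ* (y : Matrix ι ι F) = Pi.single k 1 →
      Pi.single k 1 ᵥ* (z : Matrix ι ι F) = Pi.single k 1 →
      Pi.single k 1 ᵥ* ((y * z : Matrix.SpecialLinearGroup ι F) : Matrix ι ι F) = Pi.single k 1 := by
    intro y z hy hz
    rw [Matrix.SpecialLinearGroup.coe_mul, ← vecMul_vecMul, hy, hz]
  have hinv : ∀ y : Matrix.SpecialLinearGroup ι F, Pi.single k 1 ᵥ* (y : Matrix ι ι F) = Pi.single k 1 →
      Pi.single k 1 ᵥ* ((y⁻¹ : Matrix.SpecialLinearGroup ι F) : Matrix ι ι F) = Pi.single k 1 := by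
    intro y hy
    have h1 : (y : Matrix ι ι F) * ((y⁻¹ : Matrix.SpecialLinearGroup ι F) : Matrix ι ι F) = 1 := by
      rw [← Matrix.SpecialLinearGroup.coe_mul, mul_inv_cancel, Matrix.SpecialLinearGroup.coe_one]
    conv_lhs => rw [← hy]
    rw [vecMul_vecMul, h1, vecMul_one]
  have hone : Pi.single k 1 ᵥ* ((1 : Matrix.SpecialLinearGroup ι F) : Matrix ι ι F) = Pi.single k 1 := by
    rw [Matrix.SpecialLinearGroup.coe_one, vecMul_one]
  unfold NatG at hs
  refine closure_induction (p := fun (y : Matrix.SpecialLinearGroup ι F) _ =>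
    Pi.single k 1 ᵥ* (y : Matrix ι ι F) = Pi.single k 1) ?_ hone
    (fun y z _ _ hy hz => hmul y z hy hz) (fun y _ hy => hinv y hy) hs
  rintro y ⟨v, hv, f, hf, hfv, rfl⟩
  rw [vecMul_tv hfv, single_dotProduct, hv k hk, mul_zero, zero_smul, add_zero]

theorem NatG_col_entry {I : Finset ι} {s : Matrix.SpecialLinearGroup ι F} (hs : s ∈ NatG F I) {k : ι} (hk : k ∉ I) (i : ι) :
    (s : Matrix ι ι F) i k = if i = k then 1 else 0 := by
  have h1 := congrFun (NatG_fix hs hk) i
  rw [mulVec_single_one] at h1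
  rw [← col_apply (s : Matrix ι ι F) k i, h1, Pi.single_apply]

theorem NatG_row_entry {I : Finset ι} {s : Matrix.SpecialLinearGroup ι F} (hs : s ∈ NatG F I) {k : ι} (hk : k ∉ I) (i : ι) :
    (s : Matrix ι ι F) k i = if i = k then 1 else 0 := by
  have h1 := congrFun (NatG_fix_row hs hk) i
  rw [single_one_vecMul] at h1
  rw [← row_apply (s : Matrix ι ι F) k i, h1, Pi.single_apply]

theorem NatG_disjoint {I J : Finset ι} (h : Disjoint I J) {s : Matrix.SpecialLinearGroup ι F} (hs : s ∈ NatG F I)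
    (hs' : s ∈ NatG F J) : s = 1 := by
  apply sl_ext
  ext i k
  rw [Matrix.SpecialLinearGroup.coe_one, one_apply]
  by_cases hk : k ∈ I
  · exact NatG_col_entry hs' (Finset.disjoint_left.1 h hk) i
  · exact NatG_col_entry hs hk i

/-- **`|SL_I| |SL_{Iᶜ}| ≤ |C(sI I)|`** -/
theorem card_centralizer_sI [Finite F] {I : Finset ι} (hI : Even I.card) :
    Nat.card (NatG F I) * Nat.card (NatG F Iᶜ) ≤
      Nat.card (centralizer ({sI F I hI} : Set (Matrix.SpecialLinearGroup ι F))) := by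
  have h1 : NatG F I ≤ centralizer ({sI F I hI} : Set (Matrix.SpecialLinearGroup ι F)) :=
    NatG_le_centralizer hI (c := -1) (fun j hj => by simp [sg, hj])
  have h2 : NatG F Iᶜ ≤ centralizer ({sI F I hI} : Set (Matrix.SpecialLinearGroup ι F)) :=
    NatG_le_centralizer hI (c := 1) (fun j hj => by simp [sg, Finset.mem_compl.1 hj])
  rw [← Nat.card_prod]
  refine Nat.card_le_card_of_injective (fun p : NatG F I × NatG F Iᶜ =>
    (⟨p.1.1 * p.2.1, mul_mem (h1 p.1.2) (h2 p.2.2)⟩ :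
      centralizer ({sI F I hI} : Set (Matrix.SpecialLinearGroup ι F)))) ?_
  rintro ⟨a, b⟩ ⟨a', b'⟩ hab
  have h3 : a.1 * b.1 = a'.1 * b'.1 := congrArg Subtype.val hab
  have h4 : a'.1⁻¹ * a.1 = b'.1 * b.1⁻¹ := by
    rw [inv_mul_eq_iff_eq_mul, ← mul_assoc, ← h3, mul_inv_cancel_right]
  have h5 : a'.1⁻¹ * a.1 = 1 := by
    apply NatG_disjoint disjoint_compl_right (mul_mem (inv_mem a'.2) a.2)
    rw [h4]
    exact mul_mem b'.2 (inv_mem b.2)
  have h6 : a = a' := Subtype.ext (inv_mul_eq_one.1 h5).symm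
  subst h6
  have h7 : b = b' := Subtype.ext (mul_left_cancel h3)
  rw [h7]

/-- commuting modulo scalars is commuting -/
theorem comm_of_pr {I J : Finset ι} (hI : Even I.card) {k : ι} (hkJ : k ∉ J)
    {x : Matrix.SpecialLinearGroup ι F} (hx : x ∈ NatG F J) (h : pr (x * sI F I hI) = pr (sI F I hI * x)) :
    (x : Matrix ι ι F) * diagonal (sg F I) = diagonal (sg F I) * (x : Matrix ι ι F) := by
  obtain ⟨e, he⟩ := exists_smul_of_pr_eq h
  rw [Matrix.SpecialLinearGroup.coe_mul, Matrix.SpecialLinearGroup.coe_mul, coe_sI] at he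
  have h1 := congrFun (congrFun he k) k
  rw [diagonal_mul, Matrix.smul_apply, mul_diagonal, NatG_col_entry hx hkJ, if_pos rfl, mul_one, one_mul,
    smul_eq_mul] at h1
  have h2 : sg F I k ≠ 0 := fun h0 => by
    have := sg_mul (F := F) I k
    rw [h0, mul_zero] at this
    exact zero_ne_one this
  have h3 : e = 1 := by
    have : (1 : F) * sg F I k = e * sg F I k := by rw [one_mul]; exact h1
    exact (mul_right_cancel₀ h2 this).symm
  rw [he, h3, one_smul]

/-- **block matrices** -/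
theorem card_block [Finite F] (h2 : (2 : F) ≠ 0) {I J I₁ : Finset ι} (hI : Even I.card) {k : ι} (hkJ : k ∉ J)
    (hI1 : ∀ j ∈ J, j ∈ I ↔ j ∈ I₁) (hI1J : I₁ ⊆ J) :
    Nat.card {x : Matrix.SpecialLinearGroup ι F // x ∈ NatG F J ∧ pr (x * sI F I hI) = pr (sI F I hI * x)} ≤
      Nat.card F ^ (I₁.card ^ 2 + (J \ I₁).card ^ 2) := by
  have hcard : Nat.card ((I₁ → I₁ → F) × (↥(J \ I₁) → ↥(J \ I₁) → F)) =
      Nat.card F ^ (I₁.card ^ 2 + (J \ I₁).card ^ 2) := by
    rw [Nat.card_prod, Nat.card_fun, Nat.card_fun, Nat.card_fun, Nat.card_fun, Nat.card_eq_fintype_card (α := I₁),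
      Nat.card_eq_fintype_card (α := ↥(J \ I₁)), Fintype.card_coe, Fintype.card_coe, ← pow_mul, ← pow_mul, ← pow_add, sq, sq]
  rw [← hcard]
  refine Nat.card_le_card_of_injective (fun x => (fun i j => (x.1 : Matrix ι ι F) i j, fun i j => (x.1 : Matrix ι ι F) i j)) ?_
  rintro ⟨x, hx, hxc⟩ ⟨y, hy, hyc⟩ hxy
  apply Subtype.ext
  apply sl_ext
  have hx' := comm_of_pr hI hkJ hx hxc
  have hy' := comm_of_pr hI hkJ hy hyc
  have hz : ∀ {w : Matrix.SpecialLinearGroup ι F}, (w : Matrix ι ι F) * diagonal (sg F I) =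
      diagonal (sg F I) * (w : Matrix ι ι F) → ∀ i j, sg F I i ≠ sg F I j → (w : Matrix ι ι F) i j = 0 := by
    intro w hw i j hij
    have h3 := congrFun (congrFun hw i) j
    rw [mul_diagonal, diagonal_mul, mul_comm] at h3
    have h4 : (sg F I j - sg F I i) * (w : Matrix ι ι F) i j = 0 := by rw [sub_mul, h3, sub_self]
    exact (mul_eq_zero.1 h4).resolve_left (sub_ne_zero.2 hij.symm)
  ext i j
  by_cases hj : j ∈ J
  · by_cases hi : i ∈ J
    · by_cases hi1 : i ∈ I₁
      · by_cases hj1 : j ∈ I₁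
        · have h5 := congrArg (fun p : (I₁ → I₁ → F) × (↥(J \ I₁) → ↥(J \ I₁) → F) => p.1 ⟨i, hi1⟩ ⟨j, hj1⟩) hxy
          exact h5
        · have h6 : sg F I i ≠ sg F I j := by
            unfold sg
            rw [if_pos ((hI1 i hi).2 hi1), if_neg (fun h => hj1 ((hI1 j hj).1 h))]
            intro h
            apply h2
            linear_combination -h
          rw [hz hx' i j h6, hz hy' i j h6]
      · by_cases hj1 : j ∈ I₁
        · have h6 : sg F I i ≠ sg F I j := by
            unfold sg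
            rw [if_pos ((hI1 j hj).2 hj1), if_neg (fun h => hi1 ((hI1 i hi).1 h))]
            intro h
            apply h2
            linear_combination h
          rw [hz hx' i j h6, hz hy' i j h6]
        · have h5 := congrArg (fun p : (I₁ → I₁ → F) × (↥(J \ I₁) → ↥(J \ I₁) → F) =>
            p.2 ⟨i, Finset.mem_sdiff.2 ⟨hi, hi1⟩⟩ ⟨j, Finset.mem_sdiff.2 ⟨hj, hj1⟩⟩) hxy
          exact h5
    · rw [NatG_row_entry hx hi, NatG_row_entry hy hi]
  · rw [NatG_col_entry hx hj, NatG_col_entry hy hj]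

/-- **generation** -/
theorem sup_natG {I J : Finset ι} (hIJ : ∀ i, i ∈ I ∨ i ∈ J) {r : ι} (hrI : r ∈ I) (hrJ : r ∈ J) :
    NatG F I ⊔ NatG F J = ⊤ := by
  have key : ∀ (I J : Finset ι) (H : Subgroup (Matrix.SpecialLinearGroup ι F)) (r : ι), r ∈ I → r ∈ J → NatG F I ≤ H →
      NatG F J ≤ H → ∀ i j, i ∈ I → j ∈ J → i ≠ j → ∀ c : F, tv (Pi.single i c) (Pi.single j 1) ∈ H := by
    intro I J H r hrI hrJ hI hJ i j hi hj hij c
    by_cases hjI : j ∈ I
    · exact hI (hasT_NatG _ _ (single_mem_cs hi _) _ (single_mem_cs hjI _) (by simp only [hij.symm, _root_.dotProduct_single, _root_.ne_eq, _root_.not_false_eq_true, _root_.Pi.single_eq_of_ne', _root_.MulZeroClass.zero_mul]))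
    by_cases hiJ : i ∈ J
    · exact hJ (hasT_NatG _ _ (single_mem_cs hiJ _) _ (single_mem_cs hj _) (by simp only [hij.symm, _root_.dotProduct_single, _root_.ne_eq, _root_.not_false_eq_true, _root_.Pi.single_eq_of_ne', _root_.MulZeroClass.zero_mul]))
    have hri : r ≠ i := by rintro rfl; exact hiJ hrJ
    have hrj : r ≠ j := by rintro rfl; exact hjI hrI
    have h1 : (Pi.single r 1 : ι → F) ⬝ᵥ Pi.single i c = 0 := by simp [hri]
    have h2 : (Pi.single j 1 : ι → F) ⬝ᵥ Pi.single r 1 = 0 := by simp [hrj.symm]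
    have h3 := conj_tv_tv h1 h2
    have h4 : (Pi.single r 1 : ι → F) ⬝ᵥ Pi.single r 1 = 1 := by simp only [_root_.dotProduct_single, _root_.Pi.single_eq_same, _root_.mul_one]
    have h5 : (Pi.single j 1 : ι → F) ⬝ᵥ Pi.single i c = 0 := by simp [hij.symm]
    rw [h4, one_smul, h5, zero_smul, sub_zero, tv_add_left h2 h5] at h3
    have ha : tv (Pi.single i c) (Pi.single r 1) ∈ H :=
      hI (hasT_NatG _ _ (single_mem_cs hi _) _ (single_mem_cs hrI _) h1)
    have hb : tv (Pi.single r 1) (Pi.single j 1) ∈ H :=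
      hJ (hasT_NatG _ _ (single_mem_cs hrJ _) _ (single_mem_cs hj _) h2)
    have h6 : tv (Pi.single i c) (Pi.single j 1) = (tv (Pi.single r 1) (Pi.single j 1))⁻¹ *
        (tv (Pi.single i c) (Pi.single r 1) * tv (Pi.single r 1) (Pi.single j 1) *
          (tv (Pi.single i c) (Pi.single r 1))⁻¹) := by
      rw [h3, inv_mul_cancel_left]
    rw [h6]
    exact mul_mem (inv_mem hb) (mul_mem (mul_mem ha hb) (inv_mem ha))
  rw [eq_top_iff, ← Cfsg.Agent.LieClassical.SLGen.closure_transvections, Subgroup.closure_le]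
  rintro _ ⟨i, j, h, c, rfl⟩
  rw [SetLike.mem_coe, transvection_eq_tv h c]
  rcases hIJ i with hi | hi
  · rcases hIJ j with hj | hj
    · exact (le_sup_left : NatG F I ≤ NatG F I ⊔ NatG F J)
        (hasT_NatG _ _ (single_mem_cs hi _) _ (single_mem_cs hj _) (by simp [h.symm]))
    · exact key I J _ r hrI hrJ le_sup_left le_sup_right i j hi hj h c
  · rcases hIJ j with hj | hj
    · exact key J I _ r hrJ hrI le_sup_right le_sup_left i j hi hj h c
    · exact (le_sup_right : NatG F J ≤ NatG F I ⊔ NatG F J)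
        (hasT_NatG _ _ (single_mem_cs hi _) _ (single_mem_cs hj _) (by simp [h.symm]))

end

end Cfsg.Agent.H974.IF
end

-- part: H974/IF/SLNum
section
/-!
# S5719, `SL_n`, `q` odd: the inequalities between the orders (helper974)
-/

set_option autoImplicit false

namespace Cfsg.Agent.H974.IF

section

variable {F : Type*} [Field F] [Fintype F]

/-- the order of `SL_n(F)` -/
noncomputable def g (F : Type*) [Field F] [Fintype F] (n : ℕ) : ℕ := Nat.card (Matrix.SpecialLinearGroup (Fin n) F)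

theorem g_one : g F 1 = 1 := by
  unfold g
  rw [Cfsg.Agent.H919.Gs.card_sl (le_refl 1)]
  simp only [_root_.tsub_self, _root_.MulZeroClass.mul_zero, _root_.Nat.zero_div, _root_.pow_zero, _root_.Finset.range_zero, _root_.Finset.prod_empty, _root_.mul_one]

theorem g_succ {n : ℕ} (hn : 1 ≤ n) : g F (n + 1) = g F n * (Fintype.card F ^ n * (Fintype.card F ^ (n + 1) - 1)) := by
  unfold g
  rw [Cfsg.Agent.H919.Gs.card_sl (by omega), Cfsg.Agent.H919.Gs.card_sl hn]
  obtain ⟨k, rfl⟩ : ∃ k, n = k + 1 := ⟨n - 1, by omega⟩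
  have e1 : (k + 1 + 1) * (k + 1 + 1 - 1) / 2 = (k + 1) * (k + 1 - 1) / 2 + (k + 1) := by
    have : (k + 1 + 1) * (k + 1 + 1 - 1) = (k + 1) * (k + 1 - 1) + (k + 1) * 2 := by
      simp only [Nat.add_sub_cancel]
      ring
    rw [this, Nat.add_mul_div_right _ _ (by norm_num)]
  rw [e1, pow_add]
  simp only [Nat.add_sub_cancel]
  rw [Finset.prod_range_succ]
  ring

theorem g_le {n : ℕ} (hn : 1 ≤ n) : g F (n + 1) ≤ g F n * Fintype.card F ^ (2 * n + 1) := by
  rw [g_succ hn]
  refine Nat.mul_le_mul_left _ ?_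
  calc Fintype.card F ^ n * (Fintype.card F ^ (n + 1) - 1) ≤ Fintype.card F ^ n * Fintype.card F ^ (n + 1) :=
        Nat.mul_le_mul_left _ (Nat.sub_le _ _)
    _ = Fintype.card F ^ (2 * n + 1) := by rw [← pow_add]; congr 1; omega

theorem g_le_two {n : ℕ} (hn : 1 ≤ n) : g F (n + 2) ≤ g F n * Fintype.card F ^ (4 * n + 4) := by
  calc g F (n + 2) ≤ g F (n + 1) * Fintype.card F ^ (2 * (n + 1) + 1) := g_le (by omega)
    _ ≤ g F n * Fintype.card F ^ (2 * n + 1) * Fintype.card F ^ (2 * (n + 1) + 1) := Nat.mul_le_mul_right _ (g_le hn)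
    _ = g F n * Fintype.card F ^ (4 * n + 4) := by rw [mul_assoc, ← pow_add]; congr 2; omega

theorem g_ge' (h3 : 3 ≤ Fintype.card F) {n : ℕ} (hn : 1 ≤ n) :
    Fintype.card F ^ (n ^ 2) * (Fintype.card F ^ n + 1) ≤ Fintype.card F ^ (n + 2) * g F n := by
  set q := Fintype.card F with hq
  induction n, hn using Nat.le_induction with
  | base =>
    rw [g_one, mul_one, one_pow, pow_one]
    have h5 : q + 1 ≤ q * q := by nlinarith
    calc q * (q + 1) ≤ q * (q * q) := Nat.mul_le_mul_left _ h5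
      _ = q ^ (1 + 2) := by ring
  | succ n hn ih =>
    rw [g_succ hn, ← hq]
    obtain ⟨y, hy⟩ : ∃ y, q ^ (n + 1) = y + 1 := ⟨q ^ (n + 1) - 1, by have := Nat.one_le_pow (n + 1) q (by omega); omega⟩
    rw [hy, Nat.add_sub_cancel]
    have h1 : q ^ (n + 1) = q ^ n * q := pow_succ q n
    have hqn : 1 ≤ q ^ n := Nat.one_le_pow _ _ (by omega)
    have h4 : q ^ n * 3 ≤ q ^ n * q := Nat.mul_le_mul_left _ h3
    have h5 : q ^ n * (y + 1 + 1) ≤ y * (q ^ n + 1) := by linarith only [hy, h1, h4]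
    calc q ^ (n + 1) ^ 2 * (y + 1 + 1) = q ^ (n ^ 2) * q ^ (n + 1) * (q ^ n * (y + 1 + 1)) := by
          rw [← hy]; ring
      _ ≤ q ^ (n ^ 2) * q ^ (n + 1) * (y * (q ^ n + 1)) := Nat.mul_le_mul_left _ h5
      _ = q ^ (n + 1) * y * (q ^ (n ^ 2) * (q ^ n + 1)) := by ring
      _ ≤ q ^ (n + 1) * y * (q ^ (n + 2) * g F n) := Nat.mul_le_mul_left _ ih
      _ = q ^ (n + 1 + 2) * (g F n * (q ^ n * y)) := by ring

theorem g_ge (h3 : 3 ≤ Fintype.card F) {n : ℕ} (hn : 1 ≤ n) : Fintype.card F ^ (n ^ 2) ≤ Fintype.card F ^ 2 * g F n := by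
  have h1 := g_ge' h3 hn
  have hq : 0 < Fintype.card F ^ n := Nat.pow_pos (by omega)
  rw [pow_add] at h1
  have h2 : Fintype.card F ^ n * Fintype.card F ^ (n ^ 2) ≤ Fintype.card F ^ n * (Fintype.card F ^ 2 * g F n) := by
    calc Fintype.card F ^ n * Fintype.card F ^ (n ^ 2) = Fintype.card F ^ (n ^ 2) * Fintype.card F ^ n := by ring
      _ ≤ Fintype.card F ^ (n ^ 2) * (Fintype.card F ^ n + 1) := Nat.mul_le_mul_left _ (by omega)
      _ ≤ _ := h1
      _ = _ := by ring
  exact Nat.le_of_mul_le_mul_left h2 hq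

/-- first inequality: PHI against (E2) -/
theorem ineq_one (h3 : 3 ≤ Fintype.card F) {k : ℕ} (hk : 3 ≤ k) :
    g F (k + 2) ≤ (Fintype.card F ^ (k * (k - 1) / 2)) ^ 5 * (g F 2 * g F k) := by
  have h1 := g_le_two (F := F) (n := k) (by omega)
  have h2 := g_ge (F := F) h3 (n := 2) (by norm_num)
  have hq : 0 < Fintype.card F := by omega
  have h4 : Fintype.card F ^ 2 ≤ g F 2 := by
    have h5 : Fintype.card F ^ 2 * Fintype.card F ^ 2 ≤ Fintype.card F ^ 2 * g F 2 := by
      rw [← pow_add]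
      exact h2
    exact Nat.le_of_mul_le_mul_left h5 (Nat.pow_pos hq)
  have he : 4 * k + 4 ≤ k * (k - 1) / 2 * 5 + 2 := by
    obtain ⟨j, rfl⟩ : ∃ j, k = j + 3 := ⟨k - 3, by omega⟩
    have h6 : 2 * j + 3 ≤ (j + 3) * (j + 3 - 1) / 2 := by
      rw [Nat.le_div_iff_mul_le (by norm_num)]
      have : j + 3 - 1 = j + 2 := by omega
      rw [this]
      nlinarith only []
    omega
  calc g F (k + 2) ≤ g F k * Fintype.card F ^ (4 * k + 4) := h1
    _ ≤ g F k * Fintype.card F ^ (k * (k - 1) / 2 * 5 + 2) := Nat.mul_le_mul_left _ (Nat.pow_le_pow_right hq he)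
    _ = (Fintype.card F ^ (k * (k - 1) / 2)) ^ 5 * (Fintype.card F ^ 2 * g F k) := by rw [← pow_mul]; ring
    _ ≤ _ := Nat.mul_le_mul_left _ (Nat.mul_le_mul_right _ h4)

/-- second inequality: minimal index against (E4), `n = r + 4` -/
theorem ineq_two (h3 : 3 ≤ Fintype.card F) {r : ℕ} (hr : 1 ≤ r) :
    Fintype.card F ^ (4 + r ^ 2) * g F (r + 4) ≤ (Fintype.card F ^ (r + 1)) ^ 4 * g F (r + 2) * (g F 4 * g F r) := by
  set q := Fintype.card F with hq
  have h1 : g F (r + 4) ≤ g F (r + 2) * q ^ (4 * r + 12) := by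
    have := g_le_two (F := F) (n := r + 2) (by omega)
    calc _ ≤ _ := this
      _ = _ := by congr 2
  have h2 := g_ge (F := F) h3 (n := 4) (by norm_num)
  have h4 := g_ge (F := F) h3 hr
  rw [← hq] at h2 h4
  have h5 : q ^ 16 * q ^ (r ^ 2) ≤ q ^ 4 * (g F 4 * g F r) := by
    calc q ^ 16 * q ^ (r ^ 2) ≤ (q ^ 2 * g F 4) * (q ^ 2 * g F r) := Nat.mul_le_mul (by simpa using h2) h4
      _ = _ := by ring
  calc q ^ (4 + r ^ 2) * g F (r + 4) ≤ q ^ (4 + r ^ 2) * (g F (r + 2) * q ^ (4 * r + 12)) := Nat.mul_le_mul_left _ h1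
    _ = q ^ (4 * r) * g F (r + 2) * (q ^ 16 * q ^ (r ^ 2)) := by ring
    _ ≤ q ^ (4 * r) * g F (r + 2) * (q ^ 4 * (g F 4 * g F r)) := Nat.mul_le_mul_left _ h5
    _ = _ := by rw [← pow_mul]; ring

end

end Cfsg.Agent.H974.IF
end

-- part: H974/IF/LiftE4
section
/-!
# S5719, classical groups: the inequality (E4) in a covering group (helper974)

`lift_E4_card` : `pi : G → T` surjective, `T` simple, `pi s ≠ pi t` commuting involutions of `A`, `B`, `H ≤ G` commute with
`t` modulo the kernel, `H ∩ ker pi = 1`, at most `N` elements of `H` commute with `s` modulo the kernel: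
`|B : B ∩ pi⁻¹ A| ^ 4 · |H| · |C_G(s)| < N · |G|`.
-/

set_option autoImplicit false

namespace Cfsg.Agent.H974.IF

open Subgroup Cfsg.Agent.H209.Fxy

theorem lift_E4_card {G T : Type*} [Group G] [Finite G] [Group T] [Finite T] [IsSimpleGroup T] {A : Subgroup T}
    {Γ : Subgroup (MulAut T)} (h : IF A Γ) (hna : ∃ a b : T, a * b ≠ b * a) (pi : G →* T)
    (hpi : Function.Surjective pi) {s t : G} (hs : pi s ∈ A) (ht : pi t ∈ A) (hs1 : pi s ≠ 1) (ht1 : pi t ≠ 1)
    (hs2 : pi (s * s) = 1) (ht2 : pi (t * t) = 1) (hst : pi s ≠ pi t) (hc : pi (s * t) = pi (t * s))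
    {B H : Subgroup G} (hB : ∀ b ∈ B, pi (b * t) = pi (t * b)) (hH : ∀ x ∈ H, pi (x * t) = pi (t * x))
    (hker : ∀ x ∈ H, pi x = 1 → x = 1) {N : ℕ} (hN : Nat.card {x : G // x ∈ H ∧ pi (x * s) = pi (s * x)} ≤ N) :
    (A.comap pi).relIndex B ^ 4 * Nat.card H * Nat.card (centralizer ({s} : Set G)) < N * Nat.card G := by
  have hos : orderOf (pi s) = 2 := by
    apply orderOf_eq_prime _ hs1
    rw [pow_two, ← map_mul, hs2]
  have hot : orderOf (pi t) = 2 := by
    apply orderOf_eq_prime _ ht1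
    rw [pow_two, ← map_mul, ht2]
  obtain ⟨-, -, h4, -⟩ := Cfsg.Agent.H809.IFC.IF.E4 h hna hs ht hos hot hst (by rw [← map_mul, hc, map_mul])
  set c := (centralizer ({pi s} : Set T)).relIndex (centralizer ({pi t} : Set T)) with hcdef
  -- `|B : B ∩ A| ≤ f(t)`
  have h5 : (A.comap pi).relIndex B ≤ fx A (MulAut.conj (pi t)) := by
    rw [relIndex_comap]
    apply Cfsg.Agent.H371.IFx.relIndex_le_fx
    rintro _ ⟨b, hb, rfl⟩
    have h6 := hB b hb
    rw [map_mul, map_mul] at h6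
    rw [MulAut.conj_apply, ← h6, mul_inv_cancel_right]
  -- `|H| ≤ c N`
  have h7 : Nat.card H ≤ c * N := by
    have hle : H.map pi ≤ centralizer ({pi t} : Set T) := by
      rintro _ ⟨x, hx, rfl⟩
      rw [mem_centralizer_iff]
      rintro _ rfl
      have h6 := hH x hx
      rw [map_mul, map_mul] at h6
      exact h6.symm
    have h8 : Nat.card (H.map pi) = Nat.card H := by
      have hf : Function.Injective (pi.comp H.subtype) :=
        (injective_iff_map_eq_one _).2 fun x hx => Subtype.ext (hker x x.2 hx)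
      have e1 : (pi.comp H.subtype).range = H.map pi := by rw [MonoidHom.range_comp, Subgroup.range_subtype]
      rw [← e1]
      exact (Nat.card_congr (MonoidHom.ofInjective hf).toEquiv).symm
    have h9 : (centralizer ({pi s} : Set T)).relIndex (H.map pi) ≤ c :=
      relIndex_le_of_le_right hle index_ne_zero_of_finite
    have h10 : Nat.card (centralizer ({pi s} : Set T) ⊓ H.map pi : Subgroup T) ≤ N := by
      refine le_trans ?_ hN
      refine Nat.card_le_card_of_injective (fun y : (centralizer ({pi s} : Set T) ⊓ H.map pi : Subgroup T) =>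
        (⟨y.2.2.choose, y.2.2.choose_spec.1, ?_⟩ : {x : G // x ∈ H ∧ pi (x * s) = pi (s * x)})) ?_
      · have h11 := (Subgroup.mem_inf.1 y.2).1
        rw [mem_centralizer_iff] at h11
        have h12 := h11 _ rfl
        rw [map_mul, map_mul, y.2.2.choose_spec.2]
        exact h12.symm
      · intro y y' hyy
        have h13 := congrArg (fun z : {x : G // x ∈ H ∧ pi (x * s) = pi (s * x)} => pi z.1) hyy
        apply Subtype.ext
        rw [← y.2.2.choose_spec.2, ← y'.2.2.choose_spec.2]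
        exact h13
    have h14 : (centralizer ({pi s} : Set T)).relIndex (H.map pi) *
        Nat.card (centralizer ({pi s} : Set T) ⊓ H.map pi : Subgroup T) = Nat.card (H.map pi) := by
      have h16 := relIndex_mul_relIndex (⊥ : Subgroup T) (centralizer ({pi s} : Set T) ⊓ H.map pi) (H.map pi) bot_le
        inf_le_right
      rw [relIndex_bot_left, relIndex_bot_left, inf_relIndex_right] at h16
      rw [mul_comm]
      exact h16
    rw [← h8, ← h14]
    exact Nat.mul_le_mul h9 h10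
  -- `|T : C(pi s)| |C_G(s)| ≤ |G|`
  have h15 : (centralizer ({pi s} : Set T)).index * Nat.card (centralizer ({s} : Set G)) ≤ Nat.card G := by
    have h16 : (centralizer ({pi s} : Set T)).index ≤ (centralizer ({s} : Set G)).index := by
      rw [← index_comap_of_surjective _ hpi]
      refine Nat.le_of_dvd (Nat.pos_of_ne_zero index_ne_zero_of_finite) (index_dvd_of_le ?_)
      intro x hx
      rw [mem_centralizer_iff] at hx
      rw [mem_comap, mem_centralizer_iff]
      rintro _ rfl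
      rw [← map_mul, hx s rfl, map_mul]
    calc _ ≤ (centralizer ({s} : Set G)).index * Nat.card (centralizer ({s} : Set G)) := Nat.mul_le_mul_right _ h16
      _ = Nat.card G := index_mul_card _
  have hNpos : 0 < N := by
    rcases Nat.eq_zero_or_pos N with h0 | h0
    · rw [h0, mul_zero] at h7
      exact absurd (Nat.card_pos (α := H)) (by omega)
    · exact h0
  calc (A.comap pi).relIndex B ^ 4 * Nat.card H * Nat.card (centralizer ({s} : Set G))
      ≤ fx A (MulAut.conj (pi t)) ^ 4 * (c * N) * Nat.card (centralizer ({s} : Set G)) :=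
        Nat.mul_le_mul_right _ (Nat.mul_le_mul (Nat.pow_le_pow_left h5 4) h7)
    _ = N * (fx A (MulAut.conj (pi t)) ^ 4 * c * Nat.card (centralizer ({s} : Set G))) := by ring
    _ < N * ((centralizer ({pi s} : Set T)).index * Nat.card (centralizer ({s} : Set G))) :=
        Nat.mul_lt_mul_of_pos_left (Nat.mul_lt_mul_of_pos_right h4 Nat.card_pos) hNpos
    _ ≤ N * Nat.card G := Nat.mul_le_mul_left _ h15

end Cfsg.Agent.H974.IF
end

-- part: H974/IF/SLFin
section
/-!
# S5719, `PSL_m(q)`, `q` odd, `m ≥ 5`: the final step (helper974)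

`final_sl` : a counterexample `IF A Γ` with a fundamental involution in `A` is impossible, given the absolute form of PHI
in dimension `m - 2`.
-/

set_option autoImplicit false

namespace Cfsg.Agent.H974.IF

open Matrix Subgroup
open Cfsg.Agent.H127.Gs Cfsg.Agent.H974.Gs Cfsg.Agent.H209.Fxy
open Cfsg.Agent.ClassicalGeometry.AutPSL.Root (pr pr_surjective pr_eq_one_iff exists_smul_of_pr_eq)

section

variable {F : Type*} [Field F] {ι : Type*} [Fintype ι] [DecidableEq ι]

theorem pr_sI_ne_one (h2 : (2 : F) ≠ 0) {I : Finset ι} (hI : Even I.card) {i k : ι} (hi : i ∈ I) (hk : k ∉ I) :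
    pr (sI F I hI) ≠ 1 := by
  intro h
  rw [← map_one (pr : Matrix.SpecialLinearGroup ι F →* _)] at h
  obtain ⟨e, he⟩ := exists_smul_of_pr_eq h
  rw [coe_sI, Matrix.SpecialLinearGroup.coe_one] at he
  have h3 := congrFun (congrFun he i) i
  have h4 := congrFun (congrFun he k) k
  rw [one_apply_eq, Matrix.smul_apply, diagonal_apply_eq, smul_eq_mul] at h3 h4
  unfold sg at h3 h4
  rw [if_pos hi] at h3
  rw [if_neg hk, mul_one] at h4
  apply h2
  rw [← h4] at h3
  linear_combination h3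

theorem pr_sI_ne (h2 : (2 : F) ≠ 0) {I J : Finset ι} (hI : Even I.card) (hJ : Even J.card) {i k : ι} (hi : i ∈ I)
    (hiJ : i ∈ J) (hk : k ∉ I) (hkJ : k ∈ J) : pr (sI F I hI) ≠ pr (sI F J hJ) := by
  intro h
  obtain ⟨e, he⟩ := exists_smul_of_pr_eq h
  rw [coe_sI, coe_sI] at he
  have h3 := congrFun (congrFun he i) i
  have h4 := congrFun (congrFun he k) k
  rw [Matrix.smul_apply, diagonal_apply_eq, diagonal_apply_eq, smul_eq_mul] at h3 h4
  unfold sg at h3 h4
  rw [if_pos hi, if_pos hiJ] at h3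
  rw [if_neg hk, if_pos hkJ, mul_one] at h4
  apply h2
  rw [← h4] at h3
  linear_combination -h3

theorem mem_comap_centralizer {I J : Finset ι} (hI : Even I.card) {c : F} (hc : ∀ j ∈ J, sg F I j = c)
    {x : Matrix.SpecialLinearGroup ι F} (hx : x ∈ NatG F J) : x * sI F I hI = sI F I hI * x := by
  have h1 := NatG_le_centralizer hI hc hx
  rw [mem_centralizer_iff] at h1
  exact (h1 _ rfl).symm

end

section

variable {F : Type*} [Field F] [Fintype F]

/-- an exponent bound for the minimal index of `SL_k(q)` -/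
theorem min_index_sl (h3 : 3 ≤ Fintype.card F) {k : ℕ} (hk : 3 ≤ k) {X : Subgroup (Matrix.SpecialLinearGroup (Fin k) F)}
    (hX : X ≠ ⊤) : Fintype.card F ^ (k - 1) ≤ X.index := by
  refine le_trans ?_ (Cfsg.Agent.H74.Psl.min_index rfl hk (by omega) X hX)
  rw [Nat.le_div_iff_mul_le (by omega)]
  set q := Fintype.card F
  have h4 : q ^ k = q ^ (k - 1) * q := by rw [← pow_succ]; congr 1; omega
  have h5 : 1 ≤ q ^ (k - 1) := Nat.one_le_pow _ _ (by omega)
  rw [h4, Nat.mul_sub, mul_one]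
  omega

variable {r : ℕ}

/-- **one side**: `SL_(m-2)(q) ≤ A` -/
theorem natG_le (h2 : (2 : F) ≠ 0) (h3 : 3 ≤ Fintype.card F) (hr : 1 ≤ r)
    [IsSimpleGroup (ProjectiveSpecialLinearGroup (Fin (r + 4)) F)]
    {A : Subgroup (ProjectiveSpecialLinearGroup (Fin (r + 4)) F)}
    {Γ : Subgroup (MulAut (ProjectiveSpecialLinearGroup (Fin (r + 4)) F))} (h : IF A Γ)
    (hna : ∃ a b : ProjectiveSpecialLinearGroup (Fin (r + 4)) F, a * b ≠ b * a)
    {I₀ I₁ : Finset (Fin (r + 4))} (h0 : I₀.card = 2) (h1 : I₁.card = 2) (hd : Disjoint I₀ I₁)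
    (he0 : Even I₀.card) (he1 : Even I₁.card) (hz0 : pr (sI F I₀ he0) ∈ A) (hz1 : pr (sI F I₁ he1) ∈ A) :
    NatG F I₀ᶜ ≤ A.comap pr := by
  have hcu : (I₀ ∪ I₁).card = 4 := by rw [Finset.card_union_of_disjoint hd, h0, h1]
  have heu : Even (I₀ ∪ I₁).card := by rw [hcu]; decide
  obtain ⟨i, hi⟩ : ∃ i, i ∈ I₀ := Finset.card_pos.1 (by omega)
  obtain ⟨j, hj⟩ : ∃ j, j ∈ I₁ := Finset.card_pos.1 (by omega)
  obtain ⟨k, hk⟩ : ∃ k, k ∉ I₀ ∪ I₁ := by
    by_contra hc
    push Not at hc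
    have : I₀ ∪ I₁ = Finset.univ := Finset.eq_univ_iff_forall.2 hc
    rw [this, Finset.card_univ, Fintype.card_fin] at hcu
    omega
  have hj0 : j ∉ I₀ := fun hc => Finset.disjoint_left.1 hd hc hj
  have hi1 : i ∉ I₁ := fun hc => Finset.disjoint_left.1 hd hi hc
  have hk0 : k ∉ I₀ := fun hc => hk (Finset.mem_union_left _ hc)
  have hsz : sI F (I₀ ∪ I₁) heu = sI F I₀ he0 * sI F I₁ he1 := by
    apply sl_ext
    rw [Matrix.SpecialLinearGroup.coe_mul, coe_sI, coe_sI, coe_sI, diagonal_mul_diagonal]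
    congr 1
    funext x
    unfold sg
    by_cases hx0 : x ∈ I₀
    · have hx1 : x ∉ I₁ := Finset.disjoint_left.1 hd hx0
      simp [hx0, hx1]
    · by_cases hx1 : x ∈ I₁ <;> simp [hx0, hx1]
  have hsA : pr (sI F (I₀ ∪ I₁) heu) ∈ A := by
    rw [hsz, map_mul]
    exact mul_mem hz0 hz1
  have hBt : ∀ b ∈ NatG F I₀ᶜ, pr (b * sI F I₀ he0) = pr (sI F I₀ he0 * b) := by
    intro b hb
    rw [mem_comap_centralizer he0 (c := 1) (fun j hj => by simp [sg, Finset.mem_compl.1 hj]) hb]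
  have hcI : (I₀ᶜ).card = r + 2 := by
    rw [Finset.card_compl, Fintype.card_fin, h0]
    omega
  have hker : ∀ x ∈ NatG F I₀ᶜ, pr x = 1 → x = 1 := by
    intro x hx hx1
    exact NatG_center (by rw [hcI, Fintype.card_fin]; omega) hx ((pr_eq_one_iff x).1 hx1)
  have hI1c : I₁ ⊆ I₀ᶜ := fun x hx => Finset.mem_compl.2 fun hc => Finset.disjoint_left.1 hd hc hx
  have hN := card_block (F := F) h2 (J := I₀ᶜ) (I₁ := I₁) heu (k := i) (by simpa using hi)
    (fun x hx => by
      rw [Finset.mem_union]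
      exact ⟨fun h => h.resolve_left (Finset.mem_compl.1 hx), Or.inr⟩) hI1c
  have hcR : (I₀ᶜ \ I₁).card = r := by
    rw [Finset.card_sdiff_of_subset hI1c, hcI, h1]
    omega
  rw [hcR, h1, Nat.card_eq_fintype_card (α := F)] at hN
  have hE := lift_E4_card h hna pr pr_surjective (s := sI F (I₀ ∪ I₁) heu) (t := sI F I₀ he0) hsA hz0
    (pr_sI_ne_one h2 heu (Finset.mem_union_left _ hi) hk) (pr_sI_ne_one h2 he0 hi hj0)
    (by rw [sI_mul_self, map_one]) (by rw [sI_mul_self, map_one])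
    (fun hc => pr_sI_ne h2 he0 heu hi (Finset.mem_union_left _ hi) hj0 (Finset.mem_union_right _ hj) hc.symm)
    (by rw [sI_comm]) hBt hBt hker hN
  have hC := card_centralizer_sI (F := F) heu
  have hccu : ((I₀ ∪ I₁)ᶜ).card = r := by
    rw [Finset.card_compl, Fintype.card_fin, hcu]
    omega
  rw [card_NatG _ hcu, card_NatG _ hccu] at hC
  rw [card_NatG _ hcI] at hE
  by_contra hno
  -- the minimal index
  have hidx : Fintype.card F ^ (r + 1) ≤ (A.comap pr).relIndex (NatG F I₀ᶜ) := by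
    obtain ⟨e, he⟩ := exists_emb I₀ᶜ hcI
    have hrange : (_root_.Cfsg.Agent.H127.Gs.emb e : Matrix.SpecialLinearGroup (Fin (r + 2)) F →* _).range = NatG F I₀ᶜ := by
      rw [range_emb, he]
    rw [← hrange, ← index_comap]
    have h5 : ((A.comap pr).comap (_root_.Cfsg.Agent.H127.Gs.emb e : Matrix.SpecialLinearGroup (Fin (r + 2)) F →* _)) ≠ ⊤ := by
      intro h6
      apply hno
      rw [← hrange]
      rintro _ ⟨x, rfl⟩
      have : x ∈ ((A.comap pr).comap (_root_.Cfsg.Agent.H127.Gs.emb e : Matrix.SpecialLinearGroup (Fin (r + 2)) F →* _)) := by rw [h6]; trivial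
      exact this
    have h6 := min_index_sl h3 (k := r + 2) (by omega) h5
    simpa only [_root_.ge_iff_le, _root_.Nat.add_one_sub_one] using h6
  have h7 := ineq_two (F := F) h3 hr
  have h8 : (Fintype.card F ^ (r + 1)) ^ 4 * g F (r + 2) * (g F 4 * g F r) ≤
      (A.comap pr).relIndex (NatG F I₀ᶜ) ^ 4 * g F (r + 2) *
        Nat.card (centralizer ({sI F (I₀ ∪ I₁) heu} : Set (Matrix.SpecialLinearGroup (Fin (r + 4)) F))) :=
    Nat.mul_le_mul (Nat.mul_le_mul_right _ (Nat.pow_le_pow_left hidx 4)) hC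
  have h9 := lt_of_le_of_lt (h7.trans h8) hE
  have h10 : 2 ^ 2 + r ^ 2 = 4 + r ^ 2 := by norm_num
  rw [h10] at h9
  exact lt_irrefl _ h9

/-- **two orthogonal fundamental involutions in `A`** -/
theorem final_coord (h2 : (2 : F) ≠ 0) (h3 : 3 ≤ Fintype.card F) (hr : 1 ≤ r)
    [IsSimpleGroup (ProjectiveSpecialLinearGroup (Fin (r + 4)) F)]
    {A : Subgroup (ProjectiveSpecialLinearGroup (Fin (r + 4)) F)}
    {Γ : Subgroup (MulAut (ProjectiveSpecialLinearGroup (Fin (r + 4)) F))} (h : IF A Γ)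
    (hna : ∃ a b : ProjectiveSpecialLinearGroup (Fin (r + 4)) F, a * b ≠ b * a)
    {I₀ I₁ : Finset (Fin (r + 4))} (h0 : I₀.card = 2) (h1 : I₁.card = 2) (hd : Disjoint I₀ I₁)
    (he0 : Even I₀.card) (he1 : Even I₁.card) (hz0 : pr (sI F I₀ he0) ∈ A) (hz1 : pr (sI F I₁ he1) ∈ A) : False := by
  have hle0 := natG_le h2 h3 hr h hna h0 h1 hd he0 he1 hz0 hz1
  have hle1 := natG_le h2 h3 hr h hna h1 h0 hd.symm he1 he0 hz1 hz0
  have hcu : (I₀ ∪ I₁).card = 4 := by rw [Finset.card_union_of_disjoint hd, h0, h1]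
  obtain ⟨k, hk⟩ : ∃ k, k ∉ I₀ ∪ I₁ := by
    by_contra hc
    push Not at hc
    have : I₀ ∪ I₁ = Finset.univ := Finset.eq_univ_iff_forall.2 hc
    rw [this, Finset.card_univ, Fintype.card_fin] at hcu
    omega
  have h4 : NatG F I₀ᶜ ⊔ NatG F I₁ᶜ = ⊤ := by
    refine sup_natG (fun i => ?_) (r := k) (Finset.mem_compl.2 fun hc => hk (Finset.mem_union_left _ hc))
      (Finset.mem_compl.2 fun hc => hk (Finset.mem_union_right _ hc))
    by_cases hi : i ∈ I₀
    · exact Or.inr (Finset.mem_compl.2 (Finset.disjoint_left.1 hd hi))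
    · exact Or.inl (Finset.mem_compl.2 hi)
  have h5 : A.comap pr = ⊤ := by
    rw [eq_top_iff, ← h4]
    exact sup_le hle0 hle1
  apply h.ne_top
  rw [eq_top_iff]
  intro x _
  obtain ⟨y, rfl⟩ := pr_surjective x
  have : y ∈ A.comap pr := by rw [h5]; trivial
  exact this

/-- the absolute form of PHI in dimension `k` -/
def PhiSL (F : Type*) [Field F] [Fintype F] (k : ℕ) : Prop :=
  ∀ X : Subgroup (Matrix.SpecialLinearGroup (Fin k) F),
    (∀ (I : Finset (Fin k)) (hI : Even I.card) (C : Matrix.SpecialLinearGroup (Fin k) F), I.card = 2 →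
      C * sI F I hI * C⁻¹ ∉ X) → Fintype.card F ^ (k * (k - 1) / 2) ≤ X.index

omit [Fintype F] in
theorem emb_sI {κ : Type*} [Fintype κ] [DecidableEq κ] {ι : Type*} [Fintype ι] [DecidableEq ι] (e : κ ↪ ι) {I : Finset κ}
    (hI : Even I.card) (hI' : Even (I.map e).card) : _root_.Cfsg.Agent.H127.Gs.emb e (sI F I hI) = sI F (I.map e) hI' := by
  apply sl_ext
  rw [Cfsg.Agent.H127.Gs.coe_emb, coe_sI, coe_sI]
  unfold embM
  have h1 : diagonal (sg F I) - 1 = diagonal (fun a => sg F I a - 1) := by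
    rw [← diagonal_one, diagonal_sub]
  rw [h1]
  ext x y
  rw [Matrix.add_apply, mul_apply]
  simp_rw [mul_diagonal, transpose_apply]
  have h2 : ∀ (z : ι) (a : κ), z ≠ e a → Em F e z a = 0 := by
    intro z a h
    simp [Em, h]
  by_cases hxy : x = y
  · subst hxy
    rw [one_apply_eq, diagonal_apply_eq]
    by_cases hx : ∃ a, x = e a
    · obtain ⟨a, rfl⟩ := hx
      have h3 : Em F e (e a) a = 1 := by simp [Em]
      rw [Finset.sum_eq_single a]
      · rw [h3, one_mul, mul_one]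
        have h4 : sg F (I.map e) (e a) = sg F I a := by
          unfold sg
          simp
        rw [h4]
        ring
      · intro b _ hb
        rw [h2 (e a) b (fun h => hb (e.injective h).symm), zero_mul, zero_mul]
      · intro h
        exact absurd (Finset.mem_univ a) h
    · push Not at hx
      rw [Finset.sum_eq_zero (fun a _ => by rw [h2 x a (hx a), zero_mul, zero_mul]), add_zero]
      unfold sg
      rw [if_neg]
      intro h
      obtain ⟨a, -, ha⟩ := Finset.mem_map.1 h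
      exact hx a ha.symm
  · rw [one_apply_ne hxy, diagonal_apply_ne _ hxy, zero_add]
    refine Finset.sum_eq_zero fun a _ => ?_
    by_cases hx : x = e a
    · rw [h2 y a (fun h => hxy (hx.trans h.symm)), mul_zero]
    · rw [h2 x a hx, zero_mul, zero_mul]

/-- **a fundamental involution in `A` is impossible** -/
theorem final_sI (h2 : (2 : F) ≠ 0) (h3 : 3 ≤ Fintype.card F) (hr : 1 ≤ r)
    [IsSimpleGroup (ProjectiveSpecialLinearGroup (Fin (r + 4)) F)]
    (hphi : PhiSL F (r + 2))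
    {A : Subgroup (ProjectiveSpecialLinearGroup (Fin (r + 4)) F)}
    {Γ : Subgroup (MulAut (ProjectiveSpecialLinearGroup (Fin (r + 4)) F))} (h : IF A Γ)
    (hna : ∃ a b : ProjectiveSpecialLinearGroup (Fin (r + 4)) F, a * b ≠ b * a)
    {I₀ : Finset (Fin (r + 4))} (h0 : I₀.card = 2) (he0 : Even I₀.card) {C : Matrix.SpecialLinearGroup (Fin (r + 4)) F}
    (hz : pr (C * sI F I₀ he0 * C⁻¹) ∈ A) : False := by
  -- conjugate
  have hconj : ∀ (B : Subgroup (ProjectiveSpecialLinearGroup (Fin (r + 4)) F))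
      (D : Matrix.SpecialLinearGroup (Fin (r + 4)) F) (x : Matrix.SpecialLinearGroup (Fin (r + 4)) F),
      pr (D * x * D⁻¹) ∈ B → pr x ∈ B.map (MulAut.conj (pr D⁻¹)).toMonoidHom := by
    intro B D x hx
    refine ⟨_, hx, ?_⟩
    change pr D⁻¹ * pr (D * x * D⁻¹) * (pr D⁻¹)⁻¹ = pr x
    rw [← map_inv, ← map_mul, ← map_mul]
    congr 1
    group
  have h' := Cfsg.Agent.H371.IFx.IF.congr (e := MulAut.conj (pr C⁻¹)) h
  have hz' := hconj A C _ hz
  generalize A.map (MulAut.conj (pr C⁻¹)).toMonoidHom = A' at h' hz'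
  generalize Γ.map (MulAut.congr (MulAut.conj (pr C⁻¹))).toMonoidHom = Γ' at h'
  have hcI : (I₀ᶜ).card = r + 2 := by
    rw [Finset.card_compl, Fintype.card_fin, h0]
    omega
  obtain ⟨i, hi⟩ : ∃ i, i ∈ I₀ := Finset.card_pos.1 (by omega)
  obtain ⟨j, hj⟩ : ∃ j, j ∈ I₀ᶜ := Finset.card_pos.1 (by omega)
  have hj' : j ∉ I₀ := Finset.mem_compl.1 hj
  obtain ⟨e, he⟩ := exists_emb I₀ᶜ hcI
  have hrange : (_root_.Cfsg.Agent.H127.Gs.emb e : Matrix.SpecialLinearGroup (Fin (r + 2)) F →* _).range = NatG F I₀ᶜ := by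
    rw [range_emb, he]
  have hBt : ∀ b ∈ NatG F I₀ᶜ, b * sI F I₀ he0 = sI F I₀ he0 * b := by
    intro b hb
    exact mem_comap_centralizer he0 (c := 1) (fun j hj => by simp [sg, Finset.mem_compl.1 hj]) hb
  have hex : ∃ (I : Finset (Fin (r + 2))) (hI : Even I.card) (D : Matrix.SpecialLinearGroup (Fin (r + 2)) F),
      I.card = 2 ∧ pr (_root_.Cfsg.Agent.H127.Gs.emb e (D * sI F I hI * D⁻¹)) ∈ A' := by
    by_contra hcon
    push Not at hcon
    have h4 := hphi ((A'.comap pr).comap (_root_.Cfsg.Agent.H127.Gs.emb e)) (fun I hI D hI2 hmem => hcon I hI D hI2 hmem)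
    rw [index_comap, hrange] at h4
    have h5 := Cfsg.Agent.H847.IF.lift_E2_card h' hna pr pr_surjective (t := sI F I₀ he0) hz'
      (pr_sI_ne_one h2 he0 hi hj') (by rw [sI_mul_self, map_one]) (B := NatG F I₀ᶜ)
      (fun b hb => by rw [hBt b hb])
    have h6 := card_centralizer_sI (F := F) he0
    rw [card_NatG _ h0, card_NatG _ hcI] at h6
    have h7 := ineq_one (F := F) h3 (k := r + 2) (by omega)
    have h8 : (Fintype.card F ^ ((r + 2) * (r + 2 - 1) / 2)) ^ 5 * (g F 2 * g F (r + 2)) ≤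
        (A'.comap pr).relIndex (NatG F I₀ᶜ) ^ 5 *
          Nat.card (centralizer ({sI F I₀ he0} : Set (Matrix.SpecialLinearGroup (Fin (r + 4)) F))) :=
      Nat.mul_le_mul (Nat.pow_le_pow_left h4 5) h6
    exact lt_irrefl _ (lt_of_le_of_lt (h7.trans h8) h5)
  obtain ⟨I, hI, D, hI2, hD⟩ := hex
  have hI' : Even (I.map e).card := by rwa [Finset.card_map]
  have hmul : _root_.Cfsg.Agent.H127.Gs.emb e (D * sI F I hI * D⁻¹) = _root_.Cfsg.Agent.H127.Gs.emb e D * sI F (I.map e) hI' * (_root_.Cfsg.Agent.H127.Gs.emb e D)⁻¹ := by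
    rw [map_mul, map_mul, map_inv, emb_sI e hI hI']
  rw [hmul] at hD
  have hDm : _root_.Cfsg.Agent.H127.Gs.emb e D ∈ NatG F I₀ᶜ := by rw [← hrange]; exact ⟨D, rfl⟩
  have hD2 : pr (_root_.Cfsg.Agent.H127.Gs.emb e D * sI F I₀ he0 * (_root_.Cfsg.Agent.H127.Gs.emb e D)⁻¹) ∈ A' := by
    rw [hBt _ hDm, mul_inv_cancel_right]
    exact hz'
  have h'' := Cfsg.Agent.H371.IFx.IF.congr (e := MulAut.conj (pr (_root_.Cfsg.Agent.H127.Gs.emb e D)⁻¹)) h'
  have hz0 := hconj A' (_root_.Cfsg.Agent.H127.Gs.emb e D) _ hD2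
  have hz1 := hconj A' (_root_.Cfsg.Agent.H127.Gs.emb e D) _ hD
  have hd : Disjoint I₀ (I.map e) := by
    rw [Finset.disjoint_left]
    intro x hx hx'
    have h4 : x ∈ I₀ᶜ := by
      rw [← he]
      exact Finset.map_subset_map.2 (Finset.subset_univ I) hx'
    exact Finset.mem_compl.1 h4 hx
  exact final_coord h2 h3 hr h'' hna h0 (by rw [Finset.card_map, hI2]) hd he0 hI' hz0 hz1

end

end Cfsg.Agent.H974.IF
end

-- part: H974/IF/SLRow
section
/-!
# S5719, `PSL_m(q)`, `q` odd, `m ≥ 5`: the final step in the form with `mfund` (helper974)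

* `exists_conj_sI` : a fundamental involution of `SL` is `C * sI I₀ * C⁻¹`;
* `phi_sl'` : the absolute form of PHI (helper353) in the form `PhiSL`;
* `final_sl` : `IF A Γ`, `5 ≤ m`, `mfund z`, the image of `z` in `A` ==> `False`.
-/

set_option autoImplicit false

namespace Cfsg.Agent.H974.IF

open Matrix Subgroup Module
open Cfsg.Agent.H127.Gs Cfsg.Agent.H974.Gs Cfsg.Agent.H209.Fxy
open Cfsg.Agent.ClassicalGeometry.AutPSL.Root (pr pr_surjective pr_eq_one_iff exists_smul_of_pr_eq)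

section

variable {F : Type*} [Field F] {ι : Type*} [Fintype ι] [DecidableEq ι]

/-- rank factorisation of an idempotent of rank `2` -/
theorem exists_factor {P : Matrix ι ι F} (hP : P * P = P) (hr : P.rank = 2) :
    ∃ (A : Matrix ι (Fin 2) F) (B : Matrix (Fin 2) ι F), A * B = P ∧ B * A = 1 := by
  have hr' : finrank F (LinearMap.range P.mulVecLin) = 2 := hr
  let b := finBasisOfFinrankEq F (LinearMap.range P.mulVecLin) hr'
  let R : (ι → F) →ₗ[F] (LinearMap.range P.mulVecLin) := P.mulVecLin.rangeRestrict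
  let S : (ι → F) →ₗ[F] (Fin 2 → F) := b.equivFun.toLinearMap ∘ₗ R
  let T : (Fin 2 → F) →ₗ[F] (ι → F) := (LinearMap.range P.mulVecLin).subtype ∘ₗ b.equivFun.symm.toLinearMap
  have hTS : ∀ x, T (S x) = P *ᵥ x := by
    intro x
    show ((b.equivFun.symm (b.equivFun (R x)) : LinearMap.range P.mulVecLin) : ι → F) = P *ᵥ x
    rw [LinearEquiv.symm_apply_apply]
    rfl
  have hST : ∀ y, S (T y) = y := by
    intro y
    show b.equivFun (R (T y)) = y
    have h1 : R (T y) = b.equivFun.symm y := by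
      apply Subtype.ext
      show P *ᵥ (T y) = ((b.equivFun.symm y : LinearMap.range P.mulVecLin) : ι → F)
      obtain ⟨z, hz⟩ := (b.equivFun.symm y).2
      have h2 : T y = P *ᵥ z := hz.symm
      rw [← hz, h2, mulVec_mulVec, hP]
      rfl
    rw [h1, LinearEquiv.apply_symm_apply]
  refine ⟨LinearMap.toMatrix' T, LinearMap.toMatrix' S, ?_, ?_⟩
  · rw [← LinearMap.toMatrix'_comp]
    have h1 : T ∘ₗ S = toLin' P := by
      apply LinearMap.ext
      intro x
      rw [LinearMap.comp_apply, hTS, toLin'_apply]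
    rw [h1, LinearMap.toMatrix'_toLin']
  · rw [← LinearMap.toMatrix'_comp]
    have h1 : S ∘ₗ T = LinearMap.id := by
      apply LinearMap.ext
      intro x
      rw [LinearMap.comp_apply, hST, LinearMap.id_apply]
    rw [h1, LinearMap.toMatrix'_id]

/-- a fundamental involution of `SL` is conjugate to `sI I₀` -/
theorem exists_conj_sI (h2 : (2 : F) ≠ 0) (h3 : 3 ≤ Fintype.card ι) {z : Matrix.SpecialLinearGroup ι F}
    (hz : Cfsg.Agent.H353.Phi.mfund z) {I₀ : Finset ι} (h0 : I₀.card = 2) (he0 : Even I₀.card) :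
    ∃ C : Matrix.SpecialLinearGroup ι F, z = C * sI F I₀ he0 * C⁻¹ := by
  obtain ⟨hzz, hr⟩ := hz
  have hzz' : (z : Matrix ι ι F) * (z : Matrix ι ι F) = 1 := by
    rw [← Matrix.SpecialLinearGroup.coe_mul, hzz, Matrix.SpecialLinearGroup.coe_one]
  set P : Matrix ι ι F := (2 : F)⁻¹ • (1 - (z : Matrix ι ι F)) with hPdef
  have hP : P * P = P := by
    have h4 : (1 - (z : Matrix ι ι F)) * (1 - (z : Matrix ι ι F)) = (2 : F) • (1 - (z : Matrix ι ι F)) := by
      rw [sub_mul, one_mul, mul_sub, mul_one, hzz', two_smul]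
      abel
    rw [hPdef, smul_mul_smul_comm, h4, smul_smul]
    congr 1
    field_simp
  have hPr : P.rank = 2 := by
    have h4 : P = (-(2 : F)⁻¹) • ((z : Matrix ι ι F) - 1) := by
      rw [hPdef, neg_smul, ← smul_neg, neg_sub]
    rw [h4, ← hr]
    exact Matrix.rank_smul_of_mem_nonZeroDivisors _ (mem_nonZeroDivisors_of_ne_zero (neg_ne_zero.2 (inv_ne_zero h2)))
  obtain ⟨A, B, hAB, hBA⟩ := exists_factor hP hPr
  obtain ⟨e, he⟩ := exists_emb I₀ h0
  obtain ⟨C, hC1, hC2⟩ := exists_frame hBA e (by rw [Fintype.card_fin]; omega)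
  refine ⟨C, ?_⟩
  rw [eq_mul_inv_iff_mul_eq]
  apply sl_ext
  rw [Matrix.SpecialLinearGroup.coe_mul, Matrix.SpecialLinearGroup.coe_mul, coe_sI]
  have hz1 : (z : Matrix ι ι F) = 1 - (2 : F) • (A * B) := by
    rw [hAB, hPdef, smul_smul, mul_inv_cancel₀ h2, one_smul, sub_sub_cancel]
  have hs : diagonal (sg F I₀) = 1 - (2 : F) • (Em F e * (Em F e)ᵀ) := by
    ext x y
    rw [Matrix.sub_apply, Matrix.smul_apply, mul_apply]
    simp_rw [transpose_apply]
    have h4 : ∀ (z : ι) (a : Fin 2), z ≠ e a → Em F e z a = 0 := by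
      intro z a h
      simp [Em, h]
    by_cases hxy : x = y
    · subst hxy
      rw [one_apply_eq, diagonal_apply_eq]
      by_cases hx : ∃ a, x = e a
      · obtain ⟨a, rfl⟩ := hx
        have h3 : Em F e (e a) a = 1 := by simp [Em]
        rw [Finset.sum_eq_single a]
        · rw [h3, mul_one, smul_eq_mul, mul_one]
          have h4 : e a ∈ I₀ := by rw [← he]; simp
          unfold sg
          rw [if_pos h4]
          ring
        · intro b _ hb
          rw [h4 (e a) b (fun h => hb (e.injective h).symm), zero_mul]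
        · intro h
          exact absurd (Finset.mem_univ a) h
      · push Not at hx
        rw [Finset.sum_eq_zero (fun a _ => by rw [h4 x a (hx a), zero_mul]), smul_zero, sub_zero]
        unfold sg
        rw [if_neg]
        intro h
        rw [← he] at h
        obtain ⟨a, -, ha⟩ := Finset.mem_map.1 h
        exact hx a ha.symm
    · rw [one_apply_ne hxy, diagonal_apply_ne _ hxy, Finset.sum_eq_zero, smul_zero, sub_zero]
      intro a _
      by_cases hx : x = e a
      · rw [h4 y a (fun h => hxy (hx.trans h.symm)), mul_zero]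
      · rw [h4 x a hx, zero_mul]
  rw [hz1, hs, sub_mul, mul_sub, one_mul, mul_one, smul_mul_assoc, mul_smul_comm, Matrix.mul_assoc A B, hC2,
    ← Matrix.mul_assoc, hC1]

end

section

variable {F : Type*} [Field F] [Fintype F]

/-- PHI in the form `PhiSL` -/
theorem phi_sl' {F : Type} [Field F] [Fintype F] (h2 : (2 : F) ≠ 0)
    (hFT : ∀ (D : Type) [Group D] [Finite D], Odd (Nat.card D) → Group.IsSolvable D) {k : ℕ} (hk : 3 ≤ k) :
    PhiSL F k := by
  intro X hX
  have h1 := Cfsg.Agent.H353.Phi.phi_mat_abs (ι := Fin k) h2 hFT (X := X) (by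
    intro z hz hzX
    obtain ⟨i, j, hij⟩ : ∃ i j : Fin k, i ≠ j := ⟨⟨0, by omega⟩, ⟨1, by omega⟩, by simp⟩
    have h0 : ({i, j} : Finset (Fin k)).card = 2 := Finset.card_pair hij
    have he0 : Even ({i, j} : Finset (Fin k)).card := by rw [h0]; decide
    obtain ⟨C, rfl⟩ := exists_conj_sI h2 (by rw [Fintype.card_fin]; exact hk) hz h0 he0
    exact hX _ he0 C h0 hzX)
  rwa [Nat.card_eq_fintype_card, Fintype.card_fin] at h1

/-- **the final step for `PSL_m(q)`, `q` odd, `m ≥ 5`** : a fundamental involution in `A` is impossible -/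
theorem final_sl (hFT : ∀ (D : Type) [Group D] [Finite D], Odd (Nat.card D) → Group.IsSolvable D)
    {F : Type} [Field F] [Finite F] {m : ℕ} (hm : 5 ≤ m) (h2 : (2 : F) ≠ 0)
    {A : Subgroup (ProjectiveSpecialLinearGroup (Fin m) F)}
    {Γ : Subgroup (MulAut (ProjectiveSpecialLinearGroup (Fin m) F))} (h : IF A Γ)
    {z : Matrix.SpecialLinearGroup (Fin m) F} (hz : Cfsg.Agent.H353.Phi.mfund z)
    (hzA : QuotientGroup.mk' (center (Matrix.SpecialLinearGroup (Fin m) F)) z ∈ A) : False := by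
  have hfin : Fintype F := Fintype.ofFinite F
  obtain ⟨r, rfl⟩ : ∃ r, m = r + 4 := ⟨m - 4, by omega⟩
  have hs : IsSimpleGroup (ProjectiveSpecialLinearGroup (Fin (r + 4)) F) := Cfsg.Agent.S0249.result (r + 4) (by omega)
  have h3 : 3 ≤ Fintype.card F := by
    have h4 : 1 < Fintype.card F := Fintype.one_lt_card
    by_contra hc
    have h5 : Fintype.card F = 2 := by omega
    apply h2
    have h6 := FiniteField.cast_card_eq_zero F
    rw [h5] at h6
    exact_mod_cast h6
  have hna : ∃ a b : ProjectiveSpecialLinearGroup (Fin (r + 4)) F, a * b ≠ b * a := by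
    by_contra hcon
    push Not at hcon
    have hN : A.Normal := ⟨fun a ha g => by rw [hcon g a, mul_inv_cancel_right]; exact ha⟩
    rcases hN.eq_bot_or_eq_top with h1 | h1
    · exact h.ne_bot h1
    · exact h.ne_top h1
  have h01 : (0 : Fin (r + 4)) ≠ 1 := by
    intro h
    have := congrArg Fin.val h
    simp at this
  have h0 : ({0, 1} : Finset (Fin (r + 4))).card = 2 := Finset.card_pair h01
  have he0 : Even ({0, 1} : Finset (Fin (r + 4))).card := by rw [h0]; decide
  obtain ⟨C, rfl⟩ := exists_conj_sI h2 (by rw [Fintype.card_fin]; omega) hz h0 he0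
  exact final_sI h2 h3 (by omega) (phi_sl' h2 hFT (by omega)) h hna h0 he0 hzA

end

end Cfsg.Agent.H974.IF
end

-- part: H778/FX/Num
section
/-!
# S5719, PSL row: orders of general linear groups
-/

set_option autoImplicit false

namespace Cfsg.Agent.H778.FX

open Finset

/-- the order of `GL_n(q)` -/
def gl (q n : ℕ) : ℕ := ∏ i ∈ range n, (q ^ n - q ^ i)

/-- `∏ (q^i - 1)`, `1 ≤ i ≤ n` -/
def pp (q : ℕ) : ℕ → ℕ
  | 0 => 1
  | n + 1 => pp q n * (q ^ (n + 1) - 1)

/-- `n (n - 1) / 2` -/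
def tri : ℕ → ℕ
  | 0 => 0
  | n + 1 => tri n + n

theorem tri_two (n : ℕ) : 2 * tri n + n = n * n := by
  induction n with
  | zero => rfl
  | succ n ih =>
    simp only [tri]
    linarith [ih]

theorem tri_add (a b : ℕ) : tri (a + b) = tri a + tri b + a * b := by
  have h1 := tri_two (a + b)
  have h2 := tri_two a
  have h3 := tri_two b
  linarith only [h1, h2, h3]

theorem gl_eq (q n : ℕ) : gl q n = q ^ tri n * pp q n := by
  unfold gl
  have h1 : ∀ k, k ≤ n → ∏ i ∈ range k, (q ^ n - q ^ i) = q ^ tri k * ∏ i ∈ range k, (q ^ (n - i) - 1) := by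
    intro k
    induction k with
    | zero => intro _; simp only [tri, _root_.Finset.range_zero, _root_.Finset.prod_empty, _root_.pow_zero, _root_.mul_one]
    | succ k ih =>
      intro hk
      rw [prod_range_succ, ih (by omega), prod_range_succ, tri, pow_add]
      have h2 : q ^ n - q ^ k = q ^ k * (q ^ (n - k) - 1) := by
        rw [Nat.mul_sub, mul_one, ← pow_add]
        congr 2
        omega
      rw [h2]
      ring
  have h2 : ∀ m, ∏ i ∈ range m, (q ^ (m - i) - 1) = pp q m := by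
    intro m
    induction m with
    | zero => rfl
    | succ m ih =>
      rw [prod_range_succ', pp, ← ih]
      congr 1
      apply prod_congr rfl
      intro i _
      congr 2
      omega
  rw [h1 n le_rfl, h2]

theorem pp_pos {q : ℕ} (hq : 2 ≤ q) (n : ℕ) : 0 < pp q n := by
  induction n with
  | zero => simp [pp]
  | succ n ih =>
    simp only [pp]
    apply Nat.mul_pos ih
    have : 1 < q ^ (n + 1) := Nat.one_lt_pow (by omega) (by omega)
    omega

theorem gl_pos {q : ℕ} (hq : 2 ≤ q) (n : ℕ) : 0 < gl q n := by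
  rw [gl_eq]
  exact Nat.mul_pos (pow_pos (by omega) _) (pp_pos hq n)

/-- `∏ q^i ≤ 2 ∏ (q^i - 1)`, `q ≥ 3` -/
theorem two_pp {q : ℕ} (hq : 3 ≤ q) (n : ℕ) : q ^ tri (n + 1) * (q ^ n + 1) ≤ 2 * pp q n * q ^ n := by
  induction n with
  | zero => simp [tri, pp]
  | succ n ih =>
    simp only [pp]
    obtain ⟨x, hx⟩ : ∃ x, x = q ^ n := ⟨_, rfl⟩
    have hx1 : 1 ≤ x := by rw [hx]; exact Nat.one_le_pow _ _ (by omega)
    have h3 : q ^ (n + 1) = x * q := by rw [hx, pow_succ]
    have h4 : q ^ tri (n + 1 + 1) = q ^ tri (n + 1) * (x * q) := by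
      rw [← h3, ← pow_add]
      rfl
    rw [h4, h3]
    rw [← hx] at ih
    obtain ⟨y, hy⟩ : ∃ y, y = q ^ tri (n + 1) := ⟨_, rfl⟩
    rw [← hy] at ih ⊢
    have h5 : 1 ≤ x * q := Nat.mul_pos hx1 (by omega)
    have h6 : y * (x * q) * (x * q + 1) ≤ y * (x + 1) * (x * q - 1) * q := by
      zify [h5]
      have hx' : (1 : ℤ) ≤ x := by exact_mod_cast hx1
      have hq' : (3 : ℤ) ≤ q := by exact_mod_cast hq
      have hy' : (0 : ℤ) ≤ y := by positivity
      have h7 : (x : ℤ) * q * (x * q + 1) ≤ (x + 1) * (x * q - 1) * q := by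
        have h8 : (0 : ℤ) ≤ ((x : ℤ) * q - 2 * x - 1) * q := by
          apply mul_nonneg _ (by omega)
          nlinarith only [hq, hx1]
        linarith only [h8]
      linarith only [mul_le_mul_of_nonneg_left h7 hy']
    calc y * (x * q) * (x * q + 1) ≤ y * (x + 1) * (x * q - 1) * q := h6
      _ ≤ (2 * pp q n * x) * (x * q - 1) * q := by gcongr
      _ = 2 * (pp q n * (x * q - 1)) * (x * q) := by ring

theorem two_pp' {q : ℕ} (hq : 3 ≤ q) (n : ℕ) : q ^ tri (n + 1) ≤ 2 * pp q n := by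
  have h1 := two_pp hq n
  have h2 : 0 < q ^ n := pow_pos (by omega) _
  by_contra h3
  rw [not_le] at h3
  have h4 : 2 * pp q n * q ^ n < q ^ tri (n + 1) * q ^ n := (Nat.mul_lt_mul_right h2).2 h3
  have h5 : q ^ tri (n + 1) * q ^ n ≤ q ^ tri (n + 1) * (q ^ n + 1) := Nat.mul_le_mul_left _ (Nat.le_succ _)
  omega

/-- `|GL_n(q)| ≤ q^(n²)` -/
theorem gl_le (q n : ℕ) : gl q n ≤ q ^ (n * n) := by
  unfold gl
  calc ∏ i ∈ range n, (q ^ n - q ^ i) ≤ ∏ i ∈ range n, q ^ n := Finset.prod_le_prod' fun i _ => Nat.sub_le _ _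
    _ = q ^ (n * n) := by rw [prod_const, card_range, pow_mul]

/-- `q^(n²) ≤ 2 |GL_n(q)|` -/
theorem le_gl {q : ℕ} (hq : 3 ≤ q) (n : ℕ) : q ^ (n * n) ≤ 2 * gl q n := by
  rw [gl_eq]
  have h1 := two_pp' hq n
  have h2 : n * n = tri n + tri (n + 1) := by
    have := tri_two n
    simp only [tri]
    omega
  rw [h2, pow_add]
  calc q ^ tri n * q ^ tri (n + 1) ≤ q ^ tri n * (2 * pp q n) := Nat.mul_le_mul_left _ h1
    _ = 2 * (q ^ tri n * pp q n) := by ring

theorem pp_add_le (q a b : ℕ) : pp q (a + b) ≤ pp q a * q ^ (a * b) * q ^ tri (b + 1) := by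
  induction b with
  | zero => simp [tri]
  | succ b ih =>
    rw [← add_assoc, pp]
    calc pp q (a + b) * (q ^ (a + b + 1) - 1) ≤ (pp q a * q ^ (a * b) * q ^ tri (b + 1)) * q ^ (a + b + 1) :=
          Nat.mul_le_mul ih (Nat.sub_le _ _)
      _ = pp q a * q ^ (a * (b + 1)) * q ^ tri (b + 1 + 1) := by
          have h1 : tri (b + 1 + 1) = tri (b + 1) + (b + 1) := rfl
          rw [h1, show a * (b + 1) = a * b + a from by ring, pow_add, pow_add, pow_add, pow_add, pow_add]
          ring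

/-- `|GL_(a+b)(q)| ≤ 2 q^(2ab) |GL_a(q)| |GL_b(q)|` -/
theorem gl_add_le {q : ℕ} (hq : 3 ≤ q) (a b : ℕ) : gl q (a + b) ≤ 2 * q ^ (2 * (a * b)) * (gl q a * gl q b) := by
  rw [gl_eq, gl_eq, gl_eq, tri_add]
  calc q ^ (tri a + tri b + a * b) * pp q (a + b)
      ≤ q ^ (tri a + tri b + a * b) * (pp q a * q ^ (a * b) * q ^ tri (b + 1)) := Nat.mul_le_mul_left _ (pp_add_le q a b)
    _ ≤ q ^ (tri a + tri b + a * b) * (pp q a * q ^ (a * b) * (2 * pp q b)) :=
        Nat.mul_le_mul_left _ (Nat.mul_le_mul_left _ (two_pp' hq b))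
    _ = _ := by
        rw [two_mul (a * b), pow_add, pow_add, pow_add]
        ring

/-- the quadratic field extension -/
theorem gl_sq_le {q : ℕ} (hq : 3 ≤ q) (d : ℕ) : gl q (2 * d) ≤ 2 * q ^ (2 * (d * d)) * gl (q ^ 2) d := by
  have h1 := gl_le q (2 * d)
  have h2 := le_gl (q := q ^ 2) (by nlinarith only [hq]) d
  calc gl q (2 * d) ≤ q ^ (2 * d * (2 * d)) := h1
    _ = q ^ (2 * (d * d)) * (q ^ 2) ^ (d * d) := by rw [← pow_mul, ← pow_add]; congr 1; ring
    _ ≤ q ^ (2 * (d * d)) * (2 * gl (q ^ 2) d) := Nat.mul_le_mul_left _ h2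
    _ = _ := by ring

theorem card_lin (E : Type*) [Field E] [Finite E] (V : Type*) [AddCommGroup V] [Module E V]
    [FiniteDimensional E V] : Nat.card (V ≃ₗ[E] V) = gl (Nat.card E) (Module.finrank E V) := by
  classical
  have := Fintype.ofFinite E
  let b := Module.finBasis E V
  let e1 : (V ≃ₗ[E] V) ≃* LinearMap.GeneralLinearGroup E V :=
    (LinearMap.GeneralLinearGroup.generalLinearEquiv E V).symm
  let e2 : LinearMap.GeneralLinearGroup E V ≃* Matrix.GeneralLinearGroup (Fin (Module.finrank E V)) E :=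
    Units.mapEquiv (LinearMap.toMatrixAlgEquiv b).toMulEquiv
  rw [Nat.card_congr (e1.trans e2).toEquiv, Matrix.card_GL_field, Nat.card_eq_fintype_card, gl,
    Finset.prod_range]

/-- `(k² + m² - k - m)/2 · 5 ≥ 2 k m + 1` -/
theorem num_one {a b : ℕ} (h : 5 ≤ a + b) : 2 * (a * b) + 1 ≤ 5 * (tri a + tri b) := by
  have h1 := tri_two a
  have h2 := tri_two b
  have h3 : 2 * (tri a + tri b) + (a + b) = a * a + b * b := by omega
  have h4 : (a : ℤ) * a + b * b ≥ 2 * (a * b) := by linarith only [sq_nonneg ((a : ℤ) - b)]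
  have h5 : (2 : ℤ) * (tri a + tri b) + (a + b) = a * a + b * b := by exact_mod_cast h3
  have h6 : (5 : ℤ) ≤ a + b := by exact_mod_cast h
  zify
  nlinarith only [h, h1, h2, h4]

theorem num_two {d : ℕ} (h : 3 ≤ d) : 2 * (d * d) + 1 ≤ 5 * (2 * tri d) := by
  have h1 := tri_two d
  have h2 : 3 * d ≤ d * d := Nat.mul_le_mul_right d h
  linarith only [h, h1, h2]

end Cfsg.Agent.H778.FX
end

-- part: H778/FX/Fund
section
/-!
# S5719, PSL row: from an involution to a fundamental one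
-/

set_option autoImplicit false

namespace Cfsg.Agent.H778.FX

open Subgroup Module Cfsg.Agent.H847.Bs Cfsg.Agent.H209.Fxy Cfsg.Agent.H440.Bs

section defs

variable {F V : Type*} [Field F] [AddCommGroup V] [Module F V]

/-- `-1` on a plane, `1` on a complement -/
def Fund (z : V ≃ₗ[F] V) : Prop := ∃ W U : Submodule F V, IsCompl W U ∧ finrank F W = 2 ∧
  (∀ w ∈ W, z w = -w) ∧ ∀ u ∈ U, z u = u

theorem mem_slV {g : V ≃ₗ[F] V} : g ∈ slV F V ↔ LinearMap.det (g : V →ₗ[F] V) = 1 := Iff.rfl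

instance finite_equiv [Finite V] : Finite (V ≃ₗ[F] V) :=
  Finite.of_injective (fun g : V ≃ₗ[F] V => (g : V → V)) DFunLike.coe_injective

theorem finite_of_fd [Finite F] [FiniteDimensional F V] : Finite V := Module.finite_of_finite F

end defs

section glue

variable {F V : Type*} [Field F] [AddCommGroup V] [Module F V] {D U : Submodule F V}

/-- `SL(D) × SL(U) → SL(V)` -/
noncomputable def glueSL [FiniteDimensional F V] (h : IsCompl D U) : slV F D × slV F U →* slV F V where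
  toFun p := ⟨glue h p.1 p.2, by
    rw [mem_slV, Cfsg.Agent.H845.Bs.det_glue, mem_slV.1 p.1.2, mem_slV.1 p.2.2, one_mul]⟩
  map_one' := Subtype.ext (glue_one h)
  map_mul' p q := Subtype.ext (glue_mul h p.1 q.1 p.2 q.2)

/-- a fundamental element of `SL(D)` is fundamental in `SL(V)` -/
theorem fund_glue_left (h : IsCompl D U) {z : D ≃ₗ[F] D} (hz : Fund z) : Fund (glue h z 1) := by
  obtain ⟨W, W', hc, h2, h3, h4⟩ := hz
  refine ⟨W.map D.subtype, W'.map D.subtype ⊔ U, ?_, ?_, ?_, ?_⟩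
  · constructor
    · rw [Submodule.disjoint_def]
      rintro _ ⟨w, hw, rfl⟩ hx
      rw [Submodule.mem_sup] at hx
      obtain ⟨_, ⟨w', hw', rfl⟩, u, hu, he⟩ := hx
      have h5 : (w : V) - w' = u := by
        have he' : (w' : V) + u = w := he
        rw [← he']
        abel
      have h6 : (u : V) ∈ D ⊓ U := by
        refine ⟨?_, hu⟩
        rw [← h5]
        exact D.sub_mem w.2 w'.2
      rw [h.inf_eq_bot, Submodule.mem_bot] at h6
      rw [h6] at h5
      have h7 : w = w' := Subtype.ext (sub_eq_zero.1 h5)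
      have h8 : w ∈ W ⊓ W' := ⟨hw, h7 ▸ hw'⟩
      rw [hc.inf_eq_bot, Submodule.mem_bot] at h8
      rw [h8]
      rfl
    · rw [codisjoint_iff, ← sup_assoc, ← Submodule.map_sup, hc.sup_eq_top, Submodule.map_top, Submodule.range_subtype,
        h.sup_eq_top]
  · rw [Submodule.finrank_map_subtype_eq, h2]
  · rintro _ ⟨w, hw, rfl⟩
    change glue h z 1 (w : V) = -(w : V)
    rw [glue_left, h3 w hw]
    rfl
  · intro x hx
    rw [Submodule.mem_sup] at hx
    obtain ⟨_, ⟨w', hw', rfl⟩, u, hu, rfl⟩ := hx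
    have h5 := glue_add h z 1 w' ⟨u, hu⟩
    change glue h z 1 ((w' : V) + u) = w' + u
    rw [h5, h4 w' hw']
    rfl

theorem fund_glue_right (h : IsCompl D U) {z : U ≃ₗ[F] U} (hz : Fund z) : Fund (glue h 1 z) := by
  rw [← glue_symm h 1 z]
  exact fund_glue_left h.symm hz

end glue

section cent

variable {F V : Type*} [Field F] [Finite F] [AddCommGroup V] [Module F V] [FiniteDimensional F V] {D U : Submodule F V}

/-- centralisers in `SL(V)` and `GL(V)` -/
theorem index_cent_le (t : slV F V) {M N : ℕ} (hN : 0 < N)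
    (hC : N ≤ Nat.card (centralizer ({(t : V ≃ₗ[F] V)} : Set (V ≃ₗ[F] V))))
    (hM : Nat.card (V ≃ₗ[F] V) ≤ M * N) : (centralizer ({t} : Set (slV F V))).index ≤ M := by
  have hf : Finite V := finite_of_fd (F := F)
  have h1 : centralizer ({t} : Set (slV F V)) = (centralizer ({(t : V ≃ₗ[F] V)} : Set (V ≃ₗ[F] V))).subgroupOf (slV F V) := by
    ext g
    rw [mem_subgroupOf, mem_centralizer_singleton_iff, mem_centralizer_singleton_iff]
    constructor
    · intro hg
      exact congrArg Subtype.val hg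
    · intro hg
      exact Subtype.ext hg
  have h2 : (centralizer ({t} : Set (slV F V))).index ≤ (centralizer ({(t : V ≃ₗ[F] V)} : Set (V ≃ₗ[F] V))).index := by
    rw [h1, ← relIndex_top_right (centralizer ({(t : V ≃ₗ[F] V)} : Set (V ≃ₗ[F] V)))]
    exact relIndex_le_of_le_right le_top (by rw [relIndex_top_right]; exact index_ne_zero_of_finite)
  have h3 := index_mul_card (centralizer ({(t : V ≃ₗ[F] V)} : Set (V ≃ₗ[F] V)))
  by_contra h4
  rw [not_le] at h4
  have h5 : M < (centralizer ({(t : V ≃ₗ[F] V)} : Set (V ≃ₗ[F] V))).index := lt_of_lt_of_le h4 h2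
  have h6 : M * N < (centralizer ({(t : V ≃ₗ[F] V)} : Set (V ≃ₗ[F] V))).index *
      Nat.card (centralizer ({(t : V ≃ₗ[F] V)} : Set (V ≃ₗ[F] V))) :=
    calc M * N < (centralizer ({(t : V ≃ₗ[F] V)} : Set (V ≃ₗ[F] V))).index * N := Nat.mul_lt_mul_of_pos_right h5 hN
      _ ≤ _ := Nat.mul_le_mul_left _ hC
  rw [h3] at h6
  omega

/-- the centraliser of an involution of type `(a, b)` -/
theorem index_cent_split (hq : 3 ≤ Nat.card F) (hc : IsCompl D U) {t : slV F V} {μ ν : F}
    (hD : ∀ v ∈ D, (t : V ≃ₗ[F] V) v = μ • v) (hU : ∀ v ∈ U, (t : V ≃ₗ[F] V) v = ν • v) :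
    (centralizer ({t} : Set (slV F V))).index ≤ 2 * Nat.card F ^ (2 * (finrank F D * finrank F U)) := by
  have hf : Finite V := finite_of_fd (F := F)
  refine index_cent_le t (N := gl (Nat.card F) (finrank F D) * gl (Nat.card F) (finrank F U))
    (Nat.mul_pos (gl_pos (by omega) _) (gl_pos (by omega) _)) ?_ ?_
  · rw [← card_lin, ← card_lin, ← Nat.card_prod]
    let f : (D ≃ₗ[F] D) × (U ≃ₗ[F] U) → centralizer ({(t : V ≃ₗ[F] V)} : Set (V ≃ₗ[F] V)) :=
      fun p => ⟨glueHom hc p, by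
        rw [mem_centralizer_singleton_iff]
        ext v
        obtain ⟨d, u, rfl⟩ := exists_add' hc v
        rw [LinearEquiv.mul_apply, LinearEquiv.mul_apply, map_add, hD d d.2, hU u u.2, glueHom_apply, glue_add, map_add,
          map_add, hD _ (p.1 d).2, hU _ (p.2 u).2, map_smul, map_smul, glue_left, glue_right]⟩
    refine Nat.card_le_card_of_injective f fun p p' hp => ?_
    exact glueHom_injective hc (congrArg Subtype.val hp)
  · rw [card_lin, ← Submodule.finrank_add_eq_of_isCompl hc]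
    exact gl_add_le hq _ _

end cent

section key

variable {F V : Type*} [Field F] [Finite F] [AddCommGroup V] [Module F V] [FiniteDimensional F V] {D U : Submodule F V}
  {T : Type*} [Group T] [Finite T] [IsSimpleGroup T] {A : Subgroup T} {Γ : Subgroup (MulAut T)}

/-- the setting -/
structure Lft (π : slV F V →* T) : Prop where
  surj : Function.Surjective π
  ker : ∀ g, π g = 1 ↔ ∃ c : F, ∀ v, (g : V ≃ₗ[F] V) v = c • v

theorem key1 (h : IF A Γ) (hna : ∃ a b : T, a * b ≠ b * a) {π : slV F V →* T} (hπ : Lft π) (hq : 3 ≤ Nat.card F)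
    (h2 : (2 : F) ≠ 0) (hc : IsCompl D U) {t : slV F V} {μ : F} (hμ : μ ≠ 0)
    (hD : ∀ v ∈ D, (t : V ≃ₗ[F] V) v = μ • v) (hU : ∀ v ∈ U, (t : V ≃ₗ[F] V) v = (-μ) • v) (hD0 : D ≠ ⊥) (hU0 : U ≠ ⊥)
    (ht : π t ∈ A) {L : Type*} [Group L] (f : L →* slV F V) (hf : ∀ x : L, f x * t = t * f x) :
    ((A.comap π).comap f).index ^ 5 < 2 * Nat.card F ^ (2 * (finrank F D * finrank F U)) := by
  have hfin : Finite V := finite_of_fd (F := F)
  have ht1 : π t ≠ 1 := by
    intro h1
    obtain ⟨c, hc'⟩ := (hπ.ker t).1 h1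
    obtain ⟨d, hd, hd0⟩ := Submodule.exists_mem_ne_zero_of_ne_bot hD0
    obtain ⟨u, hu, hu0⟩ := Submodule.exists_mem_ne_zero_of_ne_bot hU0
    have h3 : c = μ := smul_left_injective F hd0 (by show c • d = μ • d; rw [← hc', hD d hd])
    have h4 : c = -μ := smul_left_injective F hu0 (by show c • u = (-μ) • u; rw [← hc', hU u hu])
    rw [h3] at h4
    have h5 : 2 * μ = 0 := by linear_combination h4
    rcases mul_eq_zero.1 h5 with h6 | h6
    · exact h2 h6
    · exact hμ h6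
  have ht2 : π (t * t) = 1 := by
    rw [hπ.ker]
    refine ⟨μ * μ, fun v => ?_⟩
    obtain ⟨d, u, rfl⟩ := exists_add' hc v
    change (t : V ≃ₗ[F] V) ((t : V ≃ₗ[F] V) (d + u)) = _
    rw [map_add, hD d d.2, hU u u.2, map_add, map_smul, map_smul, hD d d.2, hU u u.2, smul_smul, smul_smul,
      neg_mul_neg, smul_add]
  have h5 := Cfsg.Agent.H847.IF.lift_E2 h hna π hπ.surj ht ht1 ht2 (B := f.range) (by
    rintro _ ⟨x, rfl⟩
    rw [hf])
  rw [index_comap]
  exact lt_of_lt_of_le h5 (index_cent_split hq hc hD hU)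

/-- PHI for two factors -/
def Phi2 {F V : Type*} [Field F] [AddCommGroup V] [Module F V] (D U : Submodule F V) : Prop :=
  ∀ X : Subgroup (slV F D × slV F U), (∀ z : slV F D, Fund (z : D ≃ₗ[F] D) → ((z, 1) : slV F D × slV F U) ∉ X) →
    (∀ z : slV F U, Fund (z : U ≃ₗ[F] U) → ((1, z) : slV F D × slV F U) ∉ X) →
    Nat.card F ^ (tri (finrank F D) + tri (finrank F U)) ≤ X.index

/-- PHI for one factor -/
def Phi1 (F V : Type*) [Field F] [AddCommGroup V] [Module F V] : Prop :=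
  ∀ X : Subgroup (slV F V), (∀ z : slV F V, Fund (z : V ≃ₗ[F] V) → z ∉ X) → Nat.card F ^ tri (finrank F V) ≤ X.index

/-- **an involution with eigenvalues in `F` gives a fundamental one** -/
theorem fund_of_split (h : IF A Γ) (hna : ∃ a b : T, a * b ≠ b * a) {π : slV F V →* T} (hπ : Lft π)
    (hq : 3 ≤ Nat.card F) (h5 : 5 ≤ finrank F V) (h2 : (2 : F) ≠ 0) (hc : IsCompl D U) (phi : Phi2 D U) {t : slV F V}
    {μ : F} (hμ : μ ≠ 0) (hD : ∀ v ∈ D, (t : V ≃ₗ[F] V) v = μ • v) (hU : ∀ v ∈ U, (t : V ≃ₗ[F] V) v = (-μ) • v)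
    (hD0 : D ≠ ⊥) (hU0 : U ≠ ⊥) (ht : π t ∈ A) : ∃ z : slV F V, Fund (z : V ≃ₗ[F] V) ∧ π z ∈ A := by
  by_contra hcon
  push Not at hcon
  have h6 := key1 h hna hπ hq h2 hc hμ hD hU hD0 hU0 ht (glueSL hc) (fun x => by
    apply Subtype.ext
    change glue hc x.1 x.2 * (t : V ≃ₗ[F] V) = (t : V ≃ₗ[F] V) * glue hc x.1 x.2
    ext v
    obtain ⟨d, u, rfl⟩ := exists_add' hc v
    rw [LinearEquiv.mul_apply, LinearEquiv.mul_apply, map_add, hD d d.2, hU u u.2, glue_add, map_add,
      map_add, hD _ ((x.1 : D ≃ₗ[F] D) d).2, hU _ ((x.2 : U ≃ₗ[F] U) u).2, map_smul, map_smul, glue_left, glue_right])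
  have h7 := phi ((A.comap π).comap (glueSL hc)) (fun z hz hzX => hcon _ (fund_glue_left hc hz) hzX)
    (fun z hz hzX => hcon _ (fund_glue_right hc hz) hzX)
  have h8 : finrank F D + finrank F U = finrank F V := Submodule.finrank_add_eq_of_isCompl hc
  have h9 := num_one (a := finrank F D) (b := finrank F U) (by omega)
  have h10 : (Nat.card F ^ (tri (finrank F D) + tri (finrank F U))) ^ 5 <
      2 * Nat.card F ^ (2 * (finrank F D * finrank F U)) := lt_of_le_of_lt (Nat.pow_le_pow_left h7 5) h6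
  rw [← pow_mul] at h10
  have h11 : 2 * Nat.card F ^ (2 * (finrank F D * finrank F U)) ≤
      Nat.card F ^ (2 * (finrank F D * finrank F U) + 1) := by
    rw [pow_succ, mul_comm]
    exact Nat.mul_le_mul_left _ (by omega)
  have h12 : Nat.card F ^ (2 * (finrank F D * finrank F U) + 1) ≤
      Nat.card F ^ ((tri (finrank F D) + tri (finrank F U)) * 5) :=
    Nat.pow_le_pow_right (by omega) (by omega)
  omega

end key

end Cfsg.Agent.H778.FX
end

-- part: H778/FX/Ext
section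
/-!
# S5719, PSL row: involutions whose preimage has no eigenvalue
-/

set_option autoImplicit false

namespace Cfsg.Agent.H778.FX

open Subgroup Module Cfsg.Agent.H847.Bs Cfsg.Agent.H209.Fxy Cfsg.Agent.H440.Bs

section ext

variable {F K V : Type} [Field F] [Finite F] [Field K] [Algebra F K] [AddCommGroup V] [Module F V] [Module K V]
  [IsScalarTower F K V] [FiniteDimensional F V] [FiniteDimensional K V] [FiniteDimensional F K]
  {T : Type*} [Group T] [Finite T] [IsSimpleGroup T] {A : Subgroup T} {Γ : Subgroup (MulAut T)}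

/-- restriction of scalars -/
noncomputable def resSL (F K V : Type) [Field F] [Field K] [Algebra F K] [AddCommGroup V] [Module F V] [Module K V]
    [IsScalarTower F K V] [FiniteDimensional F V] [FiniteDimensional K V] [FiniteDimensional F K] :
    slV K V →* slV F V where
  toFun g := ⟨(g : V ≃ₗ[K] V).restrictScalars F, by
    rw [mem_slV]
    have h1 : (((g : V ≃ₗ[K] V).restrictScalars F : V ≃ₗ[F] V) : V →ₗ[F] V) =
        ((g : V ≃ₗ[K] V) : V →ₗ[K] V).restrictScalars F := rfl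
    rw [h1, LinearMap.det_restrictScalars, mem_slV.1 g.2, map_one]⟩
  map_one' := rfl
  map_mul' _ _ := rfl

omit [Finite F] in
theorem resSL_apply (g : slV K V) (v : V) : (resSL F K V g : V ≃ₗ[F] V) v = (g : V ≃ₗ[K] V) v := rfl

/-- **an involution which comes from a quadratic extension** -/
theorem split_of_ext (h : IF A Γ) (hna : ∃ a b : T, a * b ≠ b * a) {π : slV F V →* T} (hπ : Lft π)
    (hq : 3 ≤ Nat.card F) (h3 : 5 ≤ finrank F V) (hFK : finrank F K = 2) (phi : Phi1 K V) {t : slV F V}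
    {k : K} (hk : ∀ v, (t : V ≃ₗ[F] V) v = k • v) (hk1 : ∀ c : F, algebraMap F K c ≠ k)
    (hk2 : ∃ c : F, algebraMap F K c = k * k) (ht : π t ∈ A) :
    ∃ (z : slV F V) (W U : Submodule F V), π z ∈ A ∧ IsCompl W U ∧ finrank F W = 4 ∧
      (∀ w ∈ W, (z : V ≃ₗ[F] V) w = -w) ∧ ∀ u ∈ U, (z : V ≃ₗ[F] V) u = u := by
  have hfin : Finite V := finite_of_fd (F := F)
  have hfK : Finite K := Module.finite_of_finite F
  have hcK : Nat.card K = Nat.card F ^ 2 := by rw [← hFK]; exact Module.natCard_eq_pow_finrank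
  have hd : finrank F V = 2 * finrank K V := by rw [← hFK, Module.finrank_mul_finrank]
  have hV : ∃ v : V, v ≠ 0 := by
    have : Nontrivial V := Module.nontrivial_of_finrank_pos (R := F) (by omega)
    exact exists_ne 0
  have ht1 : π t ≠ 1 := by
    intro h1
    obtain ⟨c, hc'⟩ := (hπ.ker t).1 h1
    obtain ⟨v, hv⟩ := hV
    apply hk1 c
    refine smul_left_injective K hv ?_
    show algebraMap F K c • v = k • v
    rw [← hk, hc', algebraMap_smul]
  have ht2 : π (t * t) = 1 := by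
    rw [hπ.ker]
    obtain ⟨c, hc⟩ := hk2
    refine ⟨c, fun v => ?_⟩
    change (t : V ≃ₗ[F] V) ((t : V ≃ₗ[F] V) v) = _
    rw [hk, hk, smul_smul, ← hc, algebraMap_smul]
  have h5 := Cfsg.Agent.H847.IF.lift_E2 h hna π hπ.surj ht ht1 ht2 (B := (resSL F K V).range) (by
    rintro _ ⟨x, rfl⟩
    congr 1
    apply Subtype.ext
    ext v
    change (resSL F K V x : V ≃ₗ[F] V) ((t : V ≃ₗ[F] V) v) = (t : V ≃ₗ[F] V) ((resSL F K V x : V ≃ₗ[F] V) v)
    rw [hk, resSL_apply, resSL_apply, hk, map_smul])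
  rw [← index_comap] at h5
  have h6 : (centralizer ({t} : Set (slV F V))).index ≤ 2 * Nat.card F ^ (2 * (finrank K V * finrank K V)) := by
    refine index_cent_le t (N := gl (Nat.card K) (finrank K V)) (gl_pos (by rw [hcK]; nlinarith only [hq]) _) ?_ ?_
    · rw [← card_lin]
      let f : (V ≃ₗ[K] V) → centralizer ({(t : V ≃ₗ[F] V)} : Set (V ≃ₗ[F] V)) :=
        fun g => ⟨g.restrictScalars F, by
          rw [mem_centralizer_singleton_iff]
          ext v
          change g ((t : V ≃ₗ[F] V) v) = (t : V ≃ₗ[F] V) (g v)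
          rw [hk, hk, map_smul]⟩
      refine Nat.card_le_card_of_injective f fun p p' hp => ?_
      exact LinearEquiv.restrictScalars_injective F (congrArg Subtype.val hp)
    · rw [card_lin, hd, hcK]
      exact gl_sq_le hq _
  by_contra hcon
  push Not at hcon
  have h7 := phi ((A.comap π).comap (resSL F K V)) (fun z hz hzX => by
    obtain ⟨W, U, hc, hW2, hW, hU⟩ := hz
    obtain ⟨u, hu, hne⟩ := hcon (resSL F K V z) (W.restrictScalars F) (U.restrictScalars F) hzX
      ⟨Submodule.disjoint_def.2 fun x hx hx' => Submodule.disjoint_def.1 hc.disjoint x hx hx', by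
        rw [codisjoint_iff, eq_top_iff]
        intro x _
        have hx : x ∈ W ⊔ U := by rw [hc.sup_eq_top]; trivial
        obtain ⟨w, hw, u, hu, rfl⟩ := Submodule.mem_sup.1 hx
        exact Submodule.mem_sup.2 ⟨w, hw, u, hu, rfl⟩⟩
      (by
        have h8 : finrank F W = finrank F K * finrank K W := (Module.finrank_mul_finrank F K W).symm
        have h9 : finrank F (W.restrictScalars F) = finrank F W := rfl
        rw [h9, h8, hFK, hW2])
      (fun w hw => hW w hw)
    exact hne (hU u hu))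
  rw [hcK, ← pow_mul] at h7
  have h10 := lt_of_le_of_lt (Nat.pow_le_pow_left h7 5) (lt_of_lt_of_le h5 h6)
  rw [← pow_mul] at h10
  have h9 := num_two (d := finrank K V) (by omega)
  have h11 : 2 * Nat.card F ^ (2 * (finrank K V * finrank K V)) ≤
      Nat.card F ^ (2 * (finrank K V * finrank K V) + 1) := by
    rw [pow_succ, mul_comm]
    exact Nat.mul_le_mul_left _ (by omega)
  have h12 : Nat.card F ^ (2 * (finrank K V * finrank K V) + 1) ≤ Nat.card F ^ (2 * tri (finrank K V) * 5) :=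
    Nat.pow_le_pow_right (by omega) (by omega)
  omega

end ext

end Cfsg.Agent.H778.FX
end

-- part: H778/FX/Ex
section
/-!
# S5719, PSL row: `A` contains a fundamental involution
-/

set_option autoImplicit false

namespace Cfsg.Agent.H778.FX

open Subgroup Module Cfsg.Agent.H847.Bs Cfsg.Agent.H209.Fxy Cfsg.Agent.H440.Bs Polynomial

/-- PHI, all linear groups in odd characteristic -/
structure PhiAll : Prop where
  one : ∀ (F V : Type) [Field F] [Finite F] [AddCommGroup V] [Module F V] [FiniteDimensional F V],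
    (2 : F) ≠ 0 → Phi1 F V
  two : ∀ (F V : Type) [Field F] [Finite F] [AddCommGroup V] [Module F V] [FiniteDimensional F V]
    (D U : Submodule F V), (2 : F) ≠ 0 → Phi2 D U

variable {F V : Type} [Field F] [Finite F] [AddCommGroup V] [Module F V] [FiniteDimensional F V]
  {T : Type*} [Group T] [Finite T] [IsSimpleGroup T] {A : Subgroup T} {Γ : Subgroup (MulAut T)}

theorem three_le (h2 : (2 : F) ≠ 0) : 3 ≤ Nat.card F := by
  have h0 : (0 : F) ≠ 1 := zero_ne_one
  have h1 : (1 : F) ≠ -1 := by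
    intro h
    apply h2
    linear_combination h
  have h3 : (0 : F) ≠ -1 := by
    intro h
    apply one_ne_zero (α := F)
    linear_combination h
  have := Fintype.ofFinite F
  classical
  have h4 : ({0, 1, -1} : Finset F).card = 3 := by
    rw [Finset.card_insert_of_notMem, Finset.card_insert_of_notMem, Finset.card_singleton]
    · simpa using h1
    · simp only [Finset.mem_insert, Finset.mem_singleton, not_or]
      exact ⟨h0, h3⟩
  rw [← h4, Nat.card_eq_fintype_card]
  exact Finset.card_le_univ _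

omit [Finite F] [FiniteDimensional F V] in
/-- the fixed spaces -/
theorem split_spaces (h2 : (2 : F) ≠ 0) {g : V ≃ₗ[F] V} {μ : F} (hμ : μ ≠ 0) (hg : ∀ v, g (g v) = (μ * μ) • v) :
    ∃ D U : Submodule F V, IsCompl D U ∧ (∀ v ∈ D, g v = μ • v) ∧ (∀ v ∈ U, g v = (-μ) • v) := by
  refine ⟨LinearMap.ker ((g : V →ₗ[F] V) - μ • LinearMap.id), LinearMap.ker ((g : V →ₗ[F] V) + μ • LinearMap.id),
    ?_, ?_, ?_⟩
  · constructor
    · rw [Submodule.disjoint_def]
      intro v hv hv'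
      have h3 : g v - μ • v = 0 := hv
      have h4 : g v + μ • v = 0 := hv'
      have h5 : (2 * μ) • v = 0 := by
        calc (2 * μ) • v = (g v + μ • v) - (g v - μ • v) := by rw [two_mul, add_smul]; abel
          _ = 0 := by rw [h3, h4, sub_zero]
      rcases smul_eq_zero.1 h5 with h6 | h6
      · rcases mul_eq_zero.1 h6 with h7 | h7
        · exact absurd h7 h2
        · exact absurd h7 hμ
      · exact h6
    · rw [codisjoint_iff, eq_top_iff]
      intro v _
      have h3 : v = (2 * μ)⁻¹ • (g v + μ • v) + (-(2 * μ)⁻¹) • (g v - μ • v) := by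
        rw [neg_smul, ← sub_eq_add_neg, ← smul_sub]
        have : (g v + μ • v) - (g v - μ • v) = (2 * μ) • v := by rw [two_mul, add_smul]; abel
        rw [this, smul_smul, inv_mul_cancel₀ (mul_ne_zero h2 hμ), one_smul]
      rw [h3]
      apply Submodule.add_mem_sup
      · apply Submodule.smul_mem
        show g (g v + μ • v) - μ • (g v + μ • v) = 0
        rw [map_add, map_smul, hg, smul_add, smul_smul]
        abel
      · apply Submodule.smul_mem
        show g (g v - μ • v) + μ • (g v - μ • v) = 0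
        rw [map_sub, map_smul, hg, smul_sub, smul_smul]
        abel
  · intro v hv
    exact sub_eq_zero.1 hv
  · intro v hv
    have h3 : g v + μ • v = 0 := hv
    rw [neg_smul]
    exact eq_neg_of_add_eq_zero_left h3

/-- **`A` contains a fundamental involution** -/
theorem exists_fund (phi : PhiAll) (h : IF A Γ) (hna : ∃ a b : T, a * b ≠ b * a) {π : slV F V →* T} (hπ : Lft π)
    (h6 : 5 ≤ finrank F V) (h2 : (2 : F) ≠ 0) (hev : ∃ t ∈ A, orderOf t = 2) :
    ∃ z : slV F V, Fund (z : V ≃ₗ[F] V) ∧ π z ∈ A := by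
  have hq := three_le h2
  obtain ⟨t, htA, ht2⟩ := hev
  obtain ⟨g, rfl⟩ := hπ.surj t
  have hgg : π (g * g) = 1 := by rw [map_mul, ← pow_two, ← ht2, pow_orderOf_eq_one]
  have hg1 : π g ≠ 1 := by
    intro h1
    rw [h1, orderOf_one] at ht2
    omega
  obtain ⟨c, hc⟩ := (hπ.ker _).1 hgg
  have hc' : ∀ v, (g : V ≃ₗ[F] V) ((g : V ≃ₗ[F] V) v) = c • v := hc
  have hV : ∃ v : V, v ≠ 0 := by
    have : Nontrivial V := Module.nontrivial_of_finrank_pos (R := F) (by omega)
    exact exists_ne 0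
  have hc0 : c ≠ 0 := by
    rintro rfl
    obtain ⟨v, hv⟩ := hV
    apply hv
    have h3 := hc' v
    rw [zero_smul, LinearEquiv.map_eq_zero_iff, LinearEquiv.map_eq_zero_iff] at h3
    exact h3
  by_cases hsq : ∃ μ : F, c = μ * μ
  · obtain ⟨μ, rfl⟩ := hsq
    have hμ : μ ≠ 0 := by
      rintro rfl
      exact hc0 (mul_zero 0)
    obtain ⟨D, U, hDU, hD, hU⟩ := split_spaces h2 hμ hc'
    refine fund_of_split h hna hπ hq (by omega) h2 hDU (phi.two F V D U h2) hμ hD hU ?_ ?_ htA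
    · rintro rfl
      apply hg1
      rw [hπ.ker]
      refine ⟨-μ, fun v => hU v ?_⟩
      rw [eq_top_of_isCompl_bot hDU.symm]
      trivial
    · rintro rfl
      apply hg1
      rw [hπ.ker]
      refine ⟨μ, fun v => hD v ?_⟩
      rw [eq_top_of_isCompl_bot hDU]
      trivial
  · -- quadratic extension
    set p : F[X] := X ^ 2 - C c with hp
    have hirr : Irreducible p := by
      have hdeg : p.natDegree = 2 := by rw [hp]; exact natDegree_X_pow_sub_C
      rw [Polynomial.irreducible_iff_roots_eq_zero_of_degree_le_three (by omega) (by omega)]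
      rw [Multiset.eq_zero_iff_forall_notMem]
      intro x hx
      have h3 := (Polynomial.mem_roots'.1 hx).2
      rw [Polynomial.IsRoot, hp, eval_sub, eval_pow, eval_X, eval_C] at h3
      exact hsq ⟨x, by linear_combination -h3⟩
    have : Fact (Irreducible p) := ⟨hirr⟩
    have hp0 : p ≠ 0 := hirr.ne_zero
    have hpd : p.natDegree = 2 := by rw [hp]; exact natDegree_X_pow_sub_C
    set L : Module.End F V := ((g : V ≃ₗ[F] V) : V →ₗ[F] V) with hL
    have hLL : aeval L p = 0 := by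
      rw [hp, map_sub, map_pow, aeval_X, aeval_C]
      ext v
      show L ((L ^ 1) v) - _ = 0
      rw [pow_one]
      have h3 : (algebraMap F (Module.End F V) c) v = c • v := Module.algebraMap_end_apply ..
      rw [h3, sub_eq_zero]
      exact hc' v
    let φ : AdjoinRoot p →+* Module.End F V :=
      Ideal.Quotient.lift (Ideal.span {p}) (aeval L : F[X] →ₐ[F] Module.End F V).toRingHom (by
        intro a ha
        obtain ⟨c, rfl⟩ := Ideal.mem_span_singleton.1 ha
        show aeval L (p * c) = 0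
        rw [map_mul, hLL, zero_mul])
    have hφ : ∀ P : F[X], φ (AdjoinRoot.mk p P) = aeval L P := fun P => rfl
    let _ : Module (AdjoinRoot p) V := Module.compHom V φ
    have hsm : ∀ (k : AdjoinRoot p) (v : V), k • v = φ k v := fun _ _ => rfl
    have : IsScalarTower F (AdjoinRoot p) V := ⟨fun c k v => by
      obtain ⟨P, rfl⟩ := AdjoinRoot.mk_surjective k
      have h1 : c • AdjoinRoot.mk p P = AdjoinRoot.mk p (c • P) := rfl
      rw [h1, hsm, hsm, hφ, hφ, map_smul, LinearMap.smul_apply]⟩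
    have hfE : finrank F (AdjoinRoot p) = 2 := by
      rw [(AdjoinRoot.powerBasis hp0).finrank, AdjoinRoot.powerBasis_dim, hpd]
    have hfd : FiniteDimensional F (AdjoinRoot p) := (AdjoinRoot.powerBasis hp0).finite
    have hfinE : Finite (AdjoinRoot p) := Module.finite_of_finite F
    have hfdV : FiniteDimensional (AdjoinRoot p) V := Module.Finite.of_restrictScalars_finite F _ _
    have h2K : (2 : AdjoinRoot p) ≠ 0 := by
      intro h3
      apply h2
      apply (algebraMap F (AdjoinRoot p)).injective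
      rw [map_zero, ← h3]
      exact map_ofNat (algebraMap F (AdjoinRoot p)) 2
    have hroot : AdjoinRoot.root p * AdjoinRoot.root p = algebraMap F (AdjoinRoot p) c := by
      have h3 : AdjoinRoot.mk p (X ^ 2 - C c) = 0 := AdjoinRoot.mk_self
      rw [map_sub, map_pow, AdjoinRoot.mk_X, AdjoinRoot.mk_C, sub_eq_zero, pow_two] at h3
      exact h3
    obtain ⟨z, W, U, hzA, hWU, hW4, hzW, hzU⟩ := split_of_ext (K := AdjoinRoot p) h hna hπ hq h6 hfE
      (phi.one (AdjoinRoot p) V h2K) (t := g) (k := AdjoinRoot.root p) (fun v => by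
        rw [hsm]
        have h3 : φ (AdjoinRoot.root p) = L := by
          rw [← AdjoinRoot.mk_X, hφ, aeval_X]
        rw [h3]
        rfl) (fun x hx => by
        apply hsq
        refine ⟨x, ?_⟩
        apply (algebraMap F (AdjoinRoot p)).injective
        rw [map_mul, hx, hroot]) ⟨c, hroot.symm⟩ htA
    have hU0 : U ≠ ⊥ := by
      rintro rfl
      have h3 := Submodule.finrank_add_eq_of_isCompl hWU
      rw [finrank_bot, hW4] at h3
      omega
    refine fund_of_split h hna hπ hq (by omega) h2 hWU.symm (phi.two F V U W h2) (μ := 1) one_ne_zero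
      (fun v hv => by rw [one_smul]; exact hzU v hv) (fun v hv => by rw [neg_smul, one_smul]; exact hzW v hv) hU0 ?_ hzA
    rintro rfl
    rw [finrank_bot] at hW4
    omega

end Cfsg.Agent.H778.FX
end

-- part: H778/FX/Row
section
/-!
# S5719, the row `PSL_m(q)`, `q` odd, `m ≥ 5` (helper778; PHI: helper353)

`exists_fund_psl` : an involution of `A` gives a fundamental involution in the preimage of `A`.
-/

set_option autoImplicit false

namespace Cfsg.Agent.H778.FX

open Subgroup Module Cfsg.Agent.H847.Bs Cfsg.Agent.H209.Fxy Cfsg.Agent.H440.Bs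

theorem tri_eq (n : ℕ) : tri n = n * (n - 1) / 2 := by
  have h1 := tri_two n
  rcases n with - | n
  · rfl
  · rw [Nat.add_sub_cancel]
    have h2 : (n + 1) * n = 2 * tri (n + 1) := by linarith only [h1]
    rw [h2, Nat.mul_div_cancel_left _ (by norm_num)]

section conv

variable {F V : Type} [Field F] [AddCommGroup V] [Module F V]

theorem fund_to {z : V ≃ₗ[F] V} (h2 : (2 : F) ≠ 0) (hz : Cfsg.Agent.H353.Phi.fund z) : Fund z := by
  rw [Cfsg.Agent.H353.Phi.fund_iff h2] at hz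
  obtain ⟨hzz, h3⟩ := hz
  have hg : ∀ v, z (z v) = ((1 : F) * 1) • v := by
    intro v
    rw [one_mul, one_smul]
    exact DFunLike.congr_fun hzz v
  obtain ⟨D, U, hc, hD, hU⟩ := split_spaces (g := z) (μ := 1) h2 one_ne_zero hg
  have hU' : U = Cfsg.Agent.H353.Phi.negS z := by
    apply le_antisymm
    · intro v hv
      rw [Cfsg.Agent.H353.Phi.mem_negS, hU v hv, neg_smul, one_smul]
    · intro v hv
      rw [Cfsg.Agent.H353.Phi.mem_negS] at hv
      obtain ⟨d, u, rfl⟩ := exists_add' hc v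
      rw [map_add, hD d d.2, hU u u.2, one_smul, neg_smul, one_smul, neg_add, add_left_inj] at hv
      have h4 : (2 : F) • (d : V) = 0 := by
        rw [two_smul]
        nth_rewrite 1 [hv]
        exact neg_add_cancel _
      have h5 : (d : V) = 0 := (smul_eq_zero.1 h4).resolve_left h2
      rw [h5, zero_add]
      exact u.2
  refine ⟨U, D, hc.symm, by rw [hU', h3], fun w hw => ?_, fun u hu => ?_⟩
  · rw [hU w hw, neg_smul, one_smul]
  · rw [hD u hu, one_smul]

theorem fund_of {z : V ≃ₗ[F] V} (h2 : (2 : F) ≠ 0) (hz : Fund z) : Cfsg.Agent.H353.Phi.fund z := by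
  obtain ⟨W, U, hc, h3, hW, hU⟩ := hz
  rw [Cfsg.Agent.H353.Phi.fund_iff h2]
  refine ⟨?_, ?_⟩
  · ext v
    obtain ⟨d, u, rfl⟩ := exists_add' hc v
    change z (z (d + u)) = d + u
    rw [map_add, hW d d.2, hU u u.2, map_add, map_neg, hW d d.2, hU u u.2, neg_neg]
  · have h4 : Cfsg.Agent.H353.Phi.negS z = W := by
      apply le_antisymm
      · intro v hv
        rw [Cfsg.Agent.H353.Phi.mem_negS] at hv
        obtain ⟨d, u, rfl⟩ := exists_add' hc v
        rw [map_add, hW d d.2, hU u u.2, neg_add, add_right_inj] at hv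
        have h4 : (2 : F) • (u : V) = 0 := by
          rw [two_smul]
          nth_rewrite 1 [hv]
          exact neg_add_cancel _
        have h5 : (u : V) = 0 := (smul_eq_zero.1 h4).resolve_left h2
        rw [h5, add_zero]
        exact d.2
      · intro v hv
        exact hW v hv
    rw [h4, h3]

end conv

/-- PHI -/
theorem phiAll (hFT : ∀ (D : Type) [Group D] [Finite D], Odd (Nat.card D) → Group.IsSolvable D) : PhiAll where
  one F V _ _ _ _ _ h2 X hX := by
    rw [tri_eq]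
    exact Cfsg.Agent.H353.Phi.phi_sl_abs h2 hFT fun z hz => hX z (fund_to h2 hz)
  two F V _ _ _ _ _ D U h2 X hX hX' := by
    rw [tri_eq, tri_eq]
    exact Cfsg.Agent.H353.Phi.phi_sl_prod h2 hFT (fun z hz => hX z (fund_to h2 hz)) (fun z hz => hX' z (fund_to h2 hz))

/-- `SL(Fⁿ) → PSL_n(F)` -/
theorem exists_lft {F : Type*} [Field F] {n : ℕ} :
    ∃ π : slV F (Fin n → F) →* Matrix.ProjectiveSpecialLinearGroup (Fin n) F, Lft π ∧
      ∀ A : Matrix.SpecialLinearGroup (Fin n) F, π (Cfsg.Agent.H353.Phi.slEquiv F (Fin n) A) =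
        QuotientGroup.mk' (center (Matrix.SpecialLinearGroup (Fin n) F)) A := by
  let Φ := Cfsg.Agent.H353.Phi.slEquiv F (Fin n)
  refine ⟨(QuotientGroup.mk' (center (Matrix.SpecialLinearGroup (Fin n) F))).comp Φ.symm.toMonoidHom, ⟨?_, ?_⟩, ?_⟩
  · intro g
    obtain ⟨A, hA⟩ := QuotientGroup.mk'_surjective _ g
    refine ⟨Φ A, ?_⟩
    change QuotientGroup.mk' _ (Φ.symm (Φ A)) = g
    rw [MulEquiv.symm_apply_apply, hA]
  · intro g
    obtain ⟨A, rfl⟩ := Φ.surjective g
    have h1 : ((QuotientGroup.mk' (center (Matrix.SpecialLinearGroup (Fin n) F))).comp Φ.symm.toMonoidHom)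
        (Φ A) = QuotientGroup.mk' _ A := by
      change QuotientGroup.mk' _ (Φ.symm (Φ A)) = _
      rw [MulEquiv.symm_apply_apply]
    rw [h1, ← MonoidHom.mem_ker, QuotientGroup.ker_mk', Matrix.SpecialLinearGroup.mem_center_iff]
    constructor
    · rintro ⟨c, -, hc⟩
      refine ⟨c, fun v => ?_⟩
      change (A : Matrix (Fin n) (Fin n) F).mulVec v = c • v
      rw [← hc, Matrix.scalar_apply, ← Matrix.smul_one_eq_diagonal, Matrix.smul_mulVec, Matrix.one_mulVec]
    · rintro ⟨c, hc⟩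
      have hc' : ∀ v, (A : Matrix (Fin n) (Fin n) F).mulVec v = c • v := hc
      have h2 : Matrix.scalar (Fin n) c = (A : Matrix (Fin n) (Fin n) F) := by
        refine Matrix.ext_of_mulVec_single fun i => ?_
        rw [hc', Matrix.scalar_apply, ← Matrix.smul_one_eq_diagonal, Matrix.smul_mulVec, Matrix.one_mulVec]
      refine ⟨c, ?_, h2⟩
      have h3 := A.2
      rw [← h2, Matrix.scalar_apply, Matrix.det_diagonal, Finset.prod_const, Finset.card_univ] at h3
      exact h3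
  · intro A
    change QuotientGroup.mk' _ (Φ.symm (Φ A)) = _
    rw [MulEquiv.symm_apply_apply]

/-- a group with an `IF` is not commutative -/
theorem nonab {T : Type*} [Group T] [IsSimpleGroup T] {A : Subgroup T} {Γ : Subgroup (MulAut T)} (h : IF A Γ) :
    ∃ a b : T, a * b ≠ b * a := by
  by_contra hcon
  push Not at hcon
  have hN : A.Normal := ⟨fun a ha g => by rw [hcon g a, mul_inv_cancel_right]; exact ha⟩
  rcases hN.eq_bot_or_eq_top with h1 | h1
  · exact h.ne_bot h1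
  · exact h.ne_top h1

/-- **(USE) for `PSL_m(q)`, `q` odd, `m ≥ 5`** -/
theorem exists_fund_psl (hFT : ∀ (D : Type) [Group D] [Finite D], Odd (Nat.card D) → Group.IsSolvable D)
    {F : Type} [Field F] [Finite F] {m : ℕ} (hm : 5 ≤ m) (h2 : (2 : F) ≠ 0)
    {A : Subgroup (Matrix.ProjectiveSpecialLinearGroup (Fin m) F)}
    {Γ : Subgroup (MulAut (Matrix.ProjectiveSpecialLinearGroup (Fin m) F))} (h : IF A Γ)
    (hev : ∃ t ∈ A, orderOf t = 2) :
    ∃ z : Matrix.SpecialLinearGroup (Fin m) F, Cfsg.Agent.H353.Phi.mfund z ∧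
      QuotientGroup.mk' (center (Matrix.SpecialLinearGroup (Fin m) F)) z ∈ A := by
  have hs : IsSimpleGroup (Matrix.ProjectiveSpecialLinearGroup (Fin m) F) := Cfsg.Agent.S0249.result m (by omega)
  have hfin : Finite (Matrix.ProjectiveSpecialLinearGroup (Fin m) F) := Quotient.finite _
  obtain ⟨π, hπ, hπA⟩ := exists_lft (F := F) (n := m)
  obtain ⟨z, hz, hzA⟩ := exists_fund (phiAll hFT) h (nonab h) hπ
    (by rw [Module.finrank_fin_fun]; exact hm) h2 hev
  obtain ⟨B, rfl⟩ := (Cfsg.Agent.H353.Phi.slEquiv F (Fin m)).surjective z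
  refine ⟨B, ?_, ?_⟩
  · rw [Cfsg.Agent.H353.Phi.mfund_iff]
    exact fund_of h2 hz
  · rwa [hπA] at hzA

end Cfsg.Agent.H778.FX
end

-- part: H974/IF/SLCell
section
/-!
# S5719: the cells `PSL_n(q)`, `q` odd, `n ≥ 5` (helper974, helper778, helper353)

`killE_psl_odd` : both fields `CellsPSL.oddmid`, `CellsPSL.oddlarge`.
-/

set_option autoImplicit false

namespace Cfsg.Agent.H974.IF

open Matrix Subgroup Cfsg.Agent.H209.Fxy

theorem killE_psl_odd (F : Type) [Field F] [Fintype F] (n : ℕ) (ho : Odd (Fintype.card F)) (hn : 5 ≤ n) :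
    KillE (ProjectiveSpecialLinearGroup (Fin n) F) := by
  intro A Γ h hev
  have hFT : ∀ (D : Type) [Group D] [Finite D], Odd (Nat.card D) → Group.IsSolvable D :=
    fun D _ _ hD => Cfsg.Agent.S0205.result hD
  have h2 : (2 : F) ≠ 0 := by
    intro h0
    have h1 : ringChar F = 2 := by
      have h3 : ringChar F ∣ 2 := by
        rw [← CharP.cast_eq_zero_iff F (ringChar F) 2]
        exact_mod_cast h0
      rcases (Nat.dvd_prime Nat.prime_two).1 h3 with h4 | h4
      · exact absurd h4 (CharP.ringChar_ne_one)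
      · exact h4
    have h5 := FiniteField.even_card_iff_char_two.1 h1
    have h6 := Nat.odd_iff.1 ho
    omega
  obtain ⟨z, hz, hzA⟩ := Cfsg.Agent.H778.FX.exists_fund_psl hFT hn h2 h hev
  exact final_sl hFT hn h2 h hz hzA

end Cfsg.Agent.H974.IF
end

private theorem dce_3372ae40183b : _root_.True := by
  try have : _root_.True := by simp only [_root_.Cfsg.Agent.H778.FX.pp.eq_2]
  try have : _root_.True := by simp only [_root_.Cfsg.Agent.H778.FX.tri.eq_1]
  try have : _root_.True := by simp only [_root_.Cfsg.Agent.H974.IF.sg.eq_1]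
  try have : _root_.True := by simp only [_root_.Cfsg.Agent.H778.FX.pp.eq_def]
  try have : _root_.True := by simp only [_root_.Cfsg.Agent.H778.FX.tri.eq_2]
  try have : _root_.True := by simp only [_root_.Cfsg.Agent.H778.FX.pp.eq_1]
  try have : _root_.True := by simp only [_root_.Cfsg.Agent.H974.IF.sg.congr_simp]
  try have : _root_.True := by simp only [_root_.Cfsg.Agent.H778.FX.gl.eq_1]
  try have : _root_.True := by simp only [_root_.Cfsg.Agent.H778.FX.tri.eq_def]
  try have : _root_.True := by simp only [_root_.Cfsg.Agent.H974.IF.sI.congr_simp]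
  try have : _root_.True := by simp only [_root_.Cfsg.Agent.H778.FX.resSL.congr_simp]
  exact _root_.True.intro
end

-- part: H399/IF/Odd_mg
section
prune_inst 0x353025650440120800040592d1203ca7af0005b0002b0801d9a40e40068677620980a760ec801e020a28220500310028114408f06000000000000400411d00a080a810063100a00c26009f801080000000000000000000000000000000041004000000000
set_option linter.all false
open scoped Cfsg.Agent.FastGrp

-- part: H399/IF/Kern
section
/-!
# S5719: kernel tools for the subgroups of `M₂₄` (helper399)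

* `count_of` : a list of involutions which are products of two elements of prime order `p > f(t)` of `C(t)`;
* `elab_of` : an elementary abelian subgroup of `C(t)`.
-/

set_option autoImplicit false
set_option linter.unusedSectionVars false

namespace Cfsg.Agent.H399.IF

open Cfsg Subgroup Cfsg.Agent.H209.Fxy
open Cfsg.Agent.SporadicA.GolayBase Cfsg.Agent.SporadicA.GolayPerm
open Cfsg.Agent.SporadicStructure.M24El Cfsg.Agent.H729.Trans Cfsg.Agent.H729.MData Cfsg.Agent.H729.Count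
open Cfsg.Agent.H729.M24Deg
open Cfsg.Agent.H968.TwoM22 (el_inj)

/-- a group embedded in `M₂₄`; `me` : a test of membership of a packed permutation -/
structure Emb {G : Type*} [Group G] (φ : G →* M24) (me : ℕ → Bool) : Prop where
  inj : Function.Injective φ
  ex : ∀ c : ℕ, ok c = true → me c = true → ∃ x : G, φ x = el c

/-- the test of a pair of elements of order `p` whose product is an involution -/
def okPair (me : ℕ → Bool) (p c0 : ℕ) (xy : ℕ × ℕ) : Bool :=
  (ok xy.1 && (me xy.1 && (Nat.beq (pcomp xy.1 c0) (pcomp c0 xy.1) && Nat.beq (ppow xy.1 p) idP))) &&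
  ((ok xy.2 && (me xy.2 && (Nat.beq (pcomp xy.2 c0) (pcomp c0 xy.2) && Nat.beq (ppow xy.2 p) idP))) &&
  (Nat.beq (pcomp (pcomp xy.1 xy.2) (pcomp xy.1 xy.2)) idP &&
    (!(Nat.beq (pcomp xy.1 xy.2) idP) && (Nat.beq (pcomp (pcomp xy.1 xy.2) idP) (pcomp xy.1 xy.2) &&
      (List.range 24).any fun i => Nat.beq (papp (pcomp xy.1 xy.2) i) i))))

theorem canP : Nat.beq (pcomp idP idP) idP = true := by decide +kernel

section

variable {G : Type*} [Group G] {φ : G →* M24} {me : ℕ → Bool}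

theorem im_el {x : G} {P : ℕ} (hP : ok P = true) (hx : φ x = el P) {i : ℕ} (hi : i < 24) : im (φ x) i = papp P i := by
  have h1 := idx_el_smul hP (pt i)
  rw [idx_pt hi] at h1
  rw [hx, ← h1]
  rfl

theorem mul_comm_of (E : Emb φ me) {x y : G} {P Q : ℕ} (hP : ok P = true) (hQ : ok Q = true) (hx : φ x = el P)
    (hy : φ y = el Q) (h : Nat.beq (pcomp P Q) (pcomp Q P) = true) : x * y = y * x := by
  apply E.inj
  rw [map_mul, map_mul, hx, hy, ← el_pcomp hP hQ, ← el_pcomp hQ hP, Nat.eq_of_beq_eq_true h]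

theorem pow_one_of (E : Emb φ me) {x : G} {P p : ℕ} (hP : ok P = true) (hx : φ x = el P)
    (h : Nat.beq (ppow P p) idP = true) : x ^ p = 1 := by
  apply E.inj
  rw [map_pow, map_one, hx, ← el_ppow hP, Nat.eq_of_beq_eq_true h, el_idP]

theorem ne_one_of {x : G} {P : ℕ} (hP : ok P = true) (hx : φ x = el P) (hcan : Nat.beq (pcomp P idP) P = true)
    (hne : Nat.beq P idP = false) : x ≠ 1 := by
  rintro rfl
  rw [map_one, ← el_idP] at hx
  have h1 := el_inj ok_idP hP canP hcan hx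
  rw [← h1, Nat.beq_refl] at hne
  exact Bool.noConfusion hne

/-- **Many conjugates in `A`.** -/
theorem count_of [Finite G] [IsSimpleGroup G] (E : Emb φ me) {t0 : G} {c0 : ℕ} (ht0 : φ t0 = el c0) (hc0 : ok c0 = true)
    {p : ℕ} (hp : p.Prime) {L : List (ℕ × ℕ)} (hL : L.all (okPair me p c0) = true)
    (hnd : (L.map fun xy => pcomp xy.1 xy.2).Nodup)
    (hcl : ∀ z : G, z * z = 1 → z ≠ 1 → (∃ i < 24, im (φ z) i = i) → IsConj t0 z)
    {A : Subgroup G} {Γ : Subgroup (MulAut G)} (h : IF A Γ) (hna : ∃ a b : G, a * b ≠ b * a) {t : G} (ht : t ∈ A)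
    (h2 : orderOf t = 2) (hc : IsConj t0 t) (hf : ff A t < p) : L.length ≤ kk A t := by
  classical
  obtain ⟨g, hg⟩ := isConj_iff.1 hc
  set M := (L.map fun xy => pcomp xy.1 xy.2).toFinset with hM
  have key : ∀ z : M, ∃ w : G, φ (g⁻¹ * w * g) = el z.1 ∧ (ok z.1 = true ∧ Nat.beq (pcomp z.1 idP) z.1 = true) ∧
      w ∈ A ∧ IsConj t w := by
    rintro ⟨z, hz⟩
    rw [hM, List.mem_toFinset, List.mem_map] at hz
    obtain ⟨⟨P, Q⟩, hPQ, rfl⟩ := hz
    have h1 := List.all_eq_true.1 hL _ hPQ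
    simp only [okPair, Bool.and_eq_true] at h1
    obtain ⟨⟨p1, p2, p3, p4⟩, ⟨q1, q2, q3, q4⟩, r1, r2, r3, r4⟩ := h1
    obtain ⟨X, hX⟩ := E.ex P p1 p2
    obtain ⟨Y, hY⟩ := E.ex Q q1 q2
    have hXt := mul_comm_of E p1 hc0 hX ht0 p3
    have hYt := mul_comm_of E q1 hc0 hY ht0 q3
    have hXp := pow_one_of E p1 hX p4
    have hYp := pow_one_of E q1 hY q4
    have hZ : φ (X * Y) = el (pcomp P Q) := by rw [map_mul, hX, hY, ← el_pcomp p1 q1]
    have hmem : ∀ {x : G}, x * t0 = t0 * x → x ^ p = 1 → g * x * g⁻¹ ∈ A := by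
      intro x hx hxp
      refine mem_of_prime h hna ht h2 hp hf ?_ ?_
      · rw [← hg]
        calc g * x * g⁻¹ * (g * t0 * g⁻¹) = g * (x * t0) * g⁻¹ := by group
          _ = g * (t0 * x) * g⁻¹ := by rw [hx]
          _ = _ := by group
      · rw [conj_pow, hxp]
        group
    have hZA : g * (X * Y) * g⁻¹ ∈ A := by
      have h3 := A.mul_mem (hmem hXt hXp) (hmem hYt hYp)
      have h4 : g * X * g⁻¹ * (g * Y * g⁻¹) = g * (X * Y) * g⁻¹ := by group
      rwa [h4] at h3
    have okz := ok_pcomp p1 q1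
    have hZZ : X * Y * (X * Y) = 1 := by
      apply E.inj
      rw [map_mul, map_one, hZ, ← el_pcomp okz okz, Nat.eq_of_beq_eq_true r1, el_idP]
    rw [Bool.not_eq_true'] at r2
    have hZ1 : X * Y ≠ 1 := ne_one_of okz hZ r3 r2
    obtain ⟨i, hi, hfix⟩ := List.any_eq_true.1 r4
    have hZc := hcl (X * Y) hZZ hZ1 ⟨i, List.mem_range.1 hi, by
      rw [im_el okz hZ (List.mem_range.1 hi)]
      exact Nat.eq_of_beq_eq_true hfix⟩
    refine ⟨g * (X * Y) * g⁻¹, ?_, ⟨okz, r3⟩, hZA, hc.symm.trans (hZc.trans (isConj_iff.2 ⟨g, rfl⟩))⟩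
    rw [show g⁻¹ * (g * (X * Y) * g⁻¹) * g = X * Y by group, hZ]
  choose w hw1 hw2 hw3 hw4 using key
  have hinj : Function.Injective w := by
    intro a b hab
    have h1 : el a.1 = el b.1 := by rw [← hw1, ← hw1, hab]
    exact Subtype.ext (el_inj (hw2 a).1 (hw2 b).1 (hw2 a).2 (hw2 b).2 h1)
  have h3 := le_kk A (t := t) (Finset.univ.image w) (fun s hs => by
    obtain ⟨a, -, rfl⟩ := Finset.mem_image.1 hs
    exact ⟨hw3 a, hw4 a⟩)
  rw [Finset.card_image_of_injective _ hinj, Finset.card_univ, Fintype.card_coe, hM,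
    List.toFinset_card_of_nodup hnd, List.length_map] at h3
  exact h3

/-- the test of an elementary abelian group centralizing `c0` -/
def okElab (me : ℕ → Bool) (c0 : ℕ) (L : List ℕ) : Bool :=
  (L.all fun P => ok P && (me P && (Nat.beq (pcomp P P) idP && (Nat.beq (pcomp P idP) P &&
    Nat.beq (pcomp P c0) (pcomp c0 P))))) &&
  ((L.any (Nat.beq idP)) && L.all fun a => L.all fun b => L.any (Nat.beq (pcomp a b)))

/-- the elementary abelian group -/
theorem exists_elab (E : Emb φ me) {t0 : G} {c0 : ℕ} (ht0 : φ t0 = el c0) (hc0 : ok c0 = true) {L : List ℕ}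
    (hL : okElab me c0 L = true) (hnd : L.Nodup) :
    ∃ B : Subgroup G, Nat.card B = L.length ∧ B ≤ centralizer ({t0} : Set G) ∧
      ∀ x ∈ B, x * x = 1 ∧ ∃ P ∈ L, φ x = el P := by
  classical
  simp only [okElab, Bool.and_eq_true] at hL
  obtain ⟨h1, h2, h3⟩ := hL
  have hP : ∀ P ∈ L, ok P = true ∧ (me P = true ∧ (Nat.beq (pcomp P P) idP = true ∧ (Nat.beq (pcomp P idP) P = true ∧
      Nat.beq (pcomp P c0) (pcomp c0 P) = true))) := fun P hP => by
    have h := List.all_eq_true.1 h1 P hP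
    simpa only [Bool.and_eq_true] using h
  have hid : idP ∈ L := by
    obtain ⟨P, hP, he⟩ := List.any_eq_true.1 h2
    rw [Nat.eq_of_beq_eq_true he]
    exact hP
  have hsq : ∀ {x : G} {P : ℕ}, P ∈ L → φ x = el P → x * x = 1 := by
    intro x P hPL hx
    apply E.inj
    rw [map_mul, map_one, hx, ← el_pcomp (hP P hPL).1 (hP P hPL).1, Nat.eq_of_beq_eq_true (hP P hPL).2.2.1, el_idP]
  let B : Subgroup G :=
    { carrier := {x | ∃ P ∈ L, φ x = el P}
      one_mem' := ⟨idP, hid, by rw [map_one, el_idP]⟩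
      mul_mem' := by
        rintro x y ⟨P, hPL, hx⟩ ⟨Q, hQL, hy⟩
        obtain ⟨R, hR, he⟩ := List.any_eq_true.1 (List.all_eq_true.1 (List.all_eq_true.1 h3 P hPL) Q hQL)
        exact ⟨R, hR, by rw [map_mul, hx, hy, ← el_pcomp (hP P hPL).1 (hP Q hQL).1, Nat.eq_of_beq_eq_true he]⟩
      inv_mem' := by
        rintro x ⟨P, hPL, hx⟩
        have h4 : x⁻¹ = x := inv_eq_of_mul_eq_one_left (hsq hPL hx)
        exact ⟨P, hPL, by rw [h4, hx]⟩ }
  have hB : ∀ x, x ∈ B ↔ ∃ P ∈ L, φ x = el P := fun x => Iff.rfl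
  refine ⟨B, ?_, ?_, fun x hx => ?_⟩
  · have hx : ∀ P : {P : ℕ // P ∈ L.toFinset}, ∃ x : G, φ x = el P.1 := fun P =>
      E.ex _ (hP P.1 (List.mem_toFinset.1 P.2)).1 (hP P.1 (List.mem_toFinset.1 P.2)).2.1
    choose x hx using hx
    have hbij : Function.Bijective (fun P : {P : ℕ // P ∈ L.toFinset} =>
        (⟨x P, (hB _).2 ⟨P.1, List.mem_toFinset.1 P.2, hx P⟩⟩ : B)) := by
      constructor
      · intro P Q hPQ
        have h4 : x P = x Q := congrArg Subtype.val hPQ
        have h5 : el P.1 = el Q.1 := by rw [← hx, ← hx, h4]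
        have hP' := hP P.1 (List.mem_toFinset.1 P.2)
        have hQ' := hP Q.1 (List.mem_toFinset.1 Q.2)
        exact Subtype.ext (el_inj hP'.1 hQ'.1 hP'.2.2.2.1 hQ'.2.2.2.1 h5)
      · rintro ⟨y, hy⟩
        obtain ⟨P, hPL, hy'⟩ := (hB y).1 hy
        refine ⟨⟨P, List.mem_toFinset.2 hPL⟩, Subtype.ext ?_⟩
        apply E.inj
        show φ (x _) = φ y
        rw [hx, hy']
    rw [← Nat.card_eq_of_bijective _ hbij, Nat.card_eq_fintype_card, Fintype.card_coe,
      List.toFinset_card_of_nodup hnd]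
  · intro x hx
    obtain ⟨P, hPL, hx'⟩ := (hB x).1 hx
    rw [mem_centralizer_singleton_iff]
    exact mul_comm_of E (hP P hPL).1 hc0 hx' ht0 (hP P hPL).2.2.2.2
  · obtain ⟨P, hPL, hx'⟩ := (hB x).1 hx
    exact ⟨hsq hPL hx', P, hPL, hx'⟩

/-- **An elementary abelian group of `C(t)`.** -/
theorem elab_of [Finite G] [IsSimpleGroup G] (E : Emb φ me) {t0 : G} {c0 : ℕ} (ht0 : φ t0 = el c0) (hc0 : ok c0 = true)
    {L : List ℕ} (hL : okElab me c0 L = true) (hnd : L.Nodup)
    {A : Subgroup G} {Γ : Subgroup (MulAut G)} (h : IF A Γ) (hna : ∃ a b : G, a * b ≠ b * a) {t g : G} (ht : t ∈ A)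
    (h2 : orderOf t = 2) (hg : g * t0 * g⁻¹ = t) :
    ∃ (r : ℕ) (S : Finset G), r ≤ ff A t ∧ r * (S.card + 1) = L.length ∧
      ∀ s ∈ S, s ∈ A ∧ s * s = 1 ∧ s ≠ 1 ∧ ∃ P ∈ L, φ (g⁻¹ * s * g) = el P := by
  classical
  obtain ⟨B, hB1, hB2, hB3⟩ := exists_elab E ht0 hc0 hL hnd
  set B' : Subgroup G := B.map (MulAut.conj g).toMonoidHom with hB'
  have hcard : Nat.card B' = L.length := by
    rw [← hB1]
    exact (Nat.card_congr (B.equivMapOfInjective (MulAut.conj g).toMonoidHom (MulAut.conj g).injective).toEquiv).symm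
  have hmem : ∀ {x : G}, x ∈ B' → g⁻¹ * x * g ∈ B := by
    rintro _ ⟨y, hy, rfl⟩
    have h1 : g⁻¹ * ((MulAut.conj g).toMonoidHom y) * g = y := by
      show g⁻¹ * (g * y * g⁻¹) * g = y
      group
    rw [h1]
    exact hy
  have hle : B' ≤ centralizer ({t} : Set G) := by
    intro x hx
    have h1 := mem_centralizer_singleton_iff.1 (hB2 (hmem hx))
    rw [mem_centralizer_singleton_iff, ← hg]
    calc x * (g * t0 * g⁻¹) = g * (g⁻¹ * x * g * t0) * g⁻¹ := by group
      _ = g * (t0 * (g⁻¹ * x * g)) * g⁻¹ := by rw [h1]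
      _ = _ := by group
  have hr := relIndex_le h hna ht h2 hle
  have := Fintype.ofFinite G
  let S : Finset G := (Finset.univ.filter fun x : G => x ∈ A ∧ x ∈ B').erase 1
  have hS1 : (1 : G) ∈ Finset.univ.filter fun x : G => x ∈ A ∧ x ∈ B' := by
    rw [Finset.mem_filter]
    exact ⟨Finset.mem_univ _, A.one_mem, B'.one_mem⟩
  have hScard : S.card + 1 = Nat.card (A ⊓ B' : Subgroup G) := by
    rw [Finset.card_erase_add_one hS1, Nat.card_eq_fintype_card, Fintype.card_subtype]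
    congr 1
    ext x
    simp only [Subgroup.mem_inf, _root_.Finset.mem_filter, _root_.Finset.mem_univ, _root_.true_and]
  refine ⟨A.relIndex B', S, hr, ?_, fun s hs => ?_⟩
  · rw [hScard, ← hcard]
    have h3 := (A.subgroupOf B').index_mul_card
    have h4 : Nat.card (A.subgroupOf B') = Nat.card (A ⊓ B' : Subgroup G) := by
      rw [← Subgroup.inf_subgroupOf_right A B']
      exact Nat.card_congr (subgroupOfEquivOfLe inf_le_right).toEquiv
    rw [← h4]
    exact h3
  · rw [Finset.mem_erase, Finset.mem_filter] at hs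
    obtain ⟨hs1, -, hsA, hsB⟩ := hs
    obtain ⟨h3, h4⟩ := hB3 _ (hmem hsB)
    refine ⟨hsA, ?_, hs1, h4⟩
    calc s * s = g * (g⁻¹ * s * g * (g⁻¹ * s * g)) * g⁻¹ := by group
      _ = 1 := by rw [h3]; group

end

end Cfsg.Agent.H399.IF
end

-- part: H701/Tall/SpOut
section
/-!
# S2927, task 5475 (SPOUT): M11, M23, M24, J4, Co2, Th (helper701)

For these groups `K`: all involution centralizers are of characteristic 2 (`allCP_x`), every automorphism is inner
(`out_x`), and no centralizer of a 2-central involution is a 2-group (`rowTwo_x`).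
-/

set_option autoImplicit false

namespace Cfsg.Agent.H701.Tall

open Subgroup Cfsg
open Cfsg.Agent.H239.CharPLocal (CP)
open Cfsg.Agent.H226.Tall

universe u

/-! ### Tools -/

theorem inner_of {K T : Type*} [Group K] [Group T] (h : Nonempty (K ≃* T)) (hT : Nat.card (Out T) = 1)
    (x : MulAut K) : ∃ g : K, x = MulAut.conj g := by
  obtain ⟨e⟩ := h
  have h1 : (Inn K).index = 1 := by
    have := H55.OutGen.card_out_congr e
    rw [hT] at this
    exact this
  rw [Subgroup.index_eq_one] at h1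
  have h2 : x ∈ Inn K := h1 ▸ mem_top x
  obtain ⟨g, hg⟩ := h2
  exact ⟨g, hg.symm⟩

/-- no centralizer of an involution is a 2-group -/
def NoTwo (K : Type*) [Group K] : Prop := ∀ z : K, orderOf z = 2 → ¬ IsPGroup 2 ↥(centralizer ({z} : Set K))

theorem NoTwo.congr {K L : Type*} [Group K] [Group L] (e : K ≃* L) (h : NoTwo L) : NoTwo K := by
  intro z hz hp
  refine h (e z) (by rw [← hz]; exact orderOf_injective e.toMonoidHom e.injective z) ?_
  rintro ⟨x, hx⟩
  rw [mem_centralizer_singleton_iff] at hx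
  have hx' : e.symm x * z = z * e.symm x := by
    apply e.injective
    rw [map_mul, map_mul, e.apply_symm_apply, hx]
  obtain ⟨k, hk⟩ := hp ⟨e.symm x, mem_centralizer_singleton_iff.2 hx'⟩
  refine ⟨k, Subtype.ext ?_⟩
  have h1 : (e.symm x) ^ 2 ^ k = 1 := congrArg Subtype.val hk
  rw [← map_pow] at h1
  exact (map_eq_one_iff e.symm e.symm.injective).1 h1

/-! ### The groups -/

section M11

variable {K : Type*} [Group K]

theorem out_m11 (h : Spor.IsoM11 K) (x : MulAut K) : ∃ g : K, x = MulAut.conj g := inner_of h S2060.result x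

end M11

section M23

variable {K : Type*} [Group K]

theorem out_m23 (h : Spor.IsoM23 K) (x : MulAut K) : ∃ g : K, x = MulAut.conj g := inner_of h S2063.result x

end M23

section M24

variable {K : Type*} [Group K]

theorem out_m24 (h : Spor.IsoM24 K) (x : MulAut K) : ∃ g : K, x = MulAut.conj g := inner_of h S2064.result x

end M24

section J4

open Cfsg.Agent.J4Type

variable {K : Type*} [Group K]

end J4

section Co2

variable {K : Type*} [Group K]

end Co2

section Th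

variable {K : Type*} [Group K]

end Th

end Cfsg.Agent.H701.Tall
end

-- part: H399/IF/Math
section
/-!
# S5719: the rows `M₁₁`, `M₂₃`, `M₂₄`, and the even part of `M₁₂`, `M₂₂` (helper399)
-/

set_option autoImplicit false
set_option linter.unusedSectionVars false
set_option maxRecDepth 100000

namespace Cfsg.Agent.H399.IF

open Cfsg Subgroup Cfsg.Agent.H209.Fxy
open Cfsg.Agent.SporadicA.GolayBase Cfsg.Agent.SporadicA.GolayPerm
open Cfsg.Agent.SporadicStructure.M24El Cfsg.Agent.H729.Trans Cfsg.Agent.H729.MData Cfsg.Agent.H729.Count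
open Cfsg.Agent.H729.M24Deg
open Cfsg.Agent.J4.M24InvolData (P1 P2)

/-! ### data -/

def L24 : List (ℕ × ℕ) := [(631804238821845392539950231629472819, 548157083432836142088068227718496715),
  (963540565808607092481030094147595440, 469300302716809791855686953005589126),
  (395110219574216482999455234528427670, 501991564337327870347083692772609257),
  (526492318992185697138850970532562103, 16208498822217443091735612320003253),
  (543100142937895403103696907527597296, 469098606409518304407716539759056943),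
  (921723212404704119483519544984781451, 487571626733068109381662710095623221),
  (444717525728881095206020387265823307, 457351343996622360779469167678103686),
  (800524294519466749336781300433008277, 665470579794073844001518536739563980),
  (810859917799830827997813147139431569, 99507665462890889576747519413756134),
  (270898680322966067215270070745434240, 515585846900294899130667509458634848),
  (677702063694635888695975985207133335, 15056780077401580954777706783251080),
  (926404574250671286796308505651458634, 902414442555227975820404310298658912),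
  (436946489586856251216124308341540311, 680274124295008182903424295857413585),
  (506864690543474026149923125444315264, 817201502090435344875935532215568608),
  (926022805942510067794878898775361664, 687174915800246339362530820749724224),
  (884400528371546381651393898235893896, 261811109818193208726625991672672362),
  (363032913613287126955653975080840240, 445486665301803025165332720337999919),
  (12333298373751445159548364725009558, 668150352326555583330986689765155462),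
  (693543967511334772693246336785689164, 402913124006646663657704388529625128),
  (548686858628659975065873192928620176, 677004538936407212359133316033091624),
  (650823989204533919526297832784347723, 894867004375395725657181115006566038),
  (527712889486393459306869795972585576, 901638480685107667386536343103379688),
  (673256052780817250114458463524535894, 934875087372498882854687991536945792),
  (687174915800246339362530820749724224, 938936378699875468944005061911153280),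
  (384864626719956265631886368483551404, 433033508441542036299000213681626577),
  (479372534451540062099206142790554861, 924312079277833731162043589362073771),
  (686682773991285385319070571554094678, 112330720024601344771444539557924489),
  (515718992296027041595905292619028648, 382535640606505879632408445118459946),
  (104213164676684250710718664388221160, 647988350145146825302612026283115703),
  (637843025462209832407766088333872265, 501526360080664241230754459925237385),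
  (925180416199767787119757230907935849, 570632289639515417131978846275406400),
  (880466219999300393983965689930123296, 636753141821994779242401265877452832),
  (980457589604475781992772760901397616, 377135328969059670913617891942257901),
  (344864825128285316853524351624129712, 880546220611004531872425047884015187),
  (983073780265001179663189119518089670, 108658261977244726953729214620713419),
  (634316579958001901914280840559469747, 396424772020026713052404878484788461),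
  (444283656212883675891991798526035543, 29270532767623528206574459588552147),
  (958448045664489190474962341376152813, 955878885570929269001407293321953867),
  (926831649965982341777345280625691689, 914254389616253241068441392031773877),
  (894867004375395725657181115006566038, 935391421020226201929297700426123840),
  (277186148084107770935238333033809952, 395530282331647008296440144561899744),
  (499330546607303931876054462818820678, 681129704253312872860968337903409807),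
  (972344446256109436392261177025435688, 930133564096309525677551443973395917),
  (266188104318705204569190962079843511, 345978698815365239238711496166986893),
  (29351424727587635511307819194920176, 527487487829039870360813435900011667),
  (395491861629404492017478390373196006, 631725494705995655982370156707892809),
  (418855215288074736900837768581718470, 626541722298627010824559663807348779)]

def c23t : ℕ := 984533793844585853448292408907836992

def L23 : List (ℕ × ℕ) := [(982044605058468046099083396815034724, 961212043338450629558996664532178348),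
  (960778584107133003210084651748526698, 968419901653592936985818915223848116),
  (955601038637497531638388602297170152, 982084858886114885331312681037248100),
  (982206239280199999891351012391755172, 966619172969056326727017725536999724),
  (955517039498777750731892937388702916, 971816498172670135204304915018556502),
  (969230965772672330641760525352517716, 956239931603238974401267508753647722),
  (966039138562147756979401403490487722, 956245316487667305748470283997910540),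
  (968810309047307504383553557460784644, 971580703666488080901914133686048116),
  (961437614837979438453626168305700340, 966497629157365982957627373466847852),
  (961234477403898774015961546335914228, 961427234711920781219725279238718986),
  (966550726097965294452215268380185654, 966497958584513870170317745008445548),
  (971433989719077643883389218871021060, 956044904168192523731455177130427460),
  (968472959223504903149276896084735016, 960829303731140621534603156281363508),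
  (965970099875673083154165932587334124, 965853677850661587626011376257907956),
  (956083219789549953798194365062237228, 966632399100526616823413082861847990),
  (981643952035923899742046238563371210, 966647341811457789735667619498397162)]

def B22 : List ℕ := [984818244535754528103549039458486304, 984047379121870168806603060567921824, 984047333458777307627848289189221952, 984817752917645425279301981516892352, 984533793844585853448292408907836992, 984412421473907193312266097351112896, 984412476963149185498582240580909088, 984534275636545816050595665229032608, 984412575143944293541892092806347328, 984534155869171923206568525183429824, 984534132179515061401576844139211808, 984412106118240619439132328872491168, 984047037291180602505319756197188640, 984818070671820887514443681551124640, 984818104342369251485136392171194944, 984047496335992792871116961839895744]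

def B24 : List ℕ := [984818244535754528103549039458486304, 839072233265124778766700075840278706, 527856059999788242033067946458321075, 881043257028383132227834193400399913, 965346712459683604282855048361378898, 853351468622823073367187007399367808, 508385671794893924405112030513697929, 895321348544065433640281511237354579]

def c12A : ℕ := 807624915598249115347046449124282633

def B12A : List ℕ := [984818244535754528103549039458486304, 645451732999245387191158199285186946, 901810639927700045894952958619290176, 313451147739568761154597711319859618, 844224223069351983599043595095942340, 807624915598249115347046449124282633, 470741068013378752837885104277038596, 226645360666437230727054897088335977]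

def c12B : ℕ := 892735891774019106164213520671967619

def B12B : List ℕ := [984818244535754528103549039458486304, 901805946905781876259537846647399459, 970522743141644479449838263908443331, 887543800568078526976238466843642048, 892735891774019106164213520671967619, 975715230488385824032026316526167424, 895315753051310065218259353346352704, 978327654540481951645521957733009987]


/-! ### general -/

theorem na_of {G : Type*} [Group G] [Finite G] [IsSimpleGroup G] {N : ℕ} (hN : Nat.card G = N) (hp : ¬ N.Prime) :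
    ∃ a b : G, a * b ≠ b * a := by
  by_contra hcon
  push Not at hcon
  apply hp
  rw [← hN]
  let inst : CommGroup G := { ‹Group G› with mul_comm := hcon }
  exact @IsSimpleGroup.prime_card G inst ‹_›

theorem sq_of {G : Type*} [Group G] {x : G} (hx : orderOf x = 2) : x * x = 1 ∧ x ≠ 1 := by
  constructor
  · rw [← pow_two, ← hx, pow_orderOf_eq_one]
  · rintro rfl
    rw [orderOf_one] at hx
    norm_num at hx

theorem order_of {G : Type*} [Group G] {x : G} (h1 : x * x = 1) (h2 : x ≠ 1) : orderOf x = 2 :=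
  have : Fact (Nat.Prime 2) := ⟨Nat.prime_two⟩
  orderOf_eq_prime (by rw [pow_two, h1]) h2

/-! ### `M₁₁` -/

theorem kill_m11 : Kill Spor.M11 := by
  intro A Γ h
  have hs : IsSimpleGroup Spor.M11 := H715.Fpr.MathData.simple11
  have hN : Nat.card Spor.M11 = 7920 := H715.Fpr.MathData.card11
  have hfin : Finite Spor.M11 := Nat.finite_of_card_ne_zero (by rw [hN]; norm_num)
  have hna := na_of hN (by norm_num)
  obtain ⟨t, ht, h2, h3⟩ := exists_three h hna (H701.Tall.out_m11 ⟨MulEquiv.refl _⟩)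
  have h5 := five h hna ht h2
  rw [index_eq hN (SporadicA.M11Facts.card_centralizer_two H715.Fpr.MathData.isM11 h2) (m := 165) (by norm_num)
    (by norm_num)] at h5
  have h6 : 3 ^ 5 ≤ ff A t ^ 5 := Nat.pow_le_pow_left h3 5
  omega

/-- **`M₁₁`.** -/
theorem row_m11 : Row fun T => Spor.IsoM11 T := by
  rintro T _ _ _ - ⟨e⟩ A Γ hA
  exact Kill.congr e.symm kill_m11 A Γ hA

/-! ### `M₂₃` -/

/-- membership test -/
def me23 (c : ℕ) : Bool := Nat.beq (papp c 23) 23

theorem emb23 : Emb H729.PairMathieu.inc23 me23 where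
  inj := H729.PairMathieu.inc23_injective
  ex _ hc hm := H715.Fpr.MathData.exists_el23 hc (Nat.eq_of_beq_eq_true hm)

private theorem _root_.Cfsg.Agent.KO45a31e8.e0.{ku, kv} {α : Type kv} {M : List α → Sort ku} (φ : ∀ l, M l) {z : M List.nil} {s : ∀ a l, M l → M (List.cons a l)} (h0 : φ List.nil = z) (hs : ∀ a l, φ (List.cons a l) = s a l (φ l)) (l : List α) : φ l = @List.rec α M z s l := List.rec h0 (fun a l ih => (hs a l).trans (congrArg (s a l) ih)) l
private noncomputable def _root_.Cfsg.Agent.KO45a31e8.k1.{ku0} : type_of% @List.all.{ku0} := @(fun x0 x1 x2 => @List.rec.{(ku0+1), ku0} @x0 @(fun x3 => (@x0 → @Bool) → @Bool) @(fun x3 => @Bool.true) @(fun x3 x4 x5 x6 => @Bool.rec.{1} @(fun x7 => @Bool) @Bool.false (@x5 @x6) (@x6 @x3)) @x1 @x2)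
private theorem _root_.Cfsg.Agent.KO45a31e8.e1.{ku0} : @List.all.{ku0} = @_root_.Cfsg.Agent.KO45a31e8.k1.{ku0} := by delta _root_.Cfsg.Agent.KO45a31e8.k1; funext a0 a1 a2; refine (congrFun (_root_.Cfsg.Agent.KO45a31e8.e0 (fun a1 a2 => @List.all.{ku0} a0 a1 a2) ?_ (fun c0 c1 => ?_) a1) a2 :) <;> (rfl')
private noncomputable def _root_.Cfsg.Agent.KO45a31e8.k2.{ku0} : type_of% @List.any.{ku0} := @(fun x0 x1 x2 => @List.rec.{(ku0+1), ku0} @x0 @(fun x3 => (@x0 → @Bool) → @Bool) @(fun x3 => @Bool.false) @(fun x3 x4 x5 x6 => @Bool.rec.{1} @(fun x7 => @Bool) (@x5 @x6) @Bool.true (@x6 @x3)) @x1 @x2)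
private theorem _root_.Cfsg.Agent.KO45a31e8.e2.{ku0} : @List.any.{ku0} = @_root_.Cfsg.Agent.KO45a31e8.k2.{ku0} := by delta _root_.Cfsg.Agent.KO45a31e8.k2; funext a0 a1 a2; refine (congrFun (_root_.Cfsg.Agent.KO45a31e8.e0 (fun a1 a2 => @List.any.{ku0} a0 a1 a2) ?_ (fun c0 c1 => ?_) a1) a2 :) <;> (rfl')
private theorem _root_.Cfsg.Agent.KO45a31e8.e3.{ku} {M : Nat → Sort ku} (φ : ∀ n, M n) {z : M Nat.zero} {s : ∀ n, M n → M (Nat.succ n)} (h0 : φ Nat.zero = z) (hs : ∀ n, φ (Nat.succ n) = s n (φ n)) (n : Nat) : φ n = @Nat.rec M z s n := Nat.rec h0 (fun n ih => (hs n).trans (congrArg (s n) ih)) n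
private noncomputable def _root_.Cfsg.Agent.KO45a31e8.k4 : type_of% @List.range.loop := @(fun x0 x1 => @Nat.rec.{1} @(fun x2 => (@List.{0} ℕ) → @List.{0} ℕ) @(fun x2 => @x2) @(fun x2 x3 x4 => @x3 (@x2 :: @x4)) @x0 @x1)
private theorem _root_.Cfsg.Agent.KO45a31e8.e4 : @List.range.loop = @_root_.Cfsg.Agent.KO45a31e8.k4 := by delta _root_.Cfsg.Agent.KO45a31e8.k4; funext a0 a1; refine (congrFun (_root_.Cfsg.Agent.KO45a31e8.e3 (fun a0 a1 => @List.range.loop a0 a1) ?_ (fun c0 => ?_) a0) a1 :) <;> (rfl')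
private noncomputable def _root_.Cfsg.Agent.KO45a31e8.k5 : (by first | exact type_of% @Cfsg.Agent.SporadicA.GolayPerm.papp | exact Unit : Sort _) := by first | (refine @Subtype.val _ (fun g => @Cfsg.Agent.SporadicA.GolayPerm.papp = @g) (@Subtype.mk _ _ (@(fun x0 x1 => @Nat.mod (@Nat.shiftRight @x0 (@Nat.mul (nat_lit 5) @x1)) (nat_lit 32))) ?_); rfl') | exact @Cfsg.Agent.SporadicA.GolayPerm.papp | exact ()
private theorem _root_.Cfsg.Agent.KO45a31e8.e5 : (by first | exact @Cfsg.Agent.SporadicA.GolayPerm.papp = @_root_.Cfsg.Agent.KO45a31e8.k5 | exact True : Prop) := by first | (delta _root_.Cfsg.Agent.KO45a31e8.k5; exact @Subtype.property _ (fun g => @Cfsg.Agent.SporadicA.GolayPerm.papp = @g) _) | rfl | trivial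
private noncomputable def _root_.Cfsg.Agent.KO45a31e8.k6 : (by first | exact type_of% @Cfsg.Agent.SporadicA.GolayPerm.pack | exact Unit : Sort _) := by first | (refine @Subtype.val _ (fun g => @Cfsg.Agent.SporadicA.GolayPerm.pack = @g) (@Subtype.mk _ _ (@(fun x0 => @List.rec.{1, 0} ℕ @(fun x1 => ℕ) (nat_lit 0) @(fun x1 x2 x3 => @Nat.add @x1 (@Nat.mul (nat_lit 32) @x3)) @x0)) ?_); funext a0; refine (_root_.Cfsg.Agent.KO45a31e8.e0 (fun a0 => @Cfsg.Agent.SporadicA.GolayPerm.pack a0) ?_ (fun c0 c1 => ?_) a0 :) <;> (rfl')) | exact @Cfsg.Agent.SporadicA.GolayPerm.pack | exact ()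
private theorem _root_.Cfsg.Agent.KO45a31e8.e6 : (by first | exact @Cfsg.Agent.SporadicA.GolayPerm.pack = @_root_.Cfsg.Agent.KO45a31e8.k6 | exact True : Prop) := by first | (delta _root_.Cfsg.Agent.KO45a31e8.k6; exact @Subtype.property _ (fun g => @Cfsg.Agent.SporadicA.GolayPerm.pack = @g) _) | rfl | trivial
private noncomputable def _root_.Cfsg.Agent.KO45a31e8.k7 : (by first | exact type_of% @Cfsg.Agent.SporadicA.GolayPerm.pcomp | exact Unit : Sort _) := by first | (refine @Subtype.val _ (fun g => @Cfsg.Agent.SporadicA.GolayPerm.pcomp = @g) (@Subtype.mk _ _ (@(fun x0 x1 => @Cfsg.Agent.KO45a31e8.k6 ((@Cfsg.Agent.KO45a31e8.k5 @x0 (@Cfsg.Agent.KO45a31e8.k5 @x1 (nat_lit 0))) :: ((@Cfsg.Agent.KO45a31e8.k5 @x0 (@Cfsg.Agent.KO45a31e8.k5 @x1 (nat_lit 1))) :: ((@Cfsg.Agent.KO45a31e8.k5 @x0 (@Cfsg.Agent.KO45a31e8.k5 @x1 (nat_lit 2))) :: ((@Cfsg.Agent.KO45a31e8.k5 @x0 (@Cfsg.Agent.KO45a31e8.k5 @x1 (nat_lit 3))) :: ((@Cfsg.Agent.KO45a31e8.k5 @x0 (@Cfsg.Agent.KO45a31e8.k5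 @x1 (nat_lit 4))) :: ((@Cfsg.Agent.KO45a31e8.k5 @x0 (@Cfsg.Agent.KO45a31e8.k5 @x1 (nat_lit 5))) :: ((@Cfsg.Agent.KO45a31e8.k5 @x0 (@Cfsg.Agent.KO45a31e8.k5 @x1 (nat_lit 6))) :: ((@Cfsg.Agent.KO45a31e8.k5 @x0 (@Cfsg.Agent.KO45a31e8.k5 @x1 (nat_lit 7))) :: ((@Cfsg.Agent.KO45a31e8.k5 @x0 (@Cfsg.Agent.KO45a31e8.k5 @x1 (nat_lit 8))) :: ((@Cfsg.Agent.KO45a31e8.k5 @x0 (@Cfsg.Agent.KO45a31e8.k5 @x1 (nat_lit 9))) :: ((@Cfsg.Agent.KO45a31e8.k5 @x0 (@Cfsg.Agent.KO45a31e8.k5 @x1 (nat_lit 10))) :: ((@Cfsg.Agent.KO45a31e8.k5 @x0 (@Cfsg.Agent.KO45a31e8.k5 @x1 (nat_lit 11))) :: ((@Cfsg.Agent.KO45a31e8.k5 @x0 (@Cfsg.Agent.KO45a31e8.k5 @x1 (nat_lit 12))) :: ((@Cfsg.Agent.KO45a31e8.k5 @x0 (@Cfsg.Agent.KO45a31e8.k5 @x1 (nat_lit 13))) :: ((@Cfsg.Agent.KO45a31e8.k5 @x0 (@Cfsg.Agent.KO45a31e8.k5 @x1 (nat_lit 14))) :: ((@Cfsg.Agent.KO45a31e8.k5 @x0 (@Cfsg.Agent.KO45a31e8.k5 @x1 (nat_lit 15))) :: ((@Cfsg.Agent.KO45a31e8.k5 @x0 (@Cfsg.Agent.KO45a31e8.k5 @x1 (nat_lit 16)))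 :: ((@Cfsg.Agent.KO45a31e8.k5 @x0 (@Cfsg.Agent.KO45a31e8.k5 @x1 (nat_lit 17))) :: ((@Cfsg.Agent.KO45a31e8.k5 @x0 (@Cfsg.Agent.KO45a31e8.k5 @x1 (nat_lit 18))) :: ((@Cfsg.Agent.KO45a31e8.k5 @x0 (@Cfsg.Agent.KO45a31e8.k5 @x1 (nat_lit 19))) :: ((@Cfsg.Agent.KO45a31e8.k5 @x0 (@Cfsg.Agent.KO45a31e8.k5 @x1 (nat_lit 20))) :: ((@Cfsg.Agent.KO45a31e8.k5 @x0 (@Cfsg.Agent.KO45a31e8.k5 @x1 (nat_lit 21))) :: ((@Cfsg.Agent.KO45a31e8.k5 @x0 (@Cfsg.Agent.KO45a31e8.k5 @x1 (nat_lit 22))) :: ((@Cfsg.Agent.KO45a31e8.k5 @x0 (@Cfsg.Agent.KO45a31e8.k5 @x1 (nat_lit 23))) :: [])))))))))))))))))))))))))) ?_); rewrite [← Cfsg.Agent.KO45a31e8.e5, ← Cfsg.Agent.KO45a31e8.e6]; (try delta Cfsg.Agent.SporadicA.GolayPerm.pcomp); (try generalize @Cfsg.Agent.SporadicA.GolayPerm.pack = g0); (try generalize @Cfsg.Agent.SporadicA.GolayPerm.papp = g1); rfl') | exact @Cfsg.Agent.SporadicA.GolayPerm.pcomp | exact ()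
private theorem _root_.Cfsg.Agent.KO45a31e8.e7 : (by first | exact @Cfsg.Agent.SporadicA.GolayPerm.pcomp = @_root_.Cfsg.Agent.KO45a31e8.k7 | exact True : Prop) := by first | (delta _root_.Cfsg.Agent.KO45a31e8.k7; exact @Subtype.property _ (fun g => @Cfsg.Agent.SporadicA.GolayPerm.pcomp = @g) _) | rfl | trivial
private noncomputable def _root_.Cfsg.Agent.KO45a31e8.k8 : (by first | exact type_of% @Cfsg.Agent.H729.MData.ppow | exact Unit : Sort _) := by first | (refine @Subtype.val _ (fun g => @Cfsg.Agent.H729.MData.ppow = @g) (@Subtype.mk _ _ (@(fun x0 x1 => @Nat.rec.{1} @(fun x2 => ℕ) @Cfsg.Agent.SporadicStructure.M24El.idP @(fun x2 x3 => @Cfsg.Agent.KO45a31e8.k7 @x0 @x3) @x1)) ?_); rewrite [← Cfsg.Agent.KO45a31e8.e7]; funext a0 a1; refine (_root_.Cfsg.Agent.KO45a31e8.e3 (fun a1 => @Cfsg.Agent.H729.MData.ppow a0 a1) ?_ (fun c0 => ?_) a1 :) <;> ((try delta Cfsg.Agent.H729.MData.ppow Cfsg.Agent.H729.MData.ppow._f); (try generalize @Cfsg.Agent.SporadicStructure.M24El.idP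 = g0); (try generalize @Cfsg.Agent.SporadicA.GolayPerm.pcomp = g1); rfl')) | exact @Cfsg.Agent.H729.MData.ppow | exact ()
private theorem _root_.Cfsg.Agent.KO45a31e8.e8 : (by first | exact @Cfsg.Agent.H729.MData.ppow = @_root_.Cfsg.Agent.KO45a31e8.k8 | exact True : Prop) := by first | (delta _root_.Cfsg.Agent.KO45a31e8.k8; exact @Subtype.property _ (fun g => @Cfsg.Agent.H729.MData.ppow = @g) _) | rfl | trivial
private noncomputable def _root_.Cfsg.Agent.KO45a31e8.k12 : (by first | exact type_of% @Cfsg.Agent.SporadicStructure.M24El.ok | exact Unit : Sort _) := by first | (refine @Subtype.val _ (fun g => @Cfsg.Agent.SporadicStructure.M24El.ok = @g) (@Subtype.mk _ _ (@(fun x0 => @Bool.rec.{1} @(fun x1 => @Bool) @Bool.false (@Cfsg.Agent.SporadicA.GolayPerm.isAut @x0) (@Nat.beq (@Cfsg.Agent.SporadicA.GolayPerm.pimg @x0 (nat_lit 16777215)) (nat_lit 16777215)))) ?_); (try delta Cfsg.Agent.SporadicStructure.M24El.ok Cfsg.Agent.SporadicA.GolayPerm.isPerm);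 (try generalize @Cfsg.Agent.SporadicA.GolayPerm.isAut = g0); (try generalize @Cfsg.Agent.SporadicA.GolayPerm.pimg = g1); rfl') | exact @Cfsg.Agent.SporadicStructure.M24El.ok | exact ()
private theorem _root_.Cfsg.Agent.KO45a31e8.e12 : (by first | exact @Cfsg.Agent.SporadicStructure.M24El.ok = @_root_.Cfsg.Agent.KO45a31e8.k12 | exact True : Prop) := by first | (delta _root_.Cfsg.Agent.KO45a31e8.k12; exact @Subtype.property _ (fun g => @Cfsg.Agent.SporadicStructure.M24El.ok = @g) _) | rfl | trivial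
private noncomputable def _root_.Cfsg.Agent.KO45a31e8.k13 : (by first | exact type_of% @Cfsg.Agent.H399.IF.okPair | exact Unit : Sort _) := by first | (refine @Subtype.val _ (fun g => @Cfsg.Agent.H399.IF.okPair = @g) (@Subtype.mk _ _ (@(fun x0 x1 x2 x3 => @Bool.rec.{1} @(fun x4 => @Bool) @Bool.false (@Bool.rec.{1} @(fun x4 => @Bool) @Bool.false (@Bool.rec.{1} @(fun x4 => @Bool) @Bool.false (@Bool.rec.{1} @(fun x4 => @Bool) @Bool.false (@Bool.rec.{1} @(fun x4 => @Bool) @Bool.false (@Cfsg.Agent.KO45a31e8.k2.{0} _ (@Cfsg.Agent.KO45a31e8.k4 (nat_lit 24) []) @(fun x4 => @Nat.beq (@Cfsg.Agent.KO45a31e8.k5 (@Cfsg.Agent.KO45a31e8.k7 (@Prod.fst.{0, 0} _ _ @x3) (@Prod.snd.{0, 0} _ _ @x3)) @x4) @x4)) (@Nat.beq (@Cfsg.Agent.KO45a31e8.k7 (@Cfsg.Agent.KO45a31e8.k7 (@Prod.fst.{0, 0} _ _ @x3) (@Prod.snd.{0, 0} _ _ @x3)) @Cfsg.Agent.SporadicStructure.M24El.idP) (@Cfsg.Agent.KO45a31e8.k7 (@Prod.fst.{0, 0} _ _ @x3) (@Prod.snd.{0, 0} _ _ @x3)))) (@Bool.rec.{1} @(fun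 x4 => @Bool) @Bool.true @Bool.false (@Nat.beq (@Cfsg.Agent.KO45a31e8.k7 (@Prod.fst.{0, 0} _ _ @x3) (@Prod.snd.{0, 0} _ _ @x3)) @Cfsg.Agent.SporadicStructure.M24El.idP))) (@Nat.beq (@Cfsg.Agent.KO45a31e8.k7 (@Cfsg.Agent.KO45a31e8.k7 (@Prod.fst.{0, 0} _ _ @x3) (@Prod.snd.{0, 0} _ _ @x3)) (@Cfsg.Agent.KO45a31e8.k7 (@Prod.fst.{0, 0} _ _ @x3) (@Prod.snd.{0, 0} _ _ @x3))) @Cfsg.Agent.SporadicStructure.M24El.idP)) (@Bool.rec.{1} @(fun x4 => @Bool) @Bool.false (@Bool.rec.{1} @(fun x4 => @Bool) @Bool.false (@Bool.rec.{1} @(fun x4 => @Bool) @Bool.false (@Nat.beq (@Cfsg.Agent.KO45a31e8.k8 (@Prod.snd.{0, 0} _ _ @x3) @x1) @Cfsg.Agent.SporadicStructure.M24El.idP) (@Nat.beq (@Cfsg.Agent.KO45a31e8.k7 (@Prod.snd.{0, 0} _ _ @x3) @x2) (@Cfsg.Agent.KO45a31e8.k7 @x2 (@Prod.snd.{0, 0} _ _ @x3)))) (@x0 (@Prod.snd.{0, 0} _ _ @x3))) (@Cfsg.Agent.KO45a31e8.k12 (@Prod.snd.{0, 0} _ _ @x3)))) (@Bool.rec.{1} @(fun x4 => @Bool) @Bool.false (@Bool.rec.{1} @(fun x4 => @Bool)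 @Bool.false (@Bool.rec.{1} @(fun x4 => @Bool) @Bool.false (@Nat.beq (@Cfsg.Agent.KO45a31e8.k8 (@Prod.fst.{0, 0} _ _ @x3) @x1) @Cfsg.Agent.SporadicStructure.M24El.idP) (@Nat.beq (@Cfsg.Agent.KO45a31e8.k7 (@Prod.fst.{0, 0} _ _ @x3) @x2) (@Cfsg.Agent.KO45a31e8.k7 @x2 (@Prod.fst.{0, 0} _ _ @x3)))) (@x0 (@Prod.fst.{0, 0} _ _ @x3))) (@Cfsg.Agent.KO45a31e8.k12 (@Prod.fst.{0, 0} _ _ @x3))))) ?_); rewrite [← Cfsg.Agent.KO45a31e8.e12, ← Cfsg.Agent.KO45a31e8.e8, ← Cfsg.Agent.KO45a31e8.e7, ← Cfsg.Agent.KO45a31e8.e5, ← Cfsg.Agent.KO45a31e8.e4, ← Cfsg.Agent.KO45a31e8.e2.{0}]; (try delta Cfsg.Agent.H399.IF.okPair); (try generalize @Cfsg.Agent.SporadicA.GolayPerm.papp = g0); (try generalize @Cfsg.Agent.SporadicA.GolayPerm.pcomp = g1); (try generalize @Cfsg.Agent.SporadicStructure.M24El.idP = g2); (try generalize @Cfsg.Agent.H729.MData.ppow = g3); (try generalize @Cfsg.Agent.SporadicStructure.M24El.ok = g4); rfl') | exact @Cfsg.Agent.H399.IF.okPair | exact ()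
private theorem _root_.Cfsg.Agent.KO45a31e8.e13 : (by first | exact @Cfsg.Agent.H399.IF.okPair = @_root_.Cfsg.Agent.KO45a31e8.k13 | exact True : Prop) := by first | (delta _root_.Cfsg.Agent.KO45a31e8.k13; exact @Subtype.property _ (fun g => @Cfsg.Agent.H399.IF.okPair = @g) _) | rfl | trivial
private noncomputable def _root_.Cfsg.Agent.KO45a31e8.k14 : (by first | exact type_of% @Cfsg.Agent.H399.IF.me23 | exact Unit : Sort _) := by first | (refine @Subtype.val _ (fun g => @Cfsg.Agent.H399.IF.me23 = @g) (@Subtype.mk _ _ (@(fun x0 => @Nat.beq (@Cfsg.Agent.KO45a31e8.k5 @x0 (nat_lit 23)) (nat_lit 23))) ?_); rewrite [← Cfsg.Agent.KO45a31e8.e5]; (try delta Cfsg.Agent.H399.IF.me23); (try generalize @Cfsg.Agent.SporadicA.GolayPerm.papp = g0); rfl') | exact @Cfsg.Agent.H399.IF.me23 | exact ()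
private theorem _root_.Cfsg.Agent.KO45a31e8.e14 : (by first | exact @Cfsg.Agent.H399.IF.me23 = @_root_.Cfsg.Agent.KO45a31e8.k14 | exact True : Prop) := by first | (delta _root_.Cfsg.Agent.KO45a31e8.k14; exact @Subtype.property _ (fun g => @Cfsg.Agent.H399.IF.me23 = @g) _) | rfl | trivial

theorem L23_ok : L23.all (okPair me23 7 c23t) = true := by (first | (rewrite [Cfsg.Agent.KO45a31e8.e1.{0}, Cfsg.Agent.KO45a31e8.e13, Cfsg.Agent.KO45a31e8.e14]; decide +kernel) | decide +kernel)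
theorem L23_nodup : (L23.map fun xy => pcomp xy.1 xy.2).Nodup := by decide +kernel

open OddHalf.D4.Spor.M2223 OddHalf.D4.Spor.MathieuSyl in
theorem conj23 (s t : Spor.M23) (hs : s * s = 1) (hs1 : s ≠ 1) (ht : t * t = 1) (ht1 : t ≠ 1) : IsConj s t := by
  obtain ⟨g, hg⟩ := OddHalf.D4.Spor.MathieuSyl.one_class T_le23 idx23 M22_le_M23 s hs hs1
  obtain ⟨k, hk⟩ := OddHalf.D4.Spor.MathieuSyl.one_class T_le23 idx23 M22_le_M23 t ht ht1
  exact (isConj_iff.2 ⟨g, hg⟩).symm.trans (isConj_iff.2 ⟨k, hk⟩)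

theorem kill_m23 : Kill Spor.M23 := by
  intro A Γ h
  have hs : IsSimpleGroup Spor.M23 := H715.Fpr.MathData.simple23
  have hN : Nat.card Spor.M23 = 10200960 := H715.Fpr.MathData.card23
  have hfin : Finite Spor.M23 := Nat.finite_of_card_ne_zero (by rw [hN]; norm_num)
  have hna := na_of hN (by norm_num)
  obtain ⟨t, ht, h2, h3⟩ := exists_three h hna (H701.Tall.out_m23 ⟨MulEquiv.refl _⟩)
  have hidx := index_eq hN (H992.Stages.card_cent_m23 h2) (m := 3795) (by norm_num) (by norm_num)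
  have h5 := five h hna ht h2
  have h6 := small h hna ht h2
  have h7 := cnt h hna ht h2
  have h8 := h.big
  rw [hidx] at h5 h7
  have hf : ff A t < 6 := by
    by_contra hcon
    have h9 : 6 ^ 5 ≤ ff A t ^ 5 := Nat.pow_le_pow_left (not_lt.1 hcon) 5
    omega
  have hok : ok c23t = true := by decide +kernel
  obtain ⟨t0, ht0⟩ := emb23.ex c23t hok (by decide +kernel)
  have h00 : t0 * t0 = 1 := by
    apply emb23.inj
    rw [map_mul, map_one, ht0, ← el_pcomp hok hok,
      Nat.eq_of_beq_eq_true (show Nat.beq (pcomp c23t c23t) idP = true by decide +kernel), el_idP]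
  have h01 : t0 ≠ 1 := ne_one_of hok ht0 (by decide +kernel) (by decide +kernel)
  obtain ⟨q1, q2⟩ := sq_of h2
  have hk := count_of emb23 ht0 hok (p := 7) (by norm_num) L23_ok L23_nodup
    (fun z hz hz1 _ => conj23 _ _ h00 h01 hz hz1) h hna ht h2 (conj23 _ _ h00 h01 q1 q2) (by omega)
  have hl : L23.length = 16 := rfl
  rw [hl] at hk
  have h9 : A.index * 16 ≤ A.index * kk A t := Nat.mul_le_mul_left _ hk
  have h10 : ff A t = 3 ∨ ff A t = 4 ∨ ff A t = 5 := by omega
  rcases h10 with h10 | h10 | h10 <;> rw [h10] at h6 h7 <;> norm_num at h6 h7 <;> omega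

/-- **`M₂₃`.** -/
theorem row_m23 : Row fun T => Spor.IsoM23 T := by
  rintro T _ _ _ - ⟨e⟩ A Γ hA
  exact Kill.congr e.symm kill_m23 A Γ hA

/-! ### `M₂₄` -/

/-- membership test -/
def me24 (_c : ℕ) : Bool := true

theorem emb24 : Emb (MonoidHom.id M24) me24 where
  inj := Function.injective_id
  ex _ _ _ := ⟨_, rfl⟩

theorem okP1 : ok P1 = true := by decide +kernel
theorem okP2 : ok P2 = true := by decide +kernel
theorem L24_ok : L24.all (okPair me24 7 P1) = true := by (first | (rewrite [Cfsg.Agent.KO45a31e8.e1.{0}, Cfsg.Agent.KO45a31e8.e13]; decide +kernel) | decide +kernel)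
theorem L24_nodup : (L24.map fun xy => pcomp xy.1 xy.2).Nodup := by decide +kernel
private noncomputable def _root_.Cfsg.Agent.KO45a31e8.k22 : (by first | exact type_of% @Cfsg.Agent.H399.IF.okElab | exact Unit : Sort _) := by first | (refine @Subtype.val _ (fun g => @Cfsg.Agent.H399.IF.okElab = @g) (@Subtype.mk _ _ (@(fun x0 x1 x2 => @Bool.rec.{1} @(fun x3 => @Bool) @Bool.false (@Bool.rec.{1} @(fun x3 => @Bool) @Bool.false (@Cfsg.Agent.KO45a31e8.k1.{0} _ @x2 @(fun x3 => @Cfsg.Agent.KO45a31e8.k1.{0} _ @x2 @(fun x4 => @Cfsg.Agent.KO45a31e8.k2.{0} _ @x2 (@Nat.beq (@Cfsg.Agent.KO45a31e8.k7 @x3 @x4))))) (@Cfsg.Agent.KO45a31e8.k2.{0} _ @x2 (@Nat.beq @Cfsg.Agent.SporadicStructure.M24El.idP))) (@Cfsg.Agent.KO45a31e8.k1.{0} _ @x2 @(fun x3 => @Bool.rec.{1} @(fun x4 => @Bool) @Bool.false (@Bool.rec.{1} @(fun x4 => @Bool) @Bool.false (@Bool.rec.{1} @(fun x4 => @Bool) @Bool.false (@Bool.rec.{1} @(fun x4 => @Bool) @Bool.false (@Nat.beq (@Cfsg.Agent.KO45a31e8.k7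 @x3 @x1) (@Cfsg.Agent.KO45a31e8.k7 @x1 @x3)) (@Nat.beq (@Cfsg.Agent.KO45a31e8.k7 @x3 @Cfsg.Agent.SporadicStructure.M24El.idP) @x3)) (@Nat.beq (@Cfsg.Agent.KO45a31e8.k7 @x3 @x3) @Cfsg.Agent.SporadicStructure.M24El.idP)) (@x0 @x3)) (@Cfsg.Agent.KO45a31e8.k12 @x3))))) ?_); rewrite [← Cfsg.Agent.KO45a31e8.e12, ← Cfsg.Agent.KO45a31e8.e7, ← Cfsg.Agent.KO45a31e8.e2.{0}, ← Cfsg.Agent.KO45a31e8.e1.{0}]; (try delta Cfsg.Agent.H399.IF.okElab); (try generalize @Cfsg.Agent.SporadicA.GolayPerm.pcomp = g0); (try generalize @Cfsg.Agent.SporadicStructure.M24El.idP = g1); (try generalize @Cfsg.Agent.SporadicStructure.M24El.ok = g2); rfl') | exact @Cfsg.Agent.H399.IF.okElab | exact ()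
private theorem _root_.Cfsg.Agent.KO45a31e8.e22 : (by first | exact @Cfsg.Agent.H399.IF.okElab = @_root_.Cfsg.Agent.KO45a31e8.k22 | exact True : Prop) := by first | (delta _root_.Cfsg.Agent.KO45a31e8.k22; exact @Subtype.property _ (fun g => @Cfsg.Agent.H399.IF.okElab = @g) _) | rfl | trivial

theorem B24_ok : okElab me24 P2 B24 = true := by (first | (rewrite [Cfsg.Agent.KO45a31e8.e22]; decide +kernel) | decide +kernel)
theorem B24_nodup : B24.Nodup := by decide +kernel
theorem B24_fix : (B24.all fun P => (List.range 24).any fun i => Nat.beq (papp P i) i) = true := by decide +kernel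

theorem conj_z {z : M24} (h1 : z * z = 1) (h2 : z ≠ 1) (h3 : ∃ i < 24, im z i = i) : IsConj (el P1) z := by
  obtain ⟨i, hi, h3⟩ := h3
  obtain ⟨g, hg⟩ := KFacts.M24Two.Count.conj_z_of_fix h1 h2 (p := pt i) (by
    apply idx_injective
    rw [idx_pt hi]
    exact h3)
  exact (isConj_iff.2 ⟨g, hg⟩).symm

/-- an involution with a fixed point in `A` -/
theorem no_z {A : Subgroup M24} {Γ : Subgroup (MulAut M24)} (h : IF A Γ) {t : M24} (ht : t ∈ A) (h2 : orderOf t = 2)
    (hc : IsConj (el P1) t) : False := by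
  have hs : IsSimpleGroup M24 := H715.Fpr.MathData.simple24
  have hN : Nat.card M24 = 244823040 := H715.Fpr.MathData.card24
  have hfin : Finite M24 := Nat.finite_of_card_ne_zero (by rw [hN]; norm_num)
  have hna := na_of hN (by norm_num)
  have hcc : Nat.card (centralizer ({t} : Set M24)) = 21504 := by
    exact (H672.OZ.cent_eq_of_conj hc).symm.trans KFacts.M24Two.Orders.card_centralizer_z
  have hidx := index_eq hN hcc (m := 11385) (by norm_num) (by norm_num)
  have h5 := five h hna ht h2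
  have h6 := small h hna ht h2
  have h7 := cnt h hna ht h2
  have h8 := h.big
  rw [hidx] at h5 h7
  have hf : ff A t < 7 := by
    by_contra hcon
    have h9 : 7 ^ 5 ≤ ff A t ^ 5 := Nat.pow_le_pow_left (not_lt.1 hcon) 5
    omega
  have hk := count_of emb24 (t0 := el P1) rfl okP1 (p := 7) (by norm_num) L24_ok L24_nodup
    (fun z hz hz1 hz2 => conj_z hz hz1 hz2) h hna ht h2 hc hf
  have hl : L24.length = 47 := rfl
  rw [hl] at hk
  have h9 : A.index * 47 ≤ A.index * kk A t := Nat.mul_le_mul_left _ hk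
  have h10 : ff A t = 0 ∨ ff A t = 1 ∨ ff A t = 2 ∨ ff A t = 3 ∨ ff A t = 4 ∨ ff A t = 5 ∨ ff A t = 6 := by omega
  rcases h10 with h10 | h10 | h10 | h10 | h10 | h10 | h10 <;> rw [h10] at h6 h7 <;> norm_num only [_root_.zero_eq_mul] at h6 h7 <;> (clear * - h8 hk h7 h9 h6; omega)

theorem kill_m24 : Kill M24 := by
  intro A Γ h
  have hs : IsSimpleGroup M24 := H715.Fpr.MathData.simple24
  have hN : Nat.card M24 = 244823040 := H715.Fpr.MathData.card24
  have hfin : Finite M24 := Nat.finite_of_card_ne_zero (by rw [hN]; norm_num)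
  have hna := na_of hN (by norm_num)
  obtain ⟨t, ht, h2, h3⟩ := exists_three h hna (H701.Tall.out_m24 ⟨MulEquiv.refl _⟩)
  obtain ⟨q1, q2⟩ := sq_of h2
  rcases KFacts.M24Two.Count.conj_or t q1 q2 with ⟨g, hg⟩ | ⟨g, hg⟩
  · exact no_z h ht h2 (isConj_iff.2 ⟨g, hg⟩).symm
  · have hcc : Nat.card (centralizer ({t} : Set M24)) = 7680 := by
      exact (H672.OZ.cent_eq_of_conj (isConj_iff.2 ⟨g, hg⟩)).trans KFacts.M24Two.Orders.card_centralizer_w
    have hidx := index_eq hN hcc (m := 31878) (by norm_num) (by norm_num)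
    have h5 := five h hna ht h2
    rw [hidx] at h5
    have hf : ff A t < 8 := by
      by_contra hcon
      have h9 : 8 ^ 5 ≤ ff A t ^ 5 := Nat.pow_le_pow_left (not_lt.1 hcon) 5
      omega
    have hg' : g⁻¹ * el P2 * (g⁻¹)⁻¹ = t := by
      have hg2 : g * t * g⁻¹ = el P2 := hg
      rw [← hg2]
      group
    obtain ⟨r, S, hr, hS, hS2⟩ := elab_of emb24 (t0 := el P2) rfl okP2 B24_ok B24_nodup h hna ht h2 hg'
    have hl : B24.length = 8 := rfl
    rw [hl] at hS
    have hS0 : 0 < S.card := by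
      by_contra hcon
      have h9 : S.card = 0 := by omega
      rw [h9] at hS
      omega
    obtain ⟨s, hsS⟩ := Finset.card_pos.1 hS0
    obtain ⟨s1, s2, s3, P, hP, hPs⟩ := hS2 s hsS
    obtain ⟨i, hi, hfix⟩ := List.any_eq_true.1 (List.all_eq_true.1 B24_fix P hP)
    have hokP : ok P = true := by
      have h9 := B24_ok
      simp only [okElab, Bool.and_eq_true] at h9
      have h10 := List.all_eq_true.1 h9.1 P hP
      simp only [Bool.and_eq_true] at h10
      exact h10.1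
    set s' : M24 := (g⁻¹)⁻¹ * s * g⁻¹ with hs'
    have hss' : IsConj s s' := isConj_iff.2 ⟨(g⁻¹)⁻¹, by rw [hs', inv_inv]⟩
    have hs'1 : s' * s' = 1 := by
      rw [hs']
      calc g⁻¹⁻¹ * s * g⁻¹ * (g⁻¹⁻¹ * s * g⁻¹) = g⁻¹⁻¹ * (s * s) * g⁻¹ := by group
        _ = 1 := by rw [s2]; group
    have hs'2 : s' ≠ 1 := by
      intro h9
      apply s3
      calc s = g⁻¹ * s' * g := by rw [hs']; group
        _ = 1 := by rw [h9]; group
    have hz : IsConj (el P1) s' := conj_z hs'1 hs'2 ⟨i, List.mem_range.1 hi, by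
      have h9 := im_el (φ := MonoidHom.id M24) (x := s') hokP hPs (List.mem_range.1 hi)
      have h10 : im s' i = papp P i := h9
      rw [h10]
      exact Nat.eq_of_beq_eq_true hfix⟩
    exact no_z h s1 (order_of s2 s3) (hz.trans hss'.symm)

/-- **`M₂₄`.** -/
theorem row_m24 : Row fun T => Spor.IsoM24 T := by
  rintro T _ _ _ - ⟨e⟩ A Γ hA
  exact Kill.congr e.symm kill_m24 A Γ hA

/-! ### `M₂₂`, even part -/

/-- membership test -/
def me22 (c : ℕ) : Bool := Nat.beq (papp c 23) 23 && Nat.beq (papp c 0) 0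

theorem emb22 : Emb H729.M22Deg.inc me22 where
  inj := H729.M22Deg.inc_injective
  ex c hc hm := by
    simp only [me22, Bool.and_eq_true] at hm
    exact H729.M22Deg.exists_el hc (Nat.eq_of_beq_eq_true hm.1) (Nat.eq_of_beq_eq_true hm.2)

private noncomputable def _root_.Cfsg.Agent.KO45a31e8.k23 : (by first | exact type_of% @Cfsg.Agent.H399.IF.me22 | exact Unit : Sort _) := by first | (refine @Subtype.val _ (fun g => @Cfsg.Agent.H399.IF.me22 = @g) (@Subtype.mk _ _ (@(fun x0 => @Bool.rec.{1} @(fun x1 => @Bool) @Bool.false (@Nat.beq (@Cfsg.Agent.KO45a31e8.k5 @x0 (nat_lit 0)) (nat_lit 0)) (@Nat.beq (@Cfsg.Agent.KO45a31e8.k5 @x0 (nat_lit 23)) (nat_lit 23)))) ?_); rewrite [← Cfsg.Agent.KO45a31e8.e5]; (try delta Cfsg.Agent.H399.IF.me22); (try generalize @Cfsg.Agent.SporadicA.GolayPerm.papp = g0); rfl') | exact @Cfsg.Agent.H399.IF.me22 | exact ()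
private theorem _root_.Cfsg.Agent.KO45a31e8.e23 : (by first | exact @Cfsg.Agent.H399.IF.me22 = @_root_.Cfsg.Agent.KO45a31e8.k23 | exact True : Prop) := by first | (delta _root_.Cfsg.Agent.KO45a31e8.k23; exact @Subtype.property _ (fun g => @Cfsg.Agent.H399.IF.me22 = @g) _) | rfl | trivial

theorem B22_ok : okElab me22 c23t B22 = true := by (first | (rewrite [Cfsg.Agent.KO45a31e8.e22, Cfsg.Agent.KO45a31e8.e23]; decide +kernel) | decide +kernel)
theorem B22_nodup : B22.Nodup := by decide +kernel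

open OddHalf.D4.Spor.M2223 OddHalf.D4.Spor.MathieuSyl Schreier.SylMTwentyTwo in
theorem conj22 (s t : Spor.M22) (hs : s * s = 1) (hs1 : s ≠ 1) (ht : t * t = 1) (ht1 : t ≠ 1) : IsConj s t := by
  obtain ⟨g, hg⟩ := OddHalf.D4.Spor.MathieuSyl.one_class T_le idx22 le_rfl s hs hs1
  obtain ⟨k, hk⟩ := OddHalf.D4.Spor.MathieuSyl.one_class T_le idx22 le_rfl t ht ht1
  exact (isConj_iff.2 ⟨g, hg⟩).symm.trans (isConj_iff.2 ⟨k, hk⟩)

theorem killE_m22 : KillE Spor.M22 := by
  rintro A Γ h ⟨t, ht, h2⟩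
  have hs : IsSimpleGroup Spor.M22 := H715.Fpr.MathData.simple22
  have hN : Nat.card Spor.M22 = 443520 := H715.Fpr.MathData.card22
  have hfin : Finite Spor.M22 := Nat.finite_of_card_ne_zero (by rw [hN]; norm_num)
  have hna := na_of hN (by norm_num)
  have hidx := index_eq hN (H992.Stages.card_cent_m22 h2) (m := 1155) (by norm_num) (by norm_num)
  have h5 := five h hna ht h2
  have h6 := small h hna ht h2
  have h7 := cnt h hna ht h2
  have h8 := h.big
  rw [hidx] at h5 h7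
  have hf : ff A t < 5 := by
    by_contra hcon
    have h9 : 5 ^ 5 ≤ ff A t ^ 5 := Nat.pow_le_pow_left (not_lt.1 hcon) 5
    omega
  have hok : ok c23t = true := by decide +kernel
  obtain ⟨t0, ht0⟩ := emb22.ex c23t hok (by decide +kernel)
  have h00 : t0 * t0 = 1 := by
    apply emb22.inj
    rw [map_mul, map_one, ht0, ← el_pcomp hok hok,
      Nat.eq_of_beq_eq_true (show Nat.beq (pcomp c23t c23t) idP = true by decide +kernel), el_idP]
  have h01 : t0 ≠ 1 := ne_one_of hok ht0 (by decide +kernel) (by decide +kernel)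
  obtain ⟨q1, q2⟩ := sq_of h2
  obtain ⟨g, hg⟩ := isConj_iff.1 (conj22 _ _ h00 h01 q1 q2)
  obtain ⟨r, S, hr, hS, hS2⟩ := elab_of emb22 ht0 hok B22_ok B22_nodup h hna ht h2 hg
  have hl : B22.length = 16 := rfl
  rw [hl] at hS
  have hk := le_kk A (t := t) S fun s hs => ⟨(hS2 s hs).1, conj22 _ _ q1 q2 (hS2 s hs).2.1 (hS2 s hs).2.2.1⟩
  have h9 : A.index * S.card ≤ A.index * kk A t := Nat.mul_le_mul_left _ hk
  have h10 : ff A t = 0 ∨ ff A t = 1 ∨ ff A t = 2 ∨ ff A t = 3 ∨ ff A t = 4 := by omega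
  have hr5 : r < 5 := by omega
  have hSc : r = 1 ∧ S.card = 15 ∨ r = 2 ∧ S.card = 7 ∨ r = 4 ∧ S.card = 3 := by
    interval_cases r <;> omega
  rcases hSc with ⟨r1, r2⟩ | ⟨r1, r2⟩ | ⟨r1, r2⟩ <;> rw [r2] at h9 <;>
    rcases h10 with h10 | h10 | h10 | h10 | h10 <;> rw [h10] at h6 h7 hr <;> norm_num only [_root_.zero_eq_mul] at h6 h7 <;> (clear * - hr r1 h8 h9 h7 h6; omega)

/-! ### `M₁₂`, even part -/

/-- membership test -/
def me12 (c : ℕ) : Bool := H729.PairMathieu.dod.all fun i => decide (papp c i ∈ H729.PairMathieu.dod)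

theorem emb12 : Emb H729.PairMathieu.inc12 me12 where
  inj := H729.PairMathieu.inc12_injective
  ex _ hc hm := OZ.exists_el12 hc hm

theorem B12A_ok : okElab me12 c12A B12A = true := by (first | (rewrite [Cfsg.Agent.KO45a31e8.e22]; decide +kernel) | decide +kernel)
theorem B12A_nodup : B12A.Nodup := by decide +kernel
theorem B12B_ok : okElab me12 c12B B12B = true := by (first | (rewrite [Cfsg.Agent.KO45a31e8.e22]; decide +kernel) | decide +kernel)
theorem B12B_nodup : B12B.Nodup := by decide +kernel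
theorem okA : ok c12A = true := by decide +kernel
theorem okB : ok c12B = true := by decide +kernel

theorem conj12 {s t : Spor.M12} (h : CoThreeStd.AutInv.IsA s ∧ CoThreeStd.AutInv.IsA t ∨
    CoThreeStd.AutInv.IsB s ∧ CoThreeStd.AutInv.IsB t) : IsConj s t := by
  rcases h with ⟨h1, h2⟩ | ⟨h1, h2⟩
  · obtain ⟨m, hm⟩ := h1.exists
    obtain ⟨n, hn⟩ := h2.exists
    have e1 : IsConj s CoThreeStd.MTwelve.y := isConj_iff.2 ⟨m, by rw [← hm]; group⟩
    have e2 : IsConj t CoThreeStd.MTwelve.y := isConj_iff.2 ⟨n, by rw [← hn]; group⟩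
    exact e1.trans e2.symm
  · obtain ⟨m, hm⟩ := h1.exists
    obtain ⟨n, hn⟩ := h2.exists
    have e1 : IsConj s (CoThreeStd.MTwelve.p * CoThreeStd.MTwelve.r) := isConj_iff.2 ⟨m, by rw [← hm]; group⟩
    have e2 : IsConj t (CoThreeStd.MTwelve.p * CoThreeStd.MTwelve.r) := isConj_iff.2 ⟨n, by rw [← hn]; group⟩
    exact e1.trans e2.symm

/-- the two representatives -/
theorem exists_reps : ∃ a b : Spor.M12, H729.PairMathieu.inc12 a = el c12A ∧ H729.PairMathieu.inc12 b = el c12B ∧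
    ∀ t : Spor.M12, t * t = 1 → t ≠ 1 → IsConj a t ∨ IsConj b t := by
  obtain ⟨a, ha⟩ := emb12.ex c12A okA (by decide +kernel)
  obtain ⟨b, hb⟩ := emb12.ex c12B okB (by decide +kernel)
  refine ⟨a, b, ha, hb, fun t h1 h2 => ?_⟩
  have sq : ∀ {x : Spor.M12} {c : ℕ}, ok c = true → H729.PairMathieu.inc12 x = el c →
      Nat.beq (pcomp c c) idP = true → x * x = 1 := by
    intro x c hc hx h
    apply emb12.inj
    rw [map_mul, map_one, hx, ← el_pcomp hc hc, Nat.eq_of_beq_eq_true h, el_idP]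
  have a1 := sq okA ha (by decide +kernel)
  have b1 := sq okB hb (by decide +kernel)
  have a2 : a ≠ 1 := ne_one_of okA ha (by decide +kernel) (by decide +kernel)
  have b2 : b ≠ 1 := ne_one_of okB hb (by decide +kernel) (by decide +kernel)
  -- not conjugate: `b` has a fixed point, `a` has none
  have hab : ¬ IsConj a b := by
    intro hc
    obtain ⟨g, hg⟩ := isConj_iff.1 hc
    have hfix : im (H729.PairMathieu.inc12 b) 4 = 4 := by
      rw [im_el okB hb (by norm_num)]
      decide +kernel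
    have hno : ∀ p : GolayPt, (a : Equiv.Perm GolayPt) p ≠ p := by
      intro p hp
      have h3 : im (H729.PairMathieu.inc12 a) (idx p) = idx p := by
        show idx ((a : Equiv.Perm GolayPt) (pt (idx p))) = idx p
        rw [pt_idx, hp]
      rw [im_el okA ha (idx_lt p)] at h3
      have h4 : ∀ i < 24, papp c12A i ≠ i := by decide +kernel
      exact h4 _ (idx_lt p) h3
    have h5 : (b : Equiv.Perm GolayPt) (pt 4) = pt 4 := by
      apply idx_injective
      rw [idx_pt (by norm_num)]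
      exact hfix
    apply hno ((g : Equiv.Perm GolayPt)⁻¹ (pt 4))
    have h6 : (b : Equiv.Perm GolayPt) = (g : Equiv.Perm GolayPt) * a * (g : Equiv.Perm GolayPt)⁻¹ := by
      rw [← hg]
      rfl
    have h7 : (g : Equiv.Perm GolayPt) ((a : Equiv.Perm GolayPt) ((g : Equiv.Perm GolayPt)⁻¹ (pt 4))) = pt 4 := by
      rw [h6] at h5
      exact h5
    have h8 := congrArg (fun p => (g : Equiv.Perm GolayPt)⁻¹ p) h7
    simpa using h8
  rcases CoThreeStd.AutInv.isA_or_isB a1 a2 with hA | hA <;> rcases CoThreeStd.AutInv.isA_or_isB b1 b2 with hB | hB <;>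
    rcases CoThreeStd.AutInv.isA_or_isB h1 h2 with hT | hT
  · exact absurd (conj12 (Or.inl ⟨hA, hB⟩)) hab
  · exact absurd (conj12 (Or.inl ⟨hA, hB⟩)) hab
  · exact Or.inl (conj12 (Or.inl ⟨hA, hT⟩))
  · exact Or.inr (conj12 (Or.inr ⟨hB, hT⟩))
  · exact Or.inr (conj12 (Or.inl ⟨hB, hT⟩))
  · exact Or.inl (conj12 (Or.inr ⟨hA, hT⟩))
  · exact absurd (conj12 (Or.inr ⟨hA, hB⟩)) hab
  · exact absurd (conj12 (Or.inr ⟨hA, hB⟩)) hab

theorem killE_m12 : KillE Spor.M12 := by
  classical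
  rintro A Γ h ⟨t, ht, h2⟩
  have hs : IsSimpleGroup Spor.M12 := H715.Fpr.MathData.simple12
  have hN : Nat.card Spor.M12 = 95040 := H715.Fpr.MathData.card12
  have hfin : Finite Spor.M12 := Nat.finite_of_card_ne_zero (by rw [hN]; norm_num)
  have hna := na_of hN (by norm_num)
  have h8 := h.big
  -- at most one conjugate of every involution, at most three fixed points
  have key : ∀ s ∈ A, orderOf s = 2 → ff A s < 4 ∧ kk A s ≤ 1 := by
    intro s hs h2
    have h5 := five h hna hs h2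
    have h6 := small h hna hs h2
    have h7 := cnt h hna hs h2
    have hidx : (centralizer ({s} : Set Spor.M12)).index = 396 ∨ (centralizer ({s} : Set Spor.M12)).index = 495 := by
      obtain ⟨q1, q2⟩ := sq_of h2
      rcases CoThreeStd.AutInv.isA_or_isB q1 q2 with hc | hc
      · exact Or.inl (index_eq hN hc.2.2 (by norm_num) (by norm_num))
      · exact Or.inr (index_eq hN hc.2.2 (by norm_num) (by norm_num))
    have hf : ff A s < 4 := by
      by_contra hcon
      have h9 : 4 ^ 5 ≤ ff A s ^ 5 := Nat.pow_le_pow_left (not_lt.1 hcon) 5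
      omega
    refine ⟨hf, ?_⟩
    by_contra hcon
    rcases Nat.lt_or_ge 2 (kk A s) with h9 | h9
    · have h11 : A.index * 3 ≤ A.index * kk A s := Nat.mul_le_mul_left _ h9
      have h10 : ff A s = 0 ∨ ff A s = 1 ∨ ff A s = 2 ∨ ff A s = 3 := by omega
      rcases hidx with h12 | h12 <;> rw [h12] at h7 <;>
        rcases h10 with h10 | h10 | h10 | h10 <;> rw [h10] at h7 <;> (clear * - h8 h7 h11; omega)
    · have h11 : kk A s = 2 := by omega
      rw [h11] at h7
      have h10 : ff A s = 0 ∨ ff A s = 1 ∨ ff A s = 2 ∨ ff A s = 3 := by omega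
      rcases hidx with h12 | h12 <;> rw [h12] at h7 <;>
        rcases h10 with h10 | h10 | h10 | h10 <;> rw [h10] at h7 <;> (clear * - h8 h7; omega)
  obtain ⟨q1, q2⟩ := sq_of h2
  have hf := (key t ht h2).1
  have hS : ∃ S : Finset Spor.M12, 3 ≤ S.card ∧ ∀ s ∈ S, s ∈ A ∧ s * s = 1 ∧ s ≠ 1 := by
    obtain ⟨a, b, ha, hb, hab⟩ := exists_reps
    rcases hab t q1 q2 with hc | hc
    · obtain ⟨g, hg⟩ := isConj_iff.1 hc
      obtain ⟨r, S, hr, hS, hS2⟩ := elab_of emb12 ha okA B12A_ok B12A_nodup h hna ht h2 hg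
      have hl : B12A.length = 8 := rfl
      rw [hl] at hS
      refine ⟨S, ?_, fun s hs => ⟨(hS2 s hs).1, (hS2 s hs).2.1, (hS2 s hs).2.2.1⟩⟩
      have hr5 : r < 4 := by omega
      interval_cases r <;> (clear * - hS; omega)
    · obtain ⟨g, hg⟩ := isConj_iff.1 hc
      obtain ⟨r, S, hr, hS, hS2⟩ := elab_of emb12 hb okB B12B_ok B12B_nodup h hna ht h2 hg
      have hl : B12B.length = 8 := rfl
      rw [hl] at hS
      refine ⟨S, ?_, fun s hs => ⟨(hS2 s hs).1, (hS2 s hs).2.1, (hS2 s hs).2.2.1⟩⟩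
      have hr5 : r < 4 := by omega
      interval_cases r <;> omega
  obtain ⟨S, hS3, hSm⟩ := hS
  have hclass : ∀ P : Spor.M12 → Prop, (∀ s, P s → ∀ s', P s' → IsConj s s') → (S.filter P).card ≤ 1 := by
    intro P hP
    by_contra hcon
    obtain ⟨s, hs⟩ := Finset.card_pos.1 (show 0 < (S.filter P).card by omega)
    rw [Finset.mem_filter] at hs
    obtain ⟨hsS, hsP⟩ := hs
    obtain ⟨m1, m2, m3⟩ := hSm s hsS
    have h9 := le_kk A (t := s) (S.filter P) fun s' hs' => by
      rw [Finset.mem_filter] at hs'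
      exact ⟨(hSm s' hs'.1).1, hP s hsP s' hs'.2⟩
    have h10 := (key s m1 (order_of m2 m3)).2
    omega
  have hA := hclass CoThreeStd.AutInv.IsA fun s hs s' hs' => conj12 (Or.inl ⟨hs, hs'⟩)
  have hB := hclass CoThreeStd.AutInv.IsB fun s hs s' hs' => conj12 (Or.inr ⟨hs, hs'⟩)
  have hcov : S ⊆ S.filter CoThreeStd.AutInv.IsA ∪ S.filter CoThreeStd.AutInv.IsB := by
    intro s hs
    obtain ⟨m1, m2, m3⟩ := hSm s hs
    rw [Finset.mem_union, Finset.mem_filter, Finset.mem_filter]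
    rcases CoThreeStd.AutInv.isA_or_isB m2 m3 with hc | hc
    · exact Or.inl ⟨hs, hc⟩
    · exact Or.inr ⟨hs, hc⟩
  have h9 := (Finset.card_le_card hcov).trans (Finset.card_union_le _ _)
  omega

end Cfsg.Agent.H399.IF
end

-- part: H399/IF/Odd
section
/-!
# S5719: the rows `M₁₂`, `M₂₂` (helper399)

`|A|` odd: a 2-subgroup of `C_T(σ)` acts semiregularly on the fixed points of the outer involution `σ`;
`8 ∣ |C_T(σ)|` for `M₁₂`, `32 ∣ |C_T(σ)|` for `M₂₂`.
-/

set_option autoImplicit false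
set_option linter.unusedSectionVars false
set_option maxRecDepth 100000

namespace Cfsg.Agent.H399.IF

open Cfsg Subgroup Cfsg.Agent.H209.Fxy
open Cfsg.Agent.SporadicA.GolayBase Cfsg.Agent.SporadicA.GolayPerm
open Cfsg.Agent.SporadicStructure.M24El

/-- the centralizer of an automorphism -/
def fixSub {T : Type*} [Group T] (σ : MulAut T) : Subgroup T where
  carrier := {x | σ x = x}
  one_mem' := map_one σ
  mul_mem' := by
    intro a b ha hb
    show σ (a * b) = a * b
    rw [map_mul, show σ a = a from ha, show σ b = b from hb]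
  inv_mem' := by
    intro a ha
    show σ a⁻¹ = a⁻¹
    rw [map_inv, show σ a = a from ha]

theorem mem_fixSub {T : Type*} [Group T] {σ : MulAut T} {x : T} : x ∈ fixSub σ ↔ σ x = x := Iff.rfl

/-- `|A|` odd: `2 ^ a ∣ |C_T(σ)|` gives `2 ^ a ≤ f(σ)`. -/
theorem odd_le {T : Type*} [Group T] [Finite T] {A : Subgroup T} {Γ : Subgroup (MulAut T)} (h : IF A Γ)
    (hodd : Odd (Nat.card A)) {σ : MulAut T} (hσ : σ ∈ Γ) (h2 : orderOf σ = 2) {B : Subgroup T}
    (hB : ∀ b ∈ B, σ b = b) {a : ℕ} (ha : 2 ^ a ∣ Nat.card B) : 2 ^ a ≤ fx A σ := by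
  have h1 := (H999.IFB.IF.E1 h hσ h2 hB).1
  have h3 : (A.subgroupOf B).index * Nat.card (A.subgroupOf B) = Nat.card B := (A.subgroupOf B).index_mul_card
  have h4 : Nat.card (A.subgroupOf B) = Nat.card (A ⊓ B : Subgroup T) := by
    rw [← Subgroup.inf_subgroupOf_right A B]
    exact Nat.card_congr (subgroupOfEquivOfLe inf_le_right).toEquiv
  have h5 : Nat.card (A ⊓ B : Subgroup T) ∣ Nat.card A := Subgroup.card_dvd_of_le inf_le_left
  have h6 : Odd (Nat.card (A ⊓ B : Subgroup T)) := Odd.of_dvd_nat hodd h5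
  have h7 : (2 ^ a).Coprime (Nat.card (A.subgroupOf B)) := by
    rw [h4]
    exact Nat.Coprime.pow_left a h6.coprime_two_left
  have h8 : 2 ^ a ∣ (A.subgroupOf B).index := by
    rw [← h3] at ha
    exact h7.dvd_of_dvd_mul_right ha
  have h9 : 0 < (A.subgroupOf B).index := Nat.pos_of_ne_zero Subgroup.index_ne_zero_of_finite
  exact (Nat.le_of_dvd h9 h8).trans h1

/-- an inner involution of `Γ` gives an involution of `A` -/
theorem not_odd_of_inner {T : Type*} [Group T] [Finite T] [IsSimpleGroup T] {A : Subgroup T} {Γ : Subgroup (MulAut T)}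
    (h : IF A Γ) (hna : ∃ a b : T, a * b ≠ b * a) (hodd : Odd (Nat.card A)) {t : T} (hσ : MulAut.conj t ∈ Γ)
    (h2 : orderOf (MulAut.conj t) = 2) : False := by
  rw [H999.IFB.orderOf_conj hna] at h2
  have h3 : t ∈ A := (h.conj t).1 hσ
  have h4 : orderOf t ∣ Nat.card A := Subgroup.orderOf_dvd_natCard A h3
  rw [h2] at h4
  exact (Nat.not_even_iff_odd.2 hodd) (even_iff_two_dvd.2 h4)

theorem index_le {T : Type*} [Group T] [Finite T] (A : Subgroup T) : A.index ≤ Nat.card T := by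
  rw [← A.card_mul_index]
  exact Nat.le_mul_of_pos_left _ Nat.card_pos

/-! ### `M₁₂` -/

open CoThreeStd.AutGamma CoThreeStd.AutMain CoThreeStd.AutInv CoThreeStd.AutClass in
theorem card_fix_c : Nat.card (fixSub (c : MulAut Spor.M12)) = 120 := by
  have hF : F0 ≤ fixSub (c : MulAut Spor.M12) := fun f hf => c_F0 hf
  have hyF : CoThreeStd.MTwelve.y ∉ F0 := by
    intro h
    obtain ⟨σ, -, hσ⟩ := mem_F0.1 h
    exact CoThreeStd.MTwelve.y_ne_w σ hσ.symm
  have hcy : CoThreeStd.MTwelve.y ∈ fixSub (c : MulAut Spor.M12) := by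
    refine (c_fix (h := CoThreeStd.MTwelve.y)).2 (Or.inr ?_)
    rw [CoThreeStd.MTwelve.y_sq]
    exact F0.one_mem
  have h2 : (F0.subgroupOf (fixSub (c : MulAut Spor.M12))).index = 2 := by
    rw [Subgroup.index_eq_two_iff]
    refine ⟨⟨CoThreeStd.MTwelve.y, hcy⟩, fun b => ?_⟩
    rw [mem_subgroupOf, mem_subgroupOf]
    show Xor ((b : Spor.M12) * CoThreeStd.MTwelve.y ∈ F0) ((b : Spor.M12) ∈ F0)
    rcases (c_fix (h := (b : Spor.M12))).1 b.2 with h1 | h1
    · refine Or.inr ⟨h1, fun h3 => hyF ?_⟩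
      exact (Subgroup.mul_mem_cancel_left F0 h1).1 h3
    · refine Or.inl ⟨h1, fun h3 => hyF ?_⟩
      exact (Subgroup.mul_mem_cancel_left F0 h3).1 h1
  have h3 := (F0.subgroupOf (fixSub (c : MulAut Spor.M12))).index_mul_card
  rw [h2, Nat.card_congr (subgroupOfEquivOfLe hF).toEquiv, CoThreeStd.AutCent.card_F0] at h3
  omega

/-- conjugate automorphisms have isomorphic centralizers -/
theorem card_fix_conj {T : Type*} [Group T] (m : T) (c : MulAut T) :
    Nat.card (fixSub (MulAut.conj m * c * (MulAut.conj m)⁻¹)) = Nat.card (fixSub c) := by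
  have key : ∀ x : T, (MulAut.conj m * c * (MulAut.conj m)⁻¹) x = m * c (m⁻¹ * x * m) * m⁻¹ := fun x => by
    rw [MulAut.mul_apply, MulAut.mul_apply, ← map_inv, MulAut.conj_apply, MulAut.conj_apply, inv_inv]
  refine Nat.card_congr ⟨fun x => ⟨m⁻¹ * x * m, ?_⟩, fun x => ⟨m * x * m⁻¹, ?_⟩, fun x => ?_, fun x => ?_⟩
  · have h1 := mem_fixSub.1 x.2
    rw [key] at h1
    show c (m⁻¹ * x * m) = m⁻¹ * x * m
    calc c (m⁻¹ * (x : T) * m) = m⁻¹ * (m * c (m⁻¹ * (x : T) * m) * m⁻¹) * m := by group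
      _ = m⁻¹ * (x : T) * m := by rw [h1]
  · have h1 := mem_fixSub.1 x.2
    rw [mem_fixSub, key]
    rw [show m⁻¹ * (m * (x : T) * m⁻¹) * m = x by group, h1]
  · apply Subtype.ext
    show m * (m⁻¹ * (x : T) * m) * m⁻¹ = x
    group
  · apply Subtype.ext
    show m⁻¹ * (m * (x : T) * m⁻¹) * m = x
    group

theorem killO_m12 : KillO Spor.M12 := by
  intro A Γ h hodd
  have hs : IsSimpleGroup Spor.M12 := H715.Fpr.MathData.simple12
  have hN : Nat.card Spor.M12 = 95040 := H715.Fpr.MathData.card12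
  have hfin : Finite Spor.M12 := Nat.finite_of_card_ne_zero (by rw [hN]; norm_num)
  have hna := na_of hN (by norm_num)
  obtain ⟨σ, hσ, h2, -⟩ := h.ex
  by_cases hI : σ ∈ CoThreeStd.AutClass.Inn
  · obtain ⟨t, rfl⟩ := hI
    exact not_odd_of_inner h hna hodd hσ h2
  · have hσσ : σ * σ = 1 := by rw [← pow_two, ← h2, pow_orderOf_eq_one]
    obtain ⟨m, hm⟩ := CoThreeStd.AutInv.outer_conj hI hσσ
    have hc : Nat.card (fixSub σ) = 120 := by rw [hm, card_fix_conj, card_fix_c]
    have h3 := odd_le h hodd hσ h2 (B := fixSub σ) (fun b hb => hb) (a := 3) (by rw [hc]; norm_num)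
    have h4 := h.small σ hσ h2
    have h5 := index_le A
    rw [hN] at h5
    have h6 : 8 ^ 6 ≤ fx A σ ^ 6 := Nat.pow_le_pow_left (by simpa using h3) 6
    omega

/-- **`M₁₂`.** -/
theorem row_m12 : Row fun T => Spor.IsoM12 T := by
  rintro T _ _ _ - ⟨e⟩ A Γ hA
  have hfin : Finite Spor.M12 := Finite.of_equiv _ e.toEquiv
  exact Kill.congr e.symm (Kill.of killE_m12 killO_m12) A Γ hA

/-! ### `M₂₂` -/

open UGT.End.M22 J4Type.Aut22 in
theorem dvd_fix_m22 {A : Subgroup Spor.M22} {Γ : Subgroup (MulAut Spor.M22)} (h : IF A Γ)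
    (hodd : Odd (Nat.card A)) {σ : MulAut Spor.M22} (hσ : σ ∈ Γ) (h2 : orderOf σ = 2) :
    2 ^ 5 ∣ Nat.card (fixSub σ) := by
  have hs : IsSimpleGroup Spor.M22 := H715.Fpr.MathData.simple22
  have hN : Nat.card Spor.M22 = 443520 := H715.Fpr.MathData.card22
  have hfin : Finite Spor.M22 := Nat.finite_of_card_ne_zero (by rw [hN]; norm_num)
  have hna := na_of hN (by norm_num)
  obtain ⟨d, hd, hdσ⟩ := J4Type.Aut22.exists_conj σ
  have hσσ : σ * σ = 1 := by rw [← pow_two, ← h2, pow_orderOf_eq_one]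
  by_cases hd0 : d none = none
  · exfalso
    have hdM : d ∈ Spor.M22 := (mem_M22_iff_D22 d).2 ⟨hd, hd0⟩
    have he : σ = MulAut.conj (⟨d, hdM⟩ : Spor.M22) := by
      ext m
      rw [hdσ m]
      rfl
    rw [he] at hσ h2
    exact not_odd_of_inner h hna hodd hσ h2
  · obtain ⟨hdM, hsw⟩ := (mem_D22_iff d).1 hd
    have hsw' : d none = some 0 ∧ d (some 0) = none := by
      rcases hsw with hsw | hsw
      · exact absurd hsw.1 hd0
      · exact hsw
    have hdd : d * d = 1 := by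
      refine eq_one_of_comm (D22.mul_mem hd hd) fun n hn => ?_
      have h3 : ((σ (σ ⟨n, hn⟩) : Spor.M22) : Equiv.Perm GolayPt) = d * (d * n * d⁻¹) * d⁻¹ := by
        rw [hdσ, hdσ]
      have h4 : σ (σ ⟨n, hn⟩) = ⟨n, hn⟩ := by rw [← MulAut.mul_apply, hσσ]; rfl
      rw [h4] at h3
      have h5 : n = d * (d * n * d⁻¹) * d⁻¹ := h3
      calc d * d * n = d * (d * n * d⁻¹) * d⁻¹ * (d * d) := by group
        _ = n * (d * d) := by rw [← h5]
    set g : M24 := ⟨d, hdM⟩ with hg
    have hgg : g * g = 1 := Subtype.ext hdd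
    have hg1 : g ≠ 1 := by
      intro h3
      apply hd0
      have h4 : d = 1 := congrArg Subtype.val h3
      rw [h4]
      rfl
    have hC : 512 ∣ Nat.card (centralizer ({g} : Set M24)) := by
      rcases KFacts.M24Two.Count.conj_or g hgg hg1 with ⟨k, hk⟩ | ⟨k, hk⟩
      · have h3 : Nat.card (centralizer ({g} : Set M24)) = 21504 :=
          (H672.OZ.cent_eq_of_conj (isConj_iff.2 ⟨k, hk⟩)).trans KFacts.M24Two.Orders.card_centralizer_z
        rw [h3]
        norm_num
      · have h3 : Nat.card (centralizer ({g} : Set M24)) = 7680 :=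
          (H672.OZ.cent_eq_of_conj (isConj_iff.2 ⟨k, hk⟩)).trans KFacts.M24Two.Orders.card_centralizer_w
        rw [h3]
        norm_num
    have hN4 : Nat.card M24 = 244823040 := H715.Fpr.MathData.card24
    have hfin4 : Finite M24 := Nat.finite_of_card_ne_zero (by rw [hN4]; norm_num)
    set C : Subgroup M24 := centralizer ({g} : Set M24) with hCdef
    set St : Subgroup C := MulAction.stabilizer C (none : GolayPt) with hSt
    have hidx : St.index ≤ 24 := by
      rw [hSt, MulAction.index_stabilizer]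
      refine (Set.ncard_le_ncard (Set.subset_univ _) (Set.toFinite _)).trans ?_
      rw [Set.ncard_univ, Nat.card_eq_fintype_card]
      decide
    have hpos : 0 < St.index := Nat.pos_of_ne_zero Subgroup.index_ne_zero_of_finite
    have hmul := St.card_mul_index
    have hcard : Nat.card St = Nat.card (fixSub σ) := by
      have hto : ∀ x : St, (((x : C) : M24) : Equiv.Perm GolayPt) ∈ Spor.M22 ∧
          (((x : C) : M24) : Equiv.Perm GolayPt) * d = d * (((x : C) : M24) : Equiv.Perm GolayPt) := by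
        intro x
        have h1 : ((x : C) : M24) * g = g * ((x : C) : M24) := mem_centralizer_singleton_iff.1 (x : C).2
        have h3 : (((x : C) : M24) : Equiv.Perm GolayPt) * d = d * (((x : C) : M24) : Equiv.Perm GolayPt) :=
          congrArg Subtype.val h1
        have h4 : (((x : C) : M24) : Equiv.Perm GolayPt) none = none := x.2
        have h5 : (((x : C) : M24) : Equiv.Perm GolayPt) (some 0) = some 0 := by
          rw [← hsw'.1]
          have h6 := congrArg (fun p : Equiv.Perm GolayPt => p none) h3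
          change (((x : C) : M24) : Equiv.Perm GolayPt) (d none) = d ((((x : C) : M24) : Equiv.Perm GolayPt) none) at h6
          rw [h6, h4]
        exact ⟨⟨⟨((x : C) : M24).2, h4⟩, h5⟩, h3⟩
      have hfr : ∀ y : Spor.M22, σ y = y → (y : Equiv.Perm GolayPt) * d = d * (y : Equiv.Perm GolayPt) := by
        intro y hy
        have h1 := hdσ y
        rw [hy] at h1
        rw [eq_mul_inv_iff_mul_eq] at h1
        exact h1
      refine Nat.card_congr ⟨fun x => ⟨⟨_, (hto x).1⟩, ?_⟩, fun y => ⟨⟨⟨(y : Spor.M22).1, (y : Spor.M22).2.1.1⟩, ?_⟩, ?_⟩,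
        fun x => ?_, fun y => ?_⟩
      · rw [mem_fixSub]
        apply Subtype.ext
        rw [hdσ]
        show d * (((x : C) : M24) : Equiv.Perm GolayPt) * d⁻¹ = (((x : C) : M24) : Equiv.Perm GolayPt)
        exact mul_inv_eq_iff_eq_mul.2 (hto x).2.symm
      · rw [hCdef, mem_centralizer_singleton_iff]
        exact Subtype.ext (hfr y y.2)
      · show ((y : Spor.M22) : Equiv.Perm GolayPt) none = none
        exact (y : Spor.M22).2.1.2
      · rfl
      · rfl
    rw [hcard] at hmul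
    rw [← hmul] at hC
    set o := St.index with ho
    set k := Nat.card (fixSub σ) with hk
    interval_cases o <;> omega

theorem killO_m22 : KillO Spor.M22 := by
  intro A Γ h hodd
  have hN : Nat.card Spor.M22 = 443520 := H715.Fpr.MathData.card22
  have hfin : Finite Spor.M22 := Nat.finite_of_card_ne_zero (by rw [hN]; norm_num)
  obtain ⟨σ, hσ, h2, -⟩ := h.ex
  have h3 := odd_le h hodd hσ h2 (B := fixSub σ) (fun b hb => hb) (a := 5) (dvd_fix_m22 h hodd hσ h2)
  have h4 := h.small σ hσ h2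
  have h5 := index_le A
  rw [hN] at h5
  have h6 : 32 ^ 6 ≤ fx A σ ^ 6 := Nat.pow_le_pow_left (by simpa using h3) 6
  omega

/-- **`M₂₂`.** -/
theorem row_m22 : Row fun T => Spor.IsoM22 T := by
  rintro T _ _ _ - ⟨e⟩ A Γ hA
  have hfin : Finite Spor.M22 := Finite.of_equiv _ e.toEquiv
  exact Kill.congr e.symm (Kill.of killE_m22 killO_m22) A Γ hA

end Cfsg.Agent.H399.IF
end

-- part: H306/IFHe/Even
section
/-!
# S5719, row He, `|A|` even (helper306)

* `L_le` : `a ∈ A` implies `L = ⟨c, d, e, f, g⟩ ≤ A` (`f(a) ≤ 7`, the core of `A ∩ L` in `L`);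
* `no_two_a` : `A` contains no involution of type 2A;
* `no_two_b` : nor of type 2B.
-/

set_option autoImplicit false
set_option maxRecDepth 100000
set_option linter.unusedSectionVars false

namespace Cfsg.Agent.H306.IFHe

open MulAction Subgroup Cfsg Cfsg.Agent.H209.Fxy Cfsg.Agent.H999.IFB
open Cfsg.Spor Cfsg.Spor.He Cfsg.Agent.SporadicB.HePerm Cfsg.Agent.FixBN.HeStab
open Cfsg.Agent.KFacts.He.Lv Cfsg.Agent.KFacts.He.TwoACent Cfsg.Agent.KFacts.He.TwoAPlane
open Cfsg.Agent.CpAutHe.Cnt (pw wd_pw)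

instance simple_he : IsSimpleGroup Cfsg.Spor.He := Cfsg.Agent.S1695.result.1

/-! ### the 2A involutions -/

theorem card_L : Nat.card L = 80640 := by
  have h1 := Subgroup.card_eq_card_quotient_mul_card_subgroup (center ↥L)
  rw [Nat.card_congr quotEquiv.toEquiv, Cfsg.Agent.ONType.PslCard.card_PSL3, center_L,
    Nat.card_congr (subgroupOfEquivOfLe V_le_L).toEquiv, card_V] at h1
  rw [h1]

theorem L_le_cent : L ≤ centralizer ({gn .a} : Set Cfsg.Spor.He) := fun _ hx =>
  mem_centralizer_singleton_iff.2 (L_comm_a hx)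

theorem s_notMem : s ∉ L := by
  intro h
  have h1 := L_comm_v h
  have h2 := s_conj_v
  rw [h1, mul_inv_cancel_right, mul_inv_cancel] at h2
  exact a_ne_one h2.symm

theorem card_cent_a : 161280 ≤ Nat.card ↥(centralizer ({gn .a} : Set Cfsg.Spor.He)) := by
  obtain ⟨k, hk⟩ := card_dvd_of_le L_le_cent
  rw [card_L] at hk
  have hk0 : k ≠ 0 := by
    rintro rfl
    rw [mul_zero] at hk
    exact Nat.card_pos.ne' hk
  have hk1 : k ≠ 1 := by
    rintro rfl
    rw [mul_one] at hk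
    have h1 : L = centralizer ({gn .a} : Set Cfsg.Spor.He) := eq_of_le_of_card_ge L_le_cent (by rw [hk, card_L])
    apply s_notMem
    rw [h1, mem_centralizer_singleton_iff]
    exact s_comm_a
  rw [hk]
  omega

theorem index_cent_a : (centralizer ({gn .a} : Set Cfsg.Spor.He)).index ≤ 24990 := by
  have h1 := (centralizer ({gn .a} : Set Cfsg.Spor.He)).card_mul_index
  rw [card_he] at h1
  have h2 := card_cent_a
  by_contra hcon
  push Not at hcon
  have h3 : 161280 * 24991 ≤ Nat.card ↥(centralizer ({gn .a} : Set Cfsg.Spor.He)) *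
      (centralizer ({gn .a} : Set Cfsg.Spor.He)).index := Nat.mul_le_mul h2 hcon
  omega

theorem hna : ∃ a b : Cfsg.Spor.He, a * b ≠ b * a := by
  by_contra hcon
  push Not at hcon
  have h1 := s_notMem
  apply h1
  have h2 := hcon s v
  have h3 := s_conj_v
  rw [h2, mul_inv_cancel_right, mul_inv_cancel] at h3
  exact absurd h3.symm a_ne_one

theorem ord_a : orderOf (gn .a) = 2 := by
  refine orderOf_eq_prime ?_ a_ne_one
  rw [pow_two, gn_mul_self]

/-- the core argument -/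
theorem core_index {G : Type*} [Group G] [Finite G] (H : Subgroup G) (h : H.index ≤ 7) : H.normalCore.index ≤ 5040 := by
  classical
  have hfin : Fintype (G ⧸ H) := Fintype.ofFinite _
  rw [normalCore_eq_ker, index_ker]
  have h2 : Nat.card (MulAction.toPermHom G (G ⧸ H)).range ≤ Nat.card (Equiv.Perm (G ⧸ H)) :=
    card_le_card_group _
  refine h2.trans ?_
  rw [Nat.card_eq_fintype_card, Fintype.card_perm, ← Nat.card_eq_fintype_card]
  have h3 : Nat.card (G ⧸ H) ≤ 7 := h
  exact (Nat.factorial_le h3).trans (by decide)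

/-- a large normal subgroup inside `H` -/
theorem exists_core {G : Type*} [Group G] [Finite G] {K A : Subgroup G} (h : A.relIndex K ≤ 7) :
    ∃ N : Subgroup G, N ≤ K ∧ N ≤ A ∧ (∀ l ∈ K, ∀ n ∈ N, l * n * l⁻¹ ∈ N) ∧ Nat.card K ≤ Nat.card N * 5040 := by
  set H : Subgroup K := A.subgroupOf K with hH
  have h1 : H.normalCore.index ≤ 5040 := core_index H h
  have h2 := H.normalCore.card_mul_index
  have hcard : Nat.card (H.normalCore.map K.subtype) = Nat.card H.normalCore :=
    card_map_of_injective K.subtype_injective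
  refine ⟨H.normalCore.map K.subtype, ?_, ?_, ?_, ?_⟩
  · rintro _ ⟨x, -, rfl⟩
    exact x.2
  · rintro _ ⟨x, hx, rfl⟩
    exact H.normalCore_le hx
  · rintro l hl _ ⟨n, hn, rfl⟩
    exact ⟨(⟨l, hl⟩ * n * ⟨l, hl⟩⁻¹ :), H.normalCore_normal.conj_mem n hn ⟨l, hl⟩, rfl⟩
  · rw [hcard, ← h2]
    exact Nat.mul_le_mul_left _ h1

theorem le_of_relIndex {A : Subgroup Cfsg.Spor.He} (h : A.relIndex L ≤ 7) : L ≤ A := by
  obtain ⟨N, hNL, hNA, hn, hc⟩ := exists_core h
  rcases Cfsg.Agent.KFacts.He.TwoA.normal_cases hNL hn with h4 | h4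
  · exfalso
    have h5 : Nat.card N ≤ Nat.card V := card_le_of_le h4
    rw [card_V] at h5
    rw [card_L] at hc
    omega
  · rw [← h4]
    exact hNA

variable {A : Subgroup Cfsg.Spor.He} {Γ : Subgroup (MulAut Cfsg.Spor.He)}

theorem L_le (h : IF A Γ) (ha : gn .a ∈ A) : L ≤ A := by
  obtain ⟨-, -, -, -, h1⟩ := IF.E2' h hna ha ord_a
  have h2 := (h1 L L_le_cent).1
  apply le_of_relIndex
  by_contra hcon
  push Not at hcon
  have h3 : 8 ^ 5 ≤ A.relIndex L ^ 5 := Nat.pow_le_pow_left hcon 5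
  have h4 := index_cent_a
  omega

/-- conjugation -/
theorem conj_mem_map (g : Cfsg.Spor.He) {x : Cfsg.Spor.He} :
    x ∈ A.map (MulAut.conj g⁻¹).toMonoidHom ↔ g * x * g⁻¹ ∈ A := by
  rw [mem_map_e]
  have h1 : (MulAut.conj g⁻¹).symm x = g * x * g⁻¹ := by
    rw [MulEquiv.symm_apply_eq, MulAut.conj_apply]
    group
  rw [h1]

theorem L_conj_le (h : IF A Γ) {g : Cfsg.Spor.He} (ha : g * gn .a * g⁻¹ ∈ A) {l : Cfsg.Spor.He} (hl : l ∈ L) :
    g * l * g⁻¹ ∈ A := by
  have h1 := h.map (MulAut.conj g⁻¹)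
  exact (conj_mem_map g).1 (L_le h1 ((conj_mem_map g).2 ha) hl)

/-- `c = g0 a g0⁻¹` -/
def g0 : List Gen := [.d, .c, .d, .f, .c, .d, .g, .b, .c, .d, .f, .e, .d, .c, .b]

def g0i : List Gen := [.b, .c, .d, .e, .f, .d, .c, .b, .g, .d, .c, .f, .d, .c, .d]

theorem c_eq : wd g0 * gn .a = gn .c * wd g0 := by
  have h := eq_of_chkB (v := g0 ++ ([.a] : List Gen)) (w := ([.c] : List Gen) ++ g0) (by decide +kernel)
  rwa [wd_append, wd_append, wd_one, wd_one] at h

theorem g0_inv : (wd g0)⁻¹ = wd g0i := by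
  rw [inv_eq_iff_mul_eq_one, ← wd_append, ← wd_nil]
  exact eq_of_chkB (by decide +kernel)

/-- `b` as a product of elements of `L` and `g0 L g0⁻¹` -/
theorem b_eq : gn .b = wd [.c, .d, .c, .g, .d, .c] * (wd g0 * wd [.d, .c, .d, .g] * wd g0i) *
    wd [.d, .f, .g, .d, .c, .d, .g, .f, .d] * (wd g0 * wd [.g, .d, .c, .d] * wd g0i) * wd [.c, .d, .g, .c, .d, .c] := by
  simp only [← wd_append, ← wd_one]
  exact eq_of_chkB (by decide +kernel)

theorem false_of_a (h : IF A Γ) (ha : gn .a ∈ A) : False := by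
  have hL := L_le h ha
  have hg : ∀ l ∈ L, wd g0 * l * wd g0i ∈ A := by
    intro l hl
    rw [← g0_inv]
    apply L_conj_le h _ hl
    rw [c_eq, mul_inv_cancel_right]
    exact hL (gn_mem_L (by simp))
  have hb : gn .b ∈ A := by
    rw [b_eq]
    refine A.mul_mem (A.mul_mem (A.mul_mem (A.mul_mem (hL ?_) (hg _ ?_)) (hL ?_)) (hg _ ?_)) (hL ?_) <;>
      exact wd_mem_L (by decide)
  apply h.ne_top
  rw [eq_top_iff, ← PresentedGroup.closure_range_of, closure_le]
  rintro _ ⟨m, rfl⟩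
  cases m
  · exact ha
  · exact hb
  all_goals exact hL (gn_mem_L (by simp))

/-- **No involution of type 2A.** -/
theorem no_two_a (h : IF A Γ) {g : Cfsg.Spor.He} (ha : g * gn .a * g⁻¹ ∈ A) : False :=
  false_of_a (h.map (MulAut.conj g⁻¹)) ((conj_mem_map g).2 ha)

end Cfsg.Agent.H306.IFHe
end

-- part: H306/IFHe/EvenB
section
/-!
# S5719, row He, `|A|` even: the involutions of type 2B (helper306)
-/

set_option autoImplicit false
set_option maxRecDepth 100000
set_option linter.unusedSectionVars false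

namespace Cfsg.Agent.H306.IFHe

open MulAction Subgroup Cfsg Cfsg.Agent.H209.Fxy Cfsg.Agent.H999.IFB
open Cfsg.Spor Cfsg.Spor.He Cfsg.Agent.SporadicB.HePerm Cfsg.Agent.FixBN.HeStab
open Cfsg.Agent.KFacts.He.Lv Cfsg.Agent.KFacts.He.TwoACent Cfsg.Agent.KFacts.He.TwoAPlane
open Cfsg.Agent.CpAutHe.Cnt (pw wd_pw)

/-! ### an elementary abelian subgroup of order 64 -/

def eg : List (List Gen) := [[.d], [.a], [.e, .d, .c, .d, .e], [.e, .d, .g, .d, .e], [.g, .d, .c, .d, .g],
  [.c, .d, .c, .g, .d, .g, .c, .d, .c]]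

theorem eg_comm : (eg.all fun v => eg.all fun w => chkB (v ++ w) (w ++ v)) = true := by decide +kernel

theorem eg_sq : (eg.all fun v => chkB (v ++ v) []) = true := by decide +kernel

def E : Subgroup Cfsg.Spor.He := _root_.Subgroup.closure {x | ∃ w ∈ eg, wd w = x}

theorem E_comm {x y : Cfsg.Spor.He} (hx : x ∈ E) (hy : y ∈ E) : x * y = y * x := by
  have h0 : ∀ v ∈ eg, ∀ w ∈ eg, wd v * wd w = wd w * wd v := by
    intro v hv w hw
    have h := eg_comm
    rw [List.all_eq_true] at h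
    have h1 := h v hv
    rw [List.all_eq_true] at h1
    have h2 := eq_of_chkB (h1 w hw)
    rwa [wd_append, wd_append] at h2
  have h1 : E ≤ centralizer {x | ∃ w ∈ eg, wd w = x} := by
    rw [E, closure_le]
    rintro _ ⟨v, hv, rfl⟩
    rw [SetLike.mem_coe, mem_centralizer_iff]
    rintro _ ⟨w, hw, rfl⟩
    exact h0 w hw v hv
  have h2 : E ≤ centralizer (E : Set Cfsg.Spor.He) := by
    conv_lhs => rw [E]
    rw [closure_le]
    rintro _ ⟨v, hv, rfl⟩
    rw [SetLike.mem_coe, mem_centralizer_iff]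
    intro z hz
    have h3 := mem_centralizer_iff.1 (h1 hz) (wd v) ⟨v, hv, rfl⟩
    exact h3.symm
  exact (mem_centralizer_iff.1 (h2 hy) x hx)

theorem E_sq {x : Cfsg.Spor.He} (hx : x ∈ E) : x * x = 1 := by
  have key : ∀ x, x ∈ E → x * x = 1 := by
    intro x hx
    have hx' := hx
    rw [E] at hx'
    induction hx' using closure_induction with
    | mem x hx1 =>
      obtain ⟨w, hw, rfl⟩ := hx1
      have h := eg_sq
      rw [List.all_eq_true] at h
      have h1 := eq_of_chkB (h w hw)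
      rwa [wd_append, wd_nil] at h1
    | one => exact one_mul 1
    | mul x y hx1 hy1 ihx ihy =>
      have h1 := ihx hx1
      have h2 := ihy hy1
      have h3 := E_comm hx1 hy1
      calc x * y * (x * y) = x * (y * x) * y := by group
        _ = x * (x * y) * y := by rw [h3]
        _ = (x * x) * (y * y) := by group
        _ = 1 := by rw [h1, h2, one_mul]
    | inv x hx1 ih =>
      have h1 := ih hx1
      rw [← mul_inv_rev, h1, inv_one]
  exact key x hx

def sub : List (List Gen) → List (List Gen)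
  | [] => [[]]
  | x :: l => sub l ++ (sub l).map (x ++ ·)

def sig (w : List Gen) : ℕ :=
  Nat.add (act w 0) (Nat.mul 4096 (Nat.add (act w 1) (Nat.mul 4096 (Nat.add (act w 32) (Nat.mul 4096 (act w 8))))))

theorem sub_mem : ∀ l : List (List Gen), (∀ w ∈ l, wd w ∈ E) → ∀ w ∈ sub l, wd w ∈ E := by
  intro l
  induction l with
  | nil =>
    intro _ w hw
    rw [sub, List.mem_singleton] at hw
    rw [hw, wd_nil]
    exact E.one_mem
  | cons x l ih =>
    intro hl w hw
    have hl' : ∀ w ∈ l, wd w ∈ E := fun w hw => hl w (List.mem_cons_of_mem _ hw)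
    rw [sub, List.mem_append, List.mem_map] at hw
    rcases hw with hw | ⟨v, hv, rfl⟩
    · exact ih hl' w hw
    · rw [wd_append]
      exact E.mul_mem (hl x List.mem_cons_self) (ih hl' v hv)

theorem sub_nodup : ((sub eg).map sig).Nodup := by decide +kernel

theorem sub_length : (sub eg).length = 64 := by decide +kernel

theorem sig_eq {v w : List Gen} (h : wd v = wd w) : sig v = sig w := by
  have h1 : ∀ (i : ℕ) (_ : i < 2058), act v i = act w i := by
    intro i hi
    have h2 := phi_wd_apply v ⟨i, hi⟩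
    rw [h, phi_wd_apply] at h2
    exact h2.symm
  unfold sig
  rw [h1 0 (by norm_num), h1 1 (by norm_num), h1 32 (by norm_num), h1 8 (by norm_num)]

theorem card_E : 64 ≤ Nat.card E := by
  have hmem : ∀ w ∈ sub eg, wd w ∈ E := sub_mem eg fun w hw => subset_closure ⟨w, hw, rfl⟩
  have h1 := Nat.card_le_card_of_injective (fun i : Fin (sub eg).length =>
    (⟨wd ((sub eg).get i), hmem _ (List.get_mem _ _)⟩ : E)) (by
      intro i j hij
      have h2 : wd ((sub eg).get i) = wd ((sub eg).get j) := congrArg Subtype.val hij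
      have h3 := sig_eq h2
      have h4 := List.nodup_iff_injective_get.1 sub_nodup
      have hi : (i : ℕ) < ((sub eg).map sig).length := by rw [List.length_map]; exact i.2
      have hj : (j : ℕ) < ((sub eg).map sig).length := by rw [List.length_map]; exact j.2
      have h5 : (⟨i, hi⟩ : Fin ((sub eg).map sig).length) = ⟨j, hj⟩ := by
        apply h4
        simpa using h3
      exact Fin.ext ((congrArg Fin.val h5 :)))
  rwa [Nat.card_eq_fintype_card, Fintype.card_fin, sub_length] at h1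

theorem E_le_cent : E ≤ centralizer ({wd [.d]} : Set Cfsg.Spor.He) := by
  intro x hx
  rw [mem_centralizer_singleton_iff]
  exact E_comm hx (subset_closure ⟨[.d], by simp [eg], rfl⟩)

theorem E_pow : ∃ k : ℕ, Nat.card E = 2 ^ k := by
  have h : IsPGroup 2 E := fun x => ⟨1, by
    apply Subtype.ext
    rw [pow_one]
    show ((x ^ 2 : E) : Cfsg.Spor.He) = 1
    rw [Subgroup.coe_pow, pow_two]
    exact E_sq x.2⟩
  exact IsPGroup.iff_card.1 h

/-- `f(σ) |C_T(σ)|`-count with the elements of `E` -/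
theorem pow_le {m k : ℕ} (h : m ∣ 2 ^ k) (h12 : m < 12) : m = 1 ∨ m = 2 ∨ m = 4 ∨ m = 8 := by
  obtain ⟨j, -, rfl⟩ := (Nat.dvd_prime_pow Nat.prime_two).1 h
  have hj : j < 4 := by
    by_contra hcon
    push Not at hcon
    have : 2 ^ 4 ≤ 2 ^ j := Nat.pow_le_pow_right (by norm_num) hcon
    omega
  interval_cases j <;> simp

/-! ### elements of order seven -/

def X7 : List Gen := [.b, .f, .d, .c, .d, .f, .g, .d, .e, .c, .d, .g]
def Y7 : List Gen := [.b, .g, .d, .c, .d, .g, .f, .d, .e, .c, .d, .f]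

theorem x7_pow : wd X7 ^ 7 = 1 := by
  rw [← wd_pw, ← wd_nil]
  exact eq_of_chkB (by decide +kernel)

theorem y7_pow : wd Y7 ^ 7 = 1 := by
  rw [← wd_pw, ← wd_nil]
  exact eq_of_chkB (by decide +kernel)

theorem x7_comm : wd [.d] * wd X7 = wd X7 * wd [.d] := by
  rw [← wd_append, ← wd_append]
  exact eq_of_chkB (by decide +kernel)

theorem y7_comm : wd [.d] * wd Y7 = wd Y7 * wd [.d] := by
  rw [← wd_append, ← wd_append]
  exact eq_of_chkB (by decide +kernel)

variable {A : Subgroup Cfsg.Spor.He} {Γ : Subgroup (MulAut Cfsg.Spor.He)}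

/-- an element of order seven with few cosets -/
theorem mem_of_seven {G : Type*} [Group G] [Finite G] {A : Subgroup G} {x : G} (hx : x ^ 7 = 1)
    (h : A.relIndex (zpowers x) < 7) : x ∈ A := by
  have h1 : A.relIndex (zpowers x) ∣ Nat.card (zpowers x) := (A.subgroupOf (zpowers x)).index_dvd_card
  rw [Nat.card_zpowers] at h1
  have h2 : A.relIndex (zpowers x) ∣ 7 := h1.trans (orderOf_dvd_of_pow_eq_one hx)
  rcases (Nat.dvd_prime (by norm_num)).1 h2 with h3 | h3
  · exact (relIndex_eq_one.1 h3) (mem_zpowers x)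
  · omega

/-- `y⁻¹ x² y x²` is of type 2A -/
def GU : List Gen := [.a, .b, .c, .d, .c, .d, .b, .c, .d, .f, .e, .d, .c, .b]

theorem u_eq : wd GU * gn .a = (wd Y7)⁻¹ * wd X7 ^ 2 * wd Y7 * wd X7 ^ 2 * wd GU := by
  have h1 : (wd Y7)⁻¹ = wd (pw Y7 6) := by
    rw [wd_pw, inv_eq_iff_mul_eq_one, ← pow_succ', y7_pow]
  rw [h1, ← wd_pw, ← wd_one]
  simp only [← wd_append]
  exact eq_of_chkB (by decide +kernel)

theorem conj_injective : Function.Injective (MulAut.conj : Cfsg.Spor.He →* MulAut Cfsg.Spor.He) := by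
  rw [injective_iff_map_eq_one]
  intro z hz
  apply center_of hna
  intro x
  have h3 := congrArg (fun τ : MulAut Cfsg.Spor.He => τ x) hz
  simp only [MulAut.conj_apply, MulAut.one_apply] at h3
  rwa [mul_inv_eq_iff_eq_mul] at h3

theorem index_cent_d : (centralizer ({wd [.d]} : Set Cfsg.Spor.He)).index = 187425 := by
  have h1 := (centralizer ({wd [.d]} : Set Cfsg.Spor.He)).card_mul_index
  rw [card_he, Cfsg.Agent.H30.OZ.HeDat.centd] at h1
  omega

/-- the number of the involutions -/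
theorem card_le_icl (h : IF A Γ) :
    Nat.card (A ⊓ E : Subgroup Cfsg.Spor.He) ≤ (icl (MulAut.conj (wd [.d])) ∩ (Γ : Set (MulAut Cfsg.Spor.He))).ncard + 1 := by
  have h1 : MulAut.conj '' (((A ⊓ E : Subgroup Cfsg.Spor.He) : Set Cfsg.Spor.He) \ {1}) ⊆
      icl (MulAut.conj (wd [.d])) ∩ (Γ : Set (MulAut Cfsg.Spor.He)) := by
    rintro _ ⟨y, ⟨⟨hyA, hyE⟩, hy1⟩, rfl⟩
    refine ⟨?_, (h.conj y).2 hyA⟩
    rcases Cfsg.Agent.KFacts.He.Classes.two_classes_ad (E_sq hyE) hy1 with ⟨g, hg⟩ | ⟨g, hg⟩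
    · refine ⟨g, ?_⟩
      rw [← hg, map_mul, map_mul, map_inv]
      rfl
    · exfalso
      apply no_two_a h (g := g)
      rw [show g * gn .a * g⁻¹ = y from hg]
      exact hyA
  have h2 := Set.ncard_le_ncard h1 (Set.toFinite _)
  rw [Set.ncard_image_of_injective _ conj_injective, Set.ncard_sdiff_singleton_of_mem (A ⊓ E).one_mem] at h2
  have h3 : Nat.card (A ⊓ E : Subgroup Cfsg.Spor.He) = ((A ⊓ E : Subgroup Cfsg.Spor.He) : Set Cfsg.Spor.He).ncard := rfl
  rw [h3]
  omega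

theorem card_inf (A B : Subgroup Cfsg.Spor.He) : A.relIndex B * Nat.card (A ⊓ B : Subgroup Cfsg.Spor.He) = Nat.card B := by
  rw [mul_comm, Subgroup.relIndex, ← (A.subgroupOf B).card_mul_index]
  congr 1
  rw [← Subgroup.inf_subgroupOf_right A B]
  exact (Nat.card_congr (Subgroup.subgroupOfEquivOfLe inf_le_right).toEquiv).symm

theorem false_of_d (h : IF A Γ) (hd : wd [.d] ∈ A) : False := by
  have hσ : MulAut.conj (wd [.d]) ∈ Γ := (h.conj _).2 hd
  have hord : orderOf (wd [.d]) = 2 := Cfsg.Agent.H30.OZ.HeDat.o2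
  obtain ⟨ho, hc, h5, -, -⟩ := IF.E2' h hna hd hord
  rw [index_cent_d] at hc h5
  have hE1 : ∀ {B : Subgroup Cfsg.Spor.He}, (∀ b ∈ B, wd [.d] * b = b * wd [.d]) →
      A.relIndex B ≤ fx A (MulAut.conj (wd [.d])) := fun {B} hB =>
    (IF.E1 h hσ ho (B := B) (fun b hb => by
      rw [MulAut.conj_apply, mul_inv_eq_iff_eq_mul]
      exact hB b hb)).1
  have hsmall := h.small _ hσ ho
  obtain ⟨hfix, -⟩ := IF.fix_formula hna h hσ
  rw [hc] at hfix
  set f := fx A (MulAut.conj (wd [.d])) with hf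
  set i := (icl (MulAut.conj (wd [.d])) ∩ (Γ : Set (MulAut Cfsg.Spor.He))).ncard with hi
  rcases Nat.lt_or_ge f 7 with h7 | h7
  · -- elements of order seven
    have hpow : ∀ x : Cfsg.Spor.He, wd [.d] * x = x * wd [.d] → x ^ 7 = 1 → x ∈ A := by
      intro x hx hx7
      apply mem_of_seven hx7
      refine lt_of_le_of_lt (hE1 ?_) h7
      rintro _ ⟨k, rfl⟩
      exact ((show Commute (wd [.d]) x from hx).zpow_right k).eq
    have hX := hpow _ x7_comm x7_pow
    have hY := hpow _ y7_comm y7_pow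
    apply no_two_a h (g := wd GU)
    rw [u_eq, mul_inv_cancel_right]
    exact A.mul_mem (A.mul_mem (A.mul_mem (A.inv_mem hY) (A.pow_mem hX 2)) hY) (A.pow_mem hX 2)
  · have hr : A.relIndex E ≤ f := hE1 fun b hb => (mem_centralizer_singleton_iff.1 (E_le_cent hb)).symm
    have hf11 : f < 12 := by
      by_contra hcon
      push Not at hcon
      have : 12 ^ 5 ≤ f ^ 5 := Nat.pow_le_pow_left hcon 5
      omega
    obtain ⟨k, hk⟩ := E_pow
    have hdvd : A.relIndex E ∣ 2 ^ k := by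
      rw [← hk]
      exact (A.subgroupOf E).index_dvd_card
    have hr8 := pow_le hdvd (lt_of_le_of_lt hr hf11)
    have hmul := card_inf A E
    have h64 := card_E
    have hicl := card_le_icl h
    rw [← hi] at hicl
    -- `i f ^ 5 < 187425`
    have h6 : i * f ^ 5 < 187425 := by
      rcases Nat.eq_zero_or_pos i with h0 | h0
      · rw [h0]
        norm_num
      have hfp : 0 < f := by omega
      have h8 : f * (i * f ^ 5) < f * 187425 := by
        calc f * (i * f ^ 5) = f ^ 6 * i := by ring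
          _ < A.index * i := Nat.mul_lt_mul_of_pos_right hsmall h0
          _ = f * 187425 := hfix.symm
      exact lt_of_mul_lt_mul_left h8 (Nat.zero_le _)
    rcases Nat.lt_or_ge f 8 with h8 | h8
    · have hf7 : f = 7 := by omega
      rw [hf7] at h6 hr
      have hr4 : A.relIndex E ≤ 4 := by omega
      have h9 : 16 ≤ Nat.card (A ⊓ E : Subgroup Cfsg.Spor.He) := by
        by_contra hcon
        push Not at hcon
        have : A.relIndex E * Nat.card (A ⊓ E : Subgroup Cfsg.Spor.He) ≤ 4 * 15 := Nat.mul_le_mul hr4 (by omega)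
        omega
      omega
    · have hr4 : A.relIndex E ≤ 8 := by omega
      have h9 : 8 ≤ Nat.card (A ⊓ E : Subgroup Cfsg.Spor.He) := by
        by_contra hcon
        push Not at hcon
        have : A.relIndex E * Nat.card (A ⊓ E : Subgroup Cfsg.Spor.He) ≤ 8 * 7 := Nat.mul_le_mul hr4 (by omega)
        omega
      have h10 : 7 * 8 ^ 5 ≤ i * f ^ 5 := Nat.mul_le_mul (by omega) (Nat.pow_le_pow_left h8 5)
      omega

/-- **`|A|` even** -/
theorem killE_he : KillE Cfsg.Spor.He := by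
  rintro A Γ h ⟨t, htA, ht⟩
  have h1 : t * t = 1 := by rw [← pow_two, ← ht, pow_orderOf_eq_one]
  have h2 : t ≠ 1 := by
    rintro rfl
    rw [orderOf_one] at ht
    omega
  rcases Cfsg.Agent.KFacts.He.Classes.two_classes_ad h1 h2 with ⟨g, hg⟩ | ⟨g, hg⟩
  · refine false_of_d (h.map (MulAut.conj g⁻¹)) ((conj_mem_map g).2 ?_)
    rw [show g * wd [.d] * g⁻¹ = t from hg]
    exact htA
  · apply no_two_a h (g := g)
    rw [show g * gn .a * g⁻¹ = t from hg]
    exact htA

end Cfsg.Agent.H306.IFHe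
end

-- part: H306/IFHe/OddGrp
section
/-!
# S5719, `|A|` odd: tools for small groups `A` (helper306)

* `false_of_sylow` : `A` contains no `Γ`-invariant Sylow `r`-subgroup of `T` if the elements of order `r` are real;
* `false_of_cyc` : nor a `Γ`-invariant subgroup of order `r`;
* `exists_uniq` : the unique Sylow `p`-subgroup of `A`;
* `exists_cent` : `p ^ 2` divides the order of a centraliser in a group of order `p ^ 3`.
-/

set_option autoImplicit false

namespace Cfsg.Agent.H306.IFHe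

open Subgroup Cfsg.Agent.H209.Fxy Cfsg.Agent.H447.IFO

section

variable {T : Type*} [Group T]

/-- Sylow's theorem inside a subgroup containing `P` -/
theorem exists_conj_sylow [Finite T] {p : ℕ} [Fact p.Prime] {C : Subgroup T} (P Q : Sylow p T)
    (hP : (P : Subgroup T) ≤ C) (hQ : (Q : Subgroup T) ≤ C) : ∃ a ∈ C, ∀ x : T, a * x * a⁻¹ ∈ P ↔ x ∈ Q := by
  obtain ⟨a, ha⟩ := MulAction.exists_smul_eq C (Q.subtype hQ) (P.subtype hP)
  have h1 : a • Q = P := Sylow.subtype_injective ((Sylow.smul_subtype hQ a).symm.trans ha)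
  refine ⟨a, a.2, fun x => ?_⟩
  rw [← h1]
  have h3 : (a • Q : Sylow p T) = ((MulAut.conj (a : T)) • Q : Sylow p T) := rfl
  rw [h3]
  show (a : T) * x * (a : T)⁻¹ ∈ ((MulAut.conj (a : T) • Q : Sylow p T) : Subgroup T) ↔ x ∈ Q
  rw [Sylow.pointwise_smul_def, Subgroup.mem_pointwise_smul_iff_inv_smul_mem]
  have h4 : (MulAut.conj (a : T))⁻¹ • ((a : T) * x * (a : T)⁻¹) = x := by
    rw [← MulAut.conj_apply, inv_smul_eq_iff]
    rfl
  rw [h4]
  rfl

theorem mem_smul_sylow {p : ℕ} (P : Sylow p T) (g x : T) (hx : x ∈ P) :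
    g * x * g⁻¹ ∈ (MulAut.conj g • P : Sylow p T) := by
  show g * x * g⁻¹ ∈ ((MulAut.conj g • P : Sylow p T) : Subgroup T)
  rw [Sylow.pointwise_smul_def, Subgroup.mem_pointwise_smul_iff_inv_smul_mem]
  have h4 : (MulAut.conj g)⁻¹ • (g * x * g⁻¹) = x := by
    rw [← MulAut.conj_apply, inv_smul_eq_iff]
    rfl
  rw [h4]
  exact hx

/-- a subgroup of index `p` of a `p`-group is normal -/
theorem norm_of_index [Finite T] {p n : ℕ} (hp : p.Prime) {Q P : Subgroup T} (hQP : Q ≤ P)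
    (hP : Nat.card P = p ^ (n + 1)) (hQ : Nat.card Q = p ^ n) : ∀ x ∈ P, ∀ k ∈ Q, x * k * x⁻¹ ∈ Q := by
  have h1 : (Q.subgroupOf P).index = p := by
    have h2 := (Q.subgroupOf P).card_mul_index
    rw [Nat.card_congr (subgroupOfEquivOfLe hQP).toEquiv, hP, hQ, pow_succ] at h2
    exact Nat.eq_of_mul_eq_mul_left (pow_pos hp.pos n) h2
  have h3 : (Q.subgroupOf P).Normal := by
    apply normal_of_index_eq_minFac_card
    rw [h1, hP, hp.pow_minFac (Nat.succ_ne_zero n)]
  intro x hx k hk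
  exact h3.conj_mem ⟨k, hQP hk⟩ hk ⟨x, hx⟩

/-- the unique Sylow subgroup -/
theorem exists_uniq [Finite T] {p : ℕ} (hp : p.Prime) {A : Subgroup T} {a m : ℕ} (hA : Nat.card A = p ^ a * m)
    (hpm : ¬ p ∣ m) (hm : ∀ d, d ∣ m → d % p = 1 → d = 1) :
    ∃ Q : Subgroup T, Q ≤ A ∧ Nat.card Q = p ^ a ∧ ∀ x, x ∈ Q ↔ x ∈ A ∧ ∃ k, x ^ p ^ k = 1 := by
  have hpf : Fact p.Prime := ⟨hp⟩
  obtain ⟨P⟩ : Nonempty (Sylow p A) := inferInstance
  obtain ⟨b, hb⟩ := IsPGroup.iff_card.1 P.isPGroup'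
  have hidx := P.not_dvd_index
  have h1 := (P : Subgroup A).card_mul_index
  rw [hb, hA] at h1
  have hab : b = a := by
    rcases lt_trichotomy b a with h2 | h2 | h2
    · exfalso
      apply hidx
      obtain ⟨c, rfl⟩ := Nat.exists_eq_add_of_lt h2
      have h3 : (P : Subgroup A).index = p ^ (c + 1) * m := by
        apply Nat.eq_of_mul_eq_mul_left (pow_pos hp.pos b)
        rw [h1]
        ring
      rw [h3]
      exact (dvd_pow_self p (Nat.succ_ne_zero c)).mul_right m
    · exact h2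
    · exfalso
      apply hpm
      obtain ⟨c, rfl⟩ := Nat.exists_eq_add_of_lt h2
      have h3 : m = p ^ (c + 1) * (P : Subgroup A).index := by
        apply Nat.eq_of_mul_eq_mul_left (pow_pos hp.pos a)
        rw [← h1]
        ring
      rw [h3]
      exact (dvd_pow_self p (Nat.succ_ne_zero c)).mul_right _
  subst hab
  have hidm : (P : Subgroup A).index = m := Nat.eq_of_mul_eq_mul_left (pow_pos hp.pos b) h1
  have h2 : Nat.card (Sylow p A) = 1 := by
    apply hm
    · rw [← hidm]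
      exact P.card_dvd_index
    · have h3 := card_sylow_modEq_one p A
      have h4 : 1 % p = 1 := Nat.mod_eq_of_lt hp.one_lt
      rw [Nat.ModEq, h4] at h3
      exact h3
  have hsub : Subsingleton (Sylow p A) := (Nat.card_eq_one_iff_unique.1 h2).1
  refine ⟨(P : Subgroup A).map A.subtype, ?_, ?_, ?_⟩
  · rintro _ ⟨x, -, rfl⟩
    exact x.2
  · rw [card_map_of_injective A.subtype_injective, hb]
  · intro x
    constructor
    · rintro ⟨y, hy, rfl⟩
      refine ⟨y.2, ?_⟩
      obtain ⟨k, hk⟩ := P.isPGroup' ⟨y, hy⟩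
      refine ⟨k, ?_⟩
      have h3 := congrArg (fun z : P => ((z : A) : T)) hk
      exact h3
    · rintro ⟨hxA, k, hk⟩
      have h3 : IsPGroup p (zpowers (⟨x, hxA⟩ : A)) := by
        rw [IsPGroup.iff_card]
        obtain ⟨j, -, hj⟩ := (Nat.dvd_prime_pow hp).1 (orderOf_dvd_of_pow_eq_one hk)
        refine ⟨j, ?_⟩
        rw [Nat.card_zpowers, Subgroup.orderOf_mk, hj]
      obtain ⟨Q, hQ⟩ := h3.exists_le_sylow
      rw [Subsingleton.elim Q P] at hQ
      exact ⟨⟨x, hxA⟩, hQ (mem_zpowers _), rfl⟩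

/-- a centraliser in a group of order `p ^ 3` -/
theorem exists_cent [Finite T] {p : ℕ} [hp : Fact p.Prime] (P : Sylow p T) (hP : Nat.card P = p ^ 3) {k : T}
    (hk : k ∈ P) : ∃ B : Subgroup T, B ≤ centralizer ({k} : Set T) ∧ p ^ 2 ∣ Nat.card B := by
  have hpg : IsPGroup p P := P.isPGroup'
  have hnt : Nontrivial P := by
    rw [← Finite.one_lt_card_iff_nontrivial, hP]
    exact Nat.one_lt_pow (by norm_num) hp.out.one_lt
  have h1 : Nontrivial (Subgroup.center P) := hpg.center_nontrivial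
  obtain ⟨i, hi⟩ := IsPGroup.iff_card.1 (hpg.to_subgroup (Subgroup.center P))
  have hi0 : i ≠ 0 := by
    rintro rfl
    rw [pow_zero] at hi
    exact absurd hi (Finite.one_lt_card_iff_nontrivial.2 h1).ne'
  by_cases hc : (⟨k, hk⟩ : P) ∈ Subgroup.center P
  · refine ⟨P, ?_, by rw [hP]; exact pow_dvd_pow p (by norm_num)⟩
    intro x hx
    rw [mem_centralizer_singleton_iff]
    exact congrArg Subtype.val (Subgroup.mem_center_iff.1 hc ⟨x, hx⟩)
  · set B : Subgroup P := centralizer ({(⟨k, hk⟩ : P)} : Set P) with hB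
    have hlt : Subgroup.center P < B := by
      refine lt_of_le_of_ne (center_le_centralizer _) ?_
      intro h2
      apply hc
      rw [h2, hB, mem_centralizer_singleton_iff]
    obtain ⟨j, hj⟩ := IsPGroup.iff_card.1 (hpg.to_subgroup B)
    have hij : i < j := by
      by_contra hcon
      push Not at hcon
      have h3 : Nat.card B ≤ Nat.card (Subgroup.center P) := by
        rw [hi, hj]
        exact Nat.pow_le_pow_right hp.out.pos hcon
      exact hlt.ne (eq_of_le_of_card_ge hlt.le h3)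
    refine ⟨B.map (P : Subgroup T).subtype, ?_, ?_⟩
    · rintro _ ⟨x, hx, rfl⟩
      rw [mem_centralizer_singleton_iff]
      exact congrArg Subtype.val (mem_centralizer_singleton_iff.1 hx)
    · rw [card_map_of_injective (Subtype.val_injective : Function.Injective (P : Subgroup T).subtype), hj]
      exact pow_dvd_pow p (by omega)

end

variable {T : Type*} [Group T] [Finite T] [IsSimpleGroup T] {A : Subgroup T} {Γ : Subgroup (MulAut T)}

theorem false_of_cyc (h : IF A Γ) (hodd : Odd (Nat.card A)) {r : ℕ} (hr : r.Prime) (hr2 : Odd r)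
    (hreal : ∀ x : T, orderOf x = r → ∃ g, g * x * g⁻¹ = x⁻¹) {R : Subgroup T} (hRA : R ≤ A)
    (hinv : ∀ σ ∈ Γ, ∀ x ∈ R, σ x ∈ R) (hR : Nat.card R = r) : False := by
  have hrf : Fact r.Prime := ⟨hr⟩
  obtain ⟨k, hk⟩ := exists_prime_orderOf_dvd_card' r (show r ∣ Nat.card R by rw [hR])
  have hk' : orderOf (k : T) = r := by rw [orderOf_coe, hk]
  have hRk : R = zpowers (k : T) := by
    refine (eq_of_le_of_card_ge (zpowers_le.2 k.2) ?_).symm
    rw [hR, Nat.card_zpowers, hk']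
  have hne : R ≠ ⊥ := by
    intro h1
    rw [h1, card_bot] at hR
    exact hr.one_lt.ne hR
  obtain ⟨g, hg⟩ := hreal _ hk'
  have h1 : Odd (orderOf g) := by
    refine odd_orderOf h hodd hRA hne hinv ?_
    intro x hx
    rw [hRk] at hx ⊢
    obtain ⟨m, rfl⟩ := hx
    refine ⟨-m, ?_⟩
    have h2 : (g * (k : T) * g⁻¹) ^ m = g * (k : T) ^ m * g⁻¹ := conj_zpow
    rw [hg, inv_zpow] at h2
    show (k : T) ^ (-m) = g * (k : T) ^ m * g⁻¹
    rw [← h2, zpow_neg]
  have h2 : Even (orderOf g) := even_orderOf_of_inv (x := g) (k := (k : T)) (fun h3 => by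
    rw [h3, orderOf_one] at hk'
    exact hr.one_lt.ne hk') hr2 (by rw [← hk', pow_orderOf_eq_one]) hg
  exact (Nat.not_even_iff_odd.2 h1) h2

theorem false_of_sylow (h : IF A Γ) (hodd : Odd (Nat.card A)) {r : ℕ} (hr : r.Prime) (hr2 : Odd r)
    (hreal : ∀ x : T, orderOf x = r → ∃ g, g * x * g⁻¹ = x⁻¹) {R : Subgroup T} (hRA : R ≤ A)
    (hinv : ∀ σ ∈ Γ, ∀ x ∈ R, σ x ∈ R) {a m : ℕ} (ha : a ≠ 0) (hR : Nat.card R = r ^ a)
    (hT : Nat.card T = r ^ a * m) (hm : ¬ r ∣ m) : False := by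
  have hrf : Fact r.Prime := ⟨hr⟩
  have hpg : IsPGroup r R := IsPGroup.of_card hR
  have hidx : R.index = m := by
    have h1 := R.card_mul_index
    rw [hR, hT] at h1
    exact Nat.eq_of_mul_eq_mul_left (pow_pos hr.pos a) h1
  let P : Sylow r T := hpg.toSylow (by rw [hidx]; exact hm)
  have hPR : (P : Subgroup T) = R := rfl
  have hmem : ∀ x, x ∈ P ↔ x ∈ R := fun x => Iff.rfl
  have hnt : Nontrivial R := by
    rw [← Finite.one_lt_card_iff_nontrivial, hR]
    exact Nat.one_lt_pow ha hr.one_lt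
  have hne : R ≠ ⊥ := (nontrivial_iff_ne_bot R).1 hnt
  have h1 : Nontrivial (Subgroup.center R) := hpg.center_nontrivial
  have h2 : IsPGroup r (Subgroup.center R) := hpg.to_subgroup _
  obtain ⟨n, hn⟩ := (IsPGroup.iff_card (p := r)).1 h2
  have h3 : r ∣ Nat.card (Subgroup.center R) := by
    rw [hn]
    rcases n with _ | n
    · rw [pow_zero] at hn
      exact absurd hn (Finite.one_lt_card_iff_nontrivial.2 h1).ne'
    · exact dvd_pow_self r (Nat.succ_ne_zero n)
  obtain ⟨z, hz⟩ := exists_prime_orderOf_dvd_card' r h3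
  set z0 : T := ((z : R) : T) with hz0
  have hzo : orderOf z0 = r := by rw [hz0, Subgroup.orderOf_coe, Subgroup.orderOf_coe, hz]
  have hzc : ∀ x ∈ R, x * z0 = z0 * x := fun x hx =>
    congrArg Subtype.val (Subgroup.mem_center_iff.1 z.2 ⟨x, hx⟩)
  obtain ⟨g, hg⟩ := hreal _ hzo
  have hPC : (P : Subgroup T) ≤ centralizer ({z0} : Set T) := fun x hx =>
    mem_centralizer_singleton_iff.2 (hzc x hx)
  have hQC : ((MulAut.conj g • P : Sylow r T) : Subgroup T) ≤ centralizer ({z0} : Set T) := by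
    intro x hx
    rw [Sylow.pointwise_smul_def, Subgroup.mem_pointwise_smul_iff_inv_smul_mem] at hx
    have h4 : (MulAut.conj g)⁻¹ • x = g⁻¹ * x * g := by
      rw [← map_inv, MulAut.smul_def, MulAut.conj_apply, inv_inv]
    rw [h4] at hx
    have h5 := hzc _ hx
    rw [mem_centralizer_singleton_iff]
    have h6 : x * (g * z0 * g⁻¹) = (g * z0 * g⁻¹) * x := by
      calc x * (g * z0 * g⁻¹) = g * ((g⁻¹ * x * g) * z0) * g⁻¹ := by group
        _ = g * (z0 * (g⁻¹ * x * g)) * g⁻¹ := by rw [h5]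
        _ = (g * z0 * g⁻¹) * x := by group
    rw [hg] at h6
    exact (Commute.inv_right_iff.1 (show Commute x z0⁻¹ from h6)).eq
  obtain ⟨c, hc, hcx⟩ := exists_conj_sylow P (MulAut.conj g • P : Sylow r T) hPC hQC
  rw [mem_centralizer_singleton_iff] at hc
  have h7 : Odd (orderOf (c * g)) := by
    refine odd_orderOf h hodd hRA hne hinv ?_
    intro x hx
    have h8 := (hcx (g * x * g⁻¹)).2 (mem_smul_sylow P g x hx)
    have h9 : c * (g * x * g⁻¹) * c⁻¹ = c * g * x * (c * g)⁻¹ := by group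
    rw [h9] at h8
    exact h8
  have h8 : Even (orderOf (c * g)) := even_orderOf_of_inv (x := c * g) (k := z0) (fun h3 => by
    rw [h3, orderOf_one] at hzo
    exact hr.one_lt.ne hzo) hr2 (by rw [← hzo, pow_orderOf_eq_one]) (by
    have h9 : c * z0⁻¹ * c⁻¹ = z0⁻¹ := by
      have h10 : c * z0 * c⁻¹ = z0 := by rw [hc, mul_inv_cancel_right]
      calc c * z0⁻¹ * c⁻¹ = (c * z0 * c⁻¹)⁻¹ := by group
        _ = z0⁻¹ := by rw [h10]
    calc c * g * z0 * (c * g)⁻¹ = c * (g * z0 * g⁻¹) * c⁻¹ := by group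
      _ = z0⁻¹ := by rw [hg, h9])
  exact (Nat.not_even_iff_odd.2 h7) h8

end Cfsg.Agent.H306.IFHe
end

-- part: H306/IFHe/Real
section
/-!
# The Held group: the elements of orders 3, 5 and 17 are conjugate to their inverses (helper306)
-/

set_option autoImplicit false
set_option maxRecDepth 100000

namespace Cfsg.Agent.H306.IFHe

open Subgroup Cfsg
open Cfsg.Spor.He (Gen)
open Cfsg.Agent.SporadicB.HePerm (act wd phi phi_wd_apply)
open Cfsg.Agent.FixBN.HeStab Cfsg.Agent.KFacts.He.Lv Cfsg.Agent.CpAutHe.Cnt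
open Cfsg.Agent.H587.NR Cfsg.Agent.H587.NR.He

/-- a nontrivial power is conjugate to its inverse -/
def RR {G : Type*} [Group G] (x : G) : Prop := ∃ j : ℕ, x ^ j ≠ 1 ∧ ∃ g : G, g * x ^ j * g⁻¹ = (x ^ j)⁻¹

section

variable {G : Type*} [Group G]

theorem RR.of_pow {x : G} (k : ℕ) (h : RR (x ^ k)) : RR x := by
  obtain ⟨j, hj, g, hg⟩ := h
  rw [← pow_mul] at hj hg
  exact ⟨k * j, hj, g, hg⟩

theorem RR.of_conj {x : G} (u : G) (h : RR (u * x * u⁻¹)) : RR x := by
  obtain ⟨j, hj, g, hg⟩ := h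
  have e : (u * x * u⁻¹) ^ j = u * x ^ j * u⁻¹ := conj_pow
  rw [e] at hj hg
  refine ⟨j, fun h1 => hj (by rw [h1]; group), u⁻¹ * g * u, ?_⟩
  calc u⁻¹ * g * u * x ^ j * (u⁻¹ * g * u)⁻¹ = u⁻¹ * (g * (u * x ^ j * u⁻¹) * g⁻¹) * u := by group
    _ = u⁻¹ * (u * x ^ j * u⁻¹)⁻¹ * u := by rw [hg]
    _ = (x ^ j)⁻¹ := by group

theorem RR.real {p : ℕ} (hp : p.Prime) {x : G} (hx : orderOf x = p) (h : RR x) : ∃ g : G, g * x * g⁻¹ = x⁻¹ := by
  obtain ⟨j, hj, g, hg⟩ := h
  have h1 : j.Coprime (orderOf x) := by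
    rw [hx, Nat.coprime_comm, hp.coprime_iff_not_dvd]
    intro h2
    apply hj
    rw [← hx] at h2
    exact orderOf_dvd_iff_pow_eq_one.1 h2
  obtain ⟨m, hm⟩ := exists_pow_eq_self_of_coprime h1
  refine ⟨g, ?_⟩
  have h3 : g * (x ^ j) ^ m * g⁻¹ = (g * x ^ j * g⁻¹) ^ m := conj_pow.symm
  rw [hm, hg, inv_pow, hm] at h3
  exact h3

theorem conj_of_prime [Finite G] {p : ℕ} [hp : Fact p.Prime] (h2 : ¬ p ^ 2 ∣ Nat.card G) {x y : G} (hx : orderOf x = p)
    (hy : orderOf y = p) : ∃ u : G, u * x * u⁻¹ ∈ zpowers y := by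
  have key : ∀ z : G, orderOf z = p → ∃ P : Sylow p G, (P : Subgroup G) = zpowers z := by
    intro z hz
    have h1 : IsPGroup p (zpowers z) := IsPGroup.iff_card.2 ⟨1, by rw [Nat.card_zpowers, hz, pow_one]⟩
    obtain ⟨P, hP⟩ := h1.exists_le_sylow
    refine ⟨P, (eq_of_le_of_card_ge hP ?_).symm⟩
    obtain ⟨n, hn⟩ := IsPGroup.iff_card.1 P.isPGroup'
    rw [Nat.card_zpowers, hz, hn]
    have hn2 : n < 2 := by
      by_contra hcon
      push Not at hcon
      apply h2
      refine (pow_dvd_pow p hcon).trans ?_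
      rw [← hn]
      exact card_subgroup_dvd_card _
    calc p ^ n ≤ p ^ 1 := Nat.pow_le_pow_right hp.out.pos (by omega)
      _ = p := pow_one p
  obtain ⟨P, hP⟩ := key x hx
  obtain ⟨Q, hQ⟩ := key y hy
  obtain ⟨u, hu⟩ := MulAction.exists_smul_eq G P Q
  refine ⟨u, ?_⟩
  rw [← hQ, ← hu, Sylow.coe_subgroup_smul, hP]
  exact ⟨x, mem_zpowers x, rfl⟩

end

theorem rr_of {x t : List Gen} (h : chkB (t ++ x) (x.reverse ++ t) = true) (hne : chkB x [] = false) : RR (wd x) := by
  have h1 := eq_of_chkB h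
  rw [wd_append, wd_append, wd_reverse] at h1
  refine ⟨1, ?_, wd t, ?_⟩
  · rw [pow_one, ← wd_nil]
    exact ne_of_chkB hne
  · rw [pow_one, h1, mul_inv_cancel_right]

def A3 : List Gen := [.c, .f, .d, .g, .d, .c, .e, .d, .c, .g, .b, .e, .d, .g, .e, .c, .d, .c, .g, .d, .e, .b, .g, .c, .d, .e, .c, .d, .g, .d, .c, .d]

def B3 : List Gen := [.b, .e, .d, .g, .e, .c, .d, .c, .g, .d, .e, .b]

def W3 : List Gen := [.d, .f]

def W17 : List Gen := [.f, .b, .d, .c]

theorem real_three {x : Cfsg.Spor.He} (hx : orderOf x = 3) : ∃ g, g * x * g⁻¹ = x⁻¹ := by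
  refine RR.real Nat.prime_three hx ?_
  have h3 : Fact (Nat.Prime 3) := ⟨by norm_num⟩
  by_contra hng
  have r1 : wd B3 * wd A3 = wd W3 * (wd A3 * wd B3) := by
    have h1 := eq_of_chkB (show chkB (B3 ++ A3) (W3 ++ (A3 ++ B3)) = true by decide +kernel)
    rwa [wd_append, wd_append, wd_append] at h1
  have r2 : wd A3 * wd W3 = wd W3 * wd A3 := by
    have h1 := eq_of_chkB (show chkB (A3 ++ W3) (W3 ++ A3) = true by decide +kernel)
    rwa [wd_append, wd_append] at h1
  have r3 : wd B3 * wd W3 = wd W3 * wd B3 := by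
    have h1 := eq_of_chkB (show chkB (B3 ++ W3) (W3 ++ B3) = true by decide +kernel)
    rwa [wd_append, wd_append] at h1
  have r4 : wd A3 ^ 3 = 1 := by
    have h1 := eq_of_chkB (show chkB (pw A3 3) [] = true by decide +kernel)
    rwa [wd_pw, wd_nil] at h1
  have r5 : wd B3 ^ 3 = 1 := by
    have h1 := eq_of_chkB (show chkB (pw B3 3) [] = true by decide +kernel)
    rwa [wd_pw, wd_nil] at h1
  have r6 : wd W3 ^ 3 = 1 := by
    have h1 := eq_of_chkB (show chkB (pw W3 3) [] = true by decide +kernel)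
    rwa [wd_pw, wd_nil] at h1
  have r7 : wd W3 ≠ 1 := by
    rw [← wd_nil]
    exact ne_of_chkB (by decide +kernel)
  have key : ∀ j : ℕ, wd A3 * wd B3 ^ j = wd (A3 ++ pw B3 j) := by
    intro j
    rw [wd_append, wd_pw]
  rcases exists_extra (p := 3) r1 r2 r3 r4 r5 r6 r7 (by rw [card_he]; norm_num) (S := fun x => ¬ RR x)
    (fun x k h h' => h (h'.of_pow k)) (fun x u h h' => h (h'.of_conj u)) hx hng with h | h | ⟨j, hj, h⟩
  · exact h (rr_of (t := [.d]) (by decide +kernel) (by decide +kernel))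
  · exact h (rr_of (t := [.a]) (by decide +kernel) (by decide +kernel))
  · rw [key] at h
    interval_cases j
    · exact h (rr_of (t := [.e, .d, .c, .b, .a, .b, .c, .d, .e]) (by decide +kernel) (by decide +kernel))
    · exact h (rr_of (t := [.a]) (by decide +kernel) (by decide +kernel))
    · exact h (rr_of (t := [.e, .d, .g, .a, .b, .c, .d, .c, .b, .a, .b, .c, .d, .c, .b, .a, .g, .d, .e])
        (by decide +kernel) (by decide +kernel))

theorem real_five {x : Cfsg.Spor.He} (hx : orderOf x = 5) : ∃ g, g * x * g⁻¹ = x⁻¹ := by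
  refine RR.real Nat.prime_five hx ?_
  have h5 : Fact (Nat.Prime 5) := ⟨by norm_num⟩
  by_contra hng
  have r1 : wd B5 * wd A5 = wd A5 * wd B5 := by
    have h1 := eq_of_chkB (show chkB (B5 ++ A5) (A5 ++ B5) = true by decide +kernel)
    rwa [wd_append, wd_append] at h1
  have r4 : wd A5 ^ 5 = 1 := by
    have h1 := eq_of_chkB (show chkB (pw A5 5) [] = true by decide +kernel)
    rwa [wd_pw, wd_nil] at h1
  have r5 : wd B5 ^ 5 = 1 := by
    have h1 := eq_of_chkB (show chkB (pw B5 5) [] = true by decide +kernel)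
    rwa [wd_pw, wd_nil] at h1
  have r6 : wd A5 ≠ 1 := by
    rw [← wd_nil]
    exact ne_of_chkB (by decide +kernel)
  have r7 : ∀ j < 5, wd B5 ≠ wd A5 ^ j := by
    intro j hj
    rw [← wd_pw]
    apply ne_of_chkB
    interval_cases j <;> decide +kernel
  have key : ∀ j : ℕ, wd A5 * wd B5 ^ j = wd (A5 ++ pw B5 j) := by
    intro j
    rw [wd_append, wd_pw]
  have hB : (5 : ℕ) ≠ 0 := by norm_num
  rcases exists_abel (p := 5) r1 r4 r5 r6 r7 (by rw [card_he]; norm_num) (S := fun x => ¬ RR x)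
    (fun x k h h' => h (h'.of_pow k)) (fun x u h h' => h (h'.of_conj u)) hx hng with h | ⟨j, hj, h⟩
  · exact h (rr_of (t := [.e, .d, .g, .f, .b, .c, .d, .c, .b, .f, .g, .d, .e]) (by decide +kernel) (by decide +kernel))
  · rw [key] at h
    interval_cases j
    · exact h (rr_of (t := [.c]) (by decide +kernel) (by decide +kernel))
    · exact h (rr_of (t := [.e, .d, .g, .f, .b, .c, .d, .c, .b, .f, .g, .d, .e]) (by decide +kernel) (by decide +kernel))
    · exact h (rr_of (t := [.e, .d, .g, .f, .b, .c, .d, .c, .b, .f, .g, .d, .e]) (by decide +kernel) (by decide +kernel))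
    · exact h (rr_of (t := [.e, .d, .g, .f, .b, .c, .d, .c, .b, .f, .g, .d, .e]) (by decide +kernel) (by decide +kernel))
    · exact h (rr_of (t := [.g, .f, .b, .c, .d, .c, .b, .f, .g]) (by decide +kernel) (by decide +kernel))

theorem real_seventeen {x : Cfsg.Spor.He} (hx : orderOf x = 17) : ∃ g, g * x * g⁻¹ = x⁻¹ := by
  have h17 : Fact (Nat.Prime 17) := ⟨by norm_num⟩
  have hw : orderOf (wd W17) = 17 := by
    refine orderOf_eq_prime ?_ ?_
    · have h1 := eq_of_chkB (show chkB (pw W17 17) [] = true by decide +kernel)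
      rwa [wd_pw, wd_nil] at h1
    · rw [← wd_nil]
      exact ne_of_chkB (by decide +kernel)
  obtain ⟨g, hg⟩ := (rr_of (x := W17)
    (t := [.e, .c, .d, .c, .d, .a, .b, .c, .d, .c, .d, .c, .d, .c, .b, .a, .d, .c, .d, .c, .e])
    (by decide +kernel) (by decide +kernel)).real (by norm_num) hw
  obtain ⟨u, hu⟩ := conj_of_prime (p := 17) (by rw [card_he]; norm_num) hx hw
  obtain ⟨m, hm⟩ := mem_zpowers_iff.1 hu
  refine ⟨u⁻¹ * g * u, ?_⟩
  have h1 : g * (wd W17) ^ m * g⁻¹ = ((wd W17) ^ m)⁻¹ := by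
    have h2 : (g * wd W17 * g⁻¹) ^ m = g * (wd W17) ^ m * g⁻¹ := conj_zpow
    rw [← h2, hg, inv_zpow]
  rw [hm] at h1
  calc u⁻¹ * g * u * x * (u⁻¹ * g * u)⁻¹ = u⁻¹ * (g * (u * x * u⁻¹) * g⁻¹) * u := by group
    _ = u⁻¹ * (u * x * u⁻¹)⁻¹ * u := by rw [h1]
    _ = x⁻¹ := by group

end Cfsg.Agent.H306.IFHe
end

-- part: H306/IFHe/OddSmall
section
/-!
# S5719, row He: no `A` of odd order less than 240 (helper306)
-/

set_option autoImplicit false

namespace Cfsg.Agent.H306.IFHe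

open Subgroup Cfsg Cfsg.Agent.H209.Fxy Cfsg.Agent.H447.IFO
open Cfsg.Agent.FixBN.HeStab

theorem simple_he' : IsSimpleGroup Cfsg.Spor.He := Cfsg.Agent.S1695.result.1

variable {A : Subgroup Cfsg.Spor.He} {Γ : Subgroup (MulAut Cfsg.Spor.He)}

/-- the elements normalising a `Γ`-invariant subgroup are in `A` -/
theorem nrm (h : IF A Γ) {R : Subgroup Cfsg.Spor.He} (hRA : R ≤ A) (hR : R ≠ ⊥) (hinv : ∀ σ ∈ Γ, ∀ x ∈ R, σ x ∈ R)
    {x : Cfsg.Spor.He} (hx : ∀ k ∈ R, x * k * x⁻¹ ∈ R) : x ∈ A := by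
  have := simple_he'
  exact Cfsg.Agent.H680.Fxy.IF.norm h hRA hinv hR hx

theorem sylow_card {p n m : ℕ} (hp : p.Prime) (hc : 4030387200 = p ^ n * m) (hm : ¬ p ∣ m)
    (P : Sylow p Cfsg.Spor.He) : Nat.card P = p ^ n := by
  have hpf : Fact p.Prime := ⟨hp⟩
  obtain ⟨b, hb⟩ := IsPGroup.iff_card.1 P.isPGroup'
  have hidx := P.not_dvd_index
  have h1 := (P : Subgroup Cfsg.Spor.He).card_mul_index
  rw [hb, card_he, hc] at h1
  have hab : b = n := by
    rcases lt_trichotomy b n with h2 | h2 | h2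
    · exfalso
      apply hidx
      obtain ⟨c, rfl⟩ := Nat.exists_eq_add_of_lt h2
      have h3 : (P : Subgroup Cfsg.Spor.He).index = p ^ (c + 1) * m := by
        apply Nat.eq_of_mul_eq_mul_left (pow_pos hp.pos b)
        rw [h1]
        ring
      rw [h3]
      exact (dvd_pow_self p (Nat.succ_ne_zero c)).mul_right m
    · exact h2
    · exfalso
      apply hm
      obtain ⟨c, rfl⟩ := Nat.exists_eq_add_of_lt h2
      have h3 : m = p ^ (c + 1) * (P : Subgroup Cfsg.Spor.He).index := by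
        apply Nat.eq_of_mul_eq_mul_left (pow_pos hp.pos n)
        rw [← h1]
        ring
      rw [h3]
      exact (dvd_pow_self p (Nat.succ_ne_zero c)).mul_right _
  rw [hb, hab]

/-- the order of an `r`-subgroup -/
theorem card_of_pow {r n m : ℕ} (hr : r.Prime) (hc : 4030387200 = r ^ n * m) (hm : ¬ r ∣ m) {R : Subgroup Cfsg.Spor.He}
    (hR : R ≠ ⊥) (hpow : ∀ x ∈ R, x ^ r = 1) :
    ∃ j, 1 ≤ j ∧ j ≤ n ∧ Nat.card R = r ^ j ∧ ∃ P : Sylow r Cfsg.Spor.He, R ≤ P ∧ Nat.card P = r ^ n := by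
  have hrf : Fact r.Prime := ⟨hr⟩
  have h1 : IsPGroup r R := fun x => ⟨1, by
    apply Subtype.ext
    rw [pow_one, Subgroup.coe_pow, hpow x x.2]
    rfl⟩
  obtain ⟨j, hj⟩ := IsPGroup.iff_card.1 h1
  obtain ⟨P, hP⟩ := h1.exists_le_sylow
  have hcP := sylow_card hr hc hm P
  refine ⟨j, ?_, ?_, hj, P, hP, hcP⟩
  · rcases Nat.eq_zero_or_pos j with h2 | h2
    · exfalso
      apply hR
      rw [← Subgroup.card_eq_one, hj, h2, pow_zero]
    · exact h2
  · have h2 := card_dvd_of_le hP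
    rw [hj, hcP] at h2
    exact (Nat.pow_dvd_pow_iff_le_right hr.one_lt).1 h2

theorem card_A_dvd (A : Subgroup Cfsg.Spor.He) : Nat.card A ∣ 4030387200 := by
  rw [← card_he]
  exact card_subgroup_dvd_card A

/-- a `Γ`-invariant subgroup of order `7` or `49` -/
theorem false_of_seven (h : IF A Γ) (hlt : Nat.card A < 240) {R : Subgroup Cfsg.Spor.He} (hRA : R ≤ A)
    (hinv : ∀ σ ∈ Γ, ∀ x ∈ R, σ x ∈ R) (hR : Nat.card R = 7 ^ 2) : False := by
  have h7 : Fact (Nat.Prime 7) := ⟨by norm_num⟩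
  have hne : R ≠ ⊥ := by
    rintro rfl
    rw [card_bot] at hR
    norm_num at hR
  obtain ⟨P, hP⟩ := (IsPGroup.of_card hR).exists_le_sylow
  have hcP : Nat.card P = 7 ^ 3 := sylow_card (by norm_num) (m := 11750400) (by norm_num) (by norm_num) P
  have h1 : (P : Subgroup Cfsg.Spor.He) ≤ A := fun x hx =>
    nrm h hRA hne hinv (norm_of_index (by norm_num) hP hcP hR x hx)
  have h2 : Nat.card (P : Subgroup Cfsg.Spor.He) ≤ Nat.card A := card_le_of_le h1
  have h3 : Nat.card (P : Subgroup Cfsg.Spor.He) = 343 := by rw [hcP]; norm_num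
  omega

theorem dvd_of_seven (h : IF A Γ) {R : Subgroup Cfsg.Spor.He} (hRA : R ≤ A)
    (hinv : ∀ σ ∈ Γ, ∀ x ∈ R, σ x ∈ R) (hR : Nat.card R = 7) : 49 ∣ Nat.card A := by
  have h7 : Fact (Nat.Prime 7) := ⟨by norm_num⟩
  have hne : R ≠ ⊥ := by
    rintro rfl
    rw [card_bot] at hR
    norm_num at hR
  obtain ⟨P, hP⟩ := (IsPGroup.of_card (n := 1) (by rw [hR, pow_one])).exists_le_sylow
  have hcP : Nat.card P = 7 ^ 3 := sylow_card (by norm_num) (m := 11750400) (by norm_num) (by norm_num) P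
  obtain ⟨k, hk⟩ := exists_prime_orderOf_dvd_card' 7 (show 7 ∣ Nat.card R by rw [hR])
  have hk' : orderOf (k : Cfsg.Spor.He) = 7 := by rw [orderOf_coe, hk]
  have hRk : R = zpowers (k : Cfsg.Spor.He) := by
    refine (eq_of_le_of_card_ge (zpowers_le.2 k.2) ?_).symm
    rw [hR, Nat.card_zpowers, hk']
  obtain ⟨B, hB, hd⟩ := exists_cent P hcP (hP k.2)
  have h1 : B ≤ A := by
    intro x hx
    refine nrm h hRA hne hinv ?_
    intro y hy
    rw [hRk] at hy ⊢
    obtain ⟨m, rfl⟩ := hy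
    have h2 : Commute x (k : Cfsg.Spor.He) := mem_centralizer_singleton_iff.1 (hB hx)
    show x * (k : Cfsg.Spor.He) ^ m * x⁻¹ ∈ _
    rw [(h2.zpow_right m).eq, mul_inv_cancel_right]
    exact zpow_mem (mem_zpowers _) m
  have h2 : (7 : ℕ) ^ 2 ∣ Nat.card A := hd.trans (card_dvd_of_le h1)
  norm_num only [] at h2
  exact h2

/-- `Γ`-invariance of the unique Sylow subgroup -/
theorem inv_of_uniq (h : IF A Γ) {p : ℕ} {Q : Subgroup Cfsg.Spor.He}
    (hQ : ∀ x, x ∈ Q ↔ x ∈ A ∧ ∃ k, x ^ p ^ k = 1) : ∀ σ ∈ Γ, ∀ x ∈ Q, σ x ∈ Q := by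
  intro σ hσ x hx
  rw [hQ] at hx ⊢
  obtain ⟨hxA, k, hk⟩ := hx
  exact ⟨(h.inv σ hσ x).2 hxA, k, by rw [← map_pow, hk, map_one]⟩

theorem false_of_small (h : IF A Γ) (hodd : Odd (Nat.card A)) (hlt : Nat.card A < 240) : False := by
  have hs := simple_he'
  obtain ⟨r, R, hr, hr2, hRA, hR, hpow, -, hinv⟩ := exists_elemAb h hodd
  have hdA := card_A_dvd A
  have hrf : Fact r.Prime := ⟨hr⟩
  have hrd : r ∣ 4030387200 := by
    obtain ⟨x, hx⟩ := Subgroup.ne_bot_iff_exists_ne_one.1 hR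
    have h1 : orderOf x = r := orderOf_eq_prime (Subtype.ext (hpow x x.2)) hx
    have h2 : r ∣ Nat.card R := by rw [← h1]; exact _root_.orderOf_dvd_natCard x
    exact (h2.trans (card_dvd_of_le hRA)).trans hdA
  have hr' : r = 3 ∨ r = 5 ∨ r = 7 ∨ r = 17 := by
    have h1 : r ∣ 2 ^ 10 * (3 ^ 3 * (5 ^ 2 * (7 ^ 3 * 17))) := by
      norm_num
      exact hrd
    rcases hr.dvd_mul.1 h1 with h2 | h2
    · exact absurd ((Nat.prime_dvd_prime_iff_eq hr Nat.prime_two).1 (hr.dvd_of_dvd_pow h2)) hr2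
    rcases hr.dvd_mul.1 h2 with h3 | h3
    · exact Or.inl ((Nat.prime_dvd_prime_iff_eq hr Nat.prime_three).1 (hr.dvd_of_dvd_pow h3))
    rcases hr.dvd_mul.1 h3 with h4 | h4
    · exact Or.inr (Or.inl ((Nat.prime_dvd_prime_iff_eq hr Nat.prime_five).1 (hr.dvd_of_dvd_pow h4)))
    rcases hr.dvd_mul.1 h4 with h5 | h5
    · exact Or.inr (Or.inr (Or.inl ((Nat.prime_dvd_prime_iff_eq hr (by norm_num)).1 (hr.dvd_of_dvd_pow h5))))
    · exact Or.inr (Or.inr (Or.inr ((Nat.prime_dvd_prime_iff_eq hr (by norm_num)).1 h5)))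
  rcases hr' with rfl | rfl | rfl | rfl
  · -- r = 3
    obtain ⟨j, hj1, hj3, hcR, P, hRP, hcP⟩ := card_of_pow (n := 3) (m := 149273600) hr (by norm_num) (by norm_num) hR hpow
    rcases Nat.eq_or_lt_of_le hj1 with h1 | h1
    · exact false_of_cyc h hodd hr (by decide) (fun x hx => real_three hx) hRA hinv (by rw [hcR, ← h1, pow_one])
    have hPA : (P : Subgroup Cfsg.Spor.He) ≤ A := by
      rcases Nat.eq_or_lt_of_le hj3 with h2 | h2
      · have h3 : R = P := eq_of_le_of_card_ge hRP (by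
          rw [hcR, h2]
          exact hcP.le)
        rw [← h3]
        exact hRA
      · have h3 : j = 2 := by omega
        exact fun x hx => nrm h hRA hR hinv (norm_of_index hr hRP hcP (by rw [hcR, h3]) x hx)
    have hd : 27 ∣ Nat.card A := by
      have h2 := card_dvd_of_le hPA
      rw [hcP] at h2
      norm_num only [] at h2
      exact h2
    obtain ⟨m, hm⟩ := hd
    have hm9 : m < 9 := by omega
    have hmodd : Odd m := by
      rw [hm] at hodd
      exact (Nat.odd_mul.1 hodd).2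
    have hmd : 27 * m ∣ 4030387200 := by rw [← hm]; exact hdA
    have hm' : m = 1 ∨ m = 5 ∨ m = 7 := by
      interval_cases m
      · exact absurd hmodd (by decide)
      · exact Or.inl rfl
      · exact absurd hmodd (by decide)
      · exact absurd hmd (by norm_num)
      · exact absurd hmodd (by decide)
      · exact Or.inr (Or.inl rfl)
      · exact absurd hmodd (by decide)
      · exact Or.inr (Or.inr rfl)
      · exact absurd hmodd (by decide)
    have key : (¬ 3 ∣ m ∧ ∀ d, d ∣ m → d % 3 = 1 → d = 1) → False := by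
      rintro ⟨hk1, hk2⟩
      obtain ⟨Q, hQA, hcQ, hQ⟩ := exists_uniq (p := 3) (a := 3) hr (by rw [hm]; norm_num) hk1 hk2
      exact false_of_sylow h hodd hr (by decide) (fun x hx => real_three hx) hQA (inv_of_uniq h hQ) (a := 3)
        (m := 149273600) (by norm_num) hcQ (by rw [card_he]; norm_num) (by norm_num)
    rcases hm' with rfl | rfl | rfl
    · apply key
      refine ⟨by norm_num, ?_⟩
      intro d hd hd1
      exact Nat.dvd_one.1 hd
    · apply key
      refine ⟨by norm_num, ?_⟩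
      intro d hd hd1
      rcases (Nat.dvd_prime Nat.prime_five).1 hd with rfl | rfl
      · rfl
      · norm_num at hd1
    · obtain ⟨Q, hQA, hcQ, hQ⟩ := exists_uniq (p := 7) (a := 1) (m := 27) (by norm_num) (by rw [hm]; norm_num) (by norm_num) (by
        intro d hd hd1
        have h27 : d ∣ 3 ^ 3 := by norm_num; exact hd
        obtain ⟨i, hi, rfl⟩ := (Nat.dvd_prime_pow Nat.prime_three).1 h27
        interval_cases i
        · rfl
        · norm_num at hd1
        · norm_num at hd1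
        · norm_num at hd1)
      have h1 := dvd_of_seven h hQA (inv_of_uniq h hQ) (by rw [hcQ, pow_one])
      rw [hm] at h1
      norm_num at h1
  · -- r = 5
    obtain ⟨j, hj1, hj3, hcR, -⟩ := card_of_pow (n := 2) (m := 161215488) hr (by norm_num) (by norm_num) hR hpow
    rcases Nat.eq_or_lt_of_le hj1 with h1 | h1
    · exact false_of_cyc h hodd hr (by decide) (fun x hx => real_five hx) hRA hinv (by rw [hcR, ← h1, pow_one])
    · have h2 : j = 2 := by omega
      exact false_of_sylow h hodd hr (by decide) (fun x hx => real_five hx) hRA hinv (a := 2) (m := 161215488)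
        (by norm_num) (by rw [hcR, h2]) (by rw [card_he]; norm_num) (by norm_num)
  · -- r = 7
    obtain ⟨j, hj1, hj3, hcR, P, hRP, hcP⟩ := card_of_pow (n := 3) (m := 11750400) hr (by norm_num) (by norm_num) hR hpow
    have hcle : Nat.card R ≤ Nat.card A := card_le_of_le hRA
    have hj2 : j < 3 := by
      by_contra hcon
      have h1 : j = 3 := by omega
      rw [hcR, h1] at hcle
      norm_num only [] at hcle
      omega
    have hj12 : j = 1 ∨ j = 2 := by omega
    rcases hj12 with rfl | rfl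
    · obtain ⟨m, hm⟩ := dvd_of_seven h hRA hinv (by rw [hcR, pow_one])
      have hm9 : m < 5 := by omega
      have hmodd : Odd m := by
        rw [hm] at hodd
        exact (Nat.odd_mul.1 hodd).2
      have hm' : m = 1 ∨ m = 3 := by
        interval_cases m
        · exact absurd hmodd (by decide)
        · exact Or.inl rfl
        · exact absurd hmodd (by decide)
        · exact Or.inr rfl
        · exact absurd hmodd (by decide)
      obtain ⟨Q, hQA, hcQ, hQ⟩ := exists_uniq (p := 7) (a := 2) (m := m) hr (by rw [hm]; norm_num) (by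
        rcases hm' with rfl | rfl <;> norm_num) (by
        intro d hd hd1
        rcases hm' with rfl | rfl
        · exact Nat.dvd_one.1 hd
        · rcases (Nat.dvd_prime Nat.prime_three).1 hd with rfl | rfl
          · rfl
          · norm_num at hd1)
      exact false_of_seven h hlt hQA (inv_of_uniq h hQ) hcQ
    · exact false_of_seven h hlt hRA hinv hcR
  · -- r = 17
    obtain ⟨j, hj1, hj3, hcR, -⟩ := card_of_pow (n := 1) (m := 237081600) hr (by norm_num) (by norm_num) hR hpow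
    have h1 : j = 1 := by omega
    exact false_of_cyc h hodd hr (by decide) (fun x hx => real_seventeen hx) hRA hinv (by rw [hcR, h1, pow_one])

end Cfsg.Agent.H306.IFHe
end

-- part: H306/IFHe/FixSixteen
section
/-!
# The Held group: `16` divides `|C(σ)|` for the outer involutory automorphisms `σ` (helper306)

* `sixteen_dvd` : `b` an involutory automorphism of `K`, `Q` normal of order 128, invariant, of even index, with at most 16
  elements `q` such that `q b(q) = 1`: then `16 ∣ |C_K(b)|`;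
* `out_sixteen`.
-/

set_option autoImplicit false
set_option linter.unusedSectionVars false

namespace Cfsg.Agent.H306.IFHe

open Subgroup

section

variable {K : Type*} [Group K] [Finite K]

/-- the elements whose coset of `Q` is fixed -/
def MM (b : K ≃* K) (Q : Subgroup K) (hQn : Q.Normal) : Subgroup K where
  carrier := {g | g⁻¹ * b g ∈ Q}
  one_mem' := by
    show (1 : K)⁻¹ * b 1 ∈ Q
    rw [map_one, inv_one, one_mul]
    exact Q.one_mem
  mul_mem' := by
    intro g h hg hh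
    show (g * h)⁻¹ * b (g * h) ∈ Q
    have h1 : (g * h)⁻¹ * b (g * h) = h⁻¹ * (g⁻¹ * b g) * h⁻¹⁻¹ * (h⁻¹ * b h) := by
      rw [map_mul]
      group
    rw [h1]
    exact Q.mul_mem (hQn.conj_mem _ hg _) hh
  inv_mem' := by
    intro g hg
    show g⁻¹⁻¹ * b g⁻¹ ∈ Q
    have h1 : g⁻¹⁻¹ * b g⁻¹ = g * (g⁻¹ * b g)⁻¹ * g⁻¹ := by
      rw [map_inv]
      group
    rw [h1]
    exact hQn.conj_mem _ (Q.inv_mem hg) _

/-- the fixed points -/
def FF (b : K ≃* K) : Subgroup K where
  carrier := {g | b g = g}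
  one_mem' := map_one b
  mul_mem' := by
    intro g h hg hh
    show b (g * h) = g * h
    rw [map_mul, show b g = g from hg, show b h = h from hh]
  inv_mem' := by
    intro g hg
    show b g⁻¹ = g⁻¹
    rw [map_inv, show b g = g from hg]

theorem FF_le (b : K ≃* K) (Q : Subgroup K) (hQn : Q.Normal) : FF b ≤ MM b Q hQn := by
  intro g hg
  show g⁻¹ * b g ∈ Q
  rw [show b g = g from hg, inv_mul_cancel]
  exact Q.one_mem

/-- `|M : C_K(b)| ≤ |X|` -/
theorem relIndex_FF (b : K ≃* K) (hb : ∀ u, b (b u) = u) (Q : Subgroup K) (hQn : Q.Normal) :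
    (FF b).relIndex (MM b Q hQn) ≤ Nat.card {q : K // q ∈ Q ∧ q * b q = 1} := by
  rw [Subgroup.relIndex, Subgroup.index]
  -- the map `g ↦ g b(g)⁻¹`
  have hmem : ∀ g ∈ MM b Q hQn, g * (b g)⁻¹ ∈ Q ∧ g * (b g)⁻¹ * b (g * (b g)⁻¹) = 1 := by
    intro g hg
    constructor
    · have h1 : g * (b g)⁻¹ = g * (g⁻¹ * b g)⁻¹ * g⁻¹ := by group
      rw [h1]
      exact hQn.conj_mem _ (Q.inv_mem hg) _
    · rw [map_mul, map_inv, hb]
      group
  let φ : (MM b Q hQn) ⧸ (FF b).subgroupOf (MM b Q hQn) → {q : K // q ∈ Q ∧ q * b q = 1} := fun c =>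
    Quotient.liftOn' c (fun g : MM b Q hQn => ⟨(g : K) * (b g)⁻¹, hmem g g.2⟩) (by
      intro g h hgh
      rw [QuotientGroup.leftRel_apply, mem_subgroupOf] at hgh
      have h1 : b ((g : K)⁻¹ * (h : K)) = (g : K)⁻¹ * h := hgh
      apply Subtype.ext
      show (g : K) * (b g)⁻¹ = h * (b h)⁻¹
      rw [map_mul, map_inv] at h1
      have h2 : b (h : K) = b g * ((g : K)⁻¹ * h) := by rw [← h1]; group
      rw [h2]
      group)
  apply Nat.card_le_card_of_injective φ
  intro c c' hcc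
  induction c using QuotientGroup.induction_on with
  | H g =>
    induction c' using QuotientGroup.induction_on with
    | H h =>
      have h1 : (g : K) * (b g)⁻¹ = h * (b h)⁻¹ := congrArg Subtype.val hcc
      rw [QuotientGroup.eq, mem_subgroupOf]
      show b ((g : K)⁻¹ * (h : K)) = (g : K)⁻¹ * h
      rw [map_mul, map_inv]
      have h2 : (b (g : K))⁻¹ = (g : K)⁻¹ * (h * (b h)⁻¹) := by rw [← h1]; group
      rw [h2]
      group

theorem even_fixed {α : Type*} [Finite α] (f : Function.End α) (hf : ∀ x, f (f x) = x) :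
    Nat.card α ≡ Nat.card (Function.fixedPoints f) [MOD 2] := by
  classical
  have := Fintype.ofFinite α
  have hp : Fact (Nat.Prime 2) := ⟨Nat.prime_two⟩
  rw [Nat.card_eq_fintype_card, Nat.card_eq_fintype_card]
  refine Equiv.Perm.card_fixedPoints_modEq (p := 2) (n := 1) (f := f) ?_
  rw [pow_one, pow_two]
  exact funext hf

/-- the number of fixed cosets is even -/
theorem two_mul_dvd (b : K ≃* K) (hb : ∀ u, b (b u) = u) (Q : Subgroup K) (hQn : Q.Normal) (hQb : ∀ q ∈ Q, b q ∈ Q)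
    (hidx : 2 ∣ Q.index) : 2 * Nat.card Q ∣ Nat.card (MM b Q hQn) := by
  classical
  let f : (K ⧸ Q) → (K ⧸ Q) := fun c => Quotient.liftOn' c (fun g : K => ((b g : K) : K ⧸ Q)) (by
    intro g h hgh
    rw [QuotientGroup.leftRel_apply] at hgh
    show ((b g : K) : K ⧸ Q) = ((b h : K) : K ⧸ Q)
    rw [QuotientGroup.eq, ← map_inv, ← map_mul]
    exact hQb _ hgh)
  have hf : ∀ g : K, f (g : K ⧸ Q) = ((b g : K) : K ⧸ Q) := fun g => rfl
  have hff : ∀ c, f (f c) = c := by
    intro c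
    induction c using QuotientGroup.induction_on with
    | H g => rw [hf, hf, hb]
  have h1 : Nat.card (K ⧸ Q) ≡ Nat.card (Function.fixedPoints f) [MOD 2] := even_fixed f hff
  have h2 : 2 ∣ Nat.card (Function.fixedPoints f) := by
    have h3 : Nat.card (K ⧸ Q) = Q.index := rfl
    rw [h3] at h1
    exact (Nat.modEq_zero_iff_dvd.1 (h1.symm.trans (Nat.modEq_zero_iff_dvd.2 hidx)))
  have h3 : Nat.card (MM b Q hQn) = Nat.card Q * Nat.card (Function.fixedPoints f) := by
    rw [← Nat.card_prod,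
      ← Nat.card_congr (QuotientGroup.preimageMkEquivSubgroupProdSet Q (Function.fixedPoints f))]
    refine Nat.card_congr (Equiv.subtypeEquivRight fun g => ?_)
    show g⁻¹ * b g ∈ Q ↔ f (g : K ⧸ Q) = (g : K ⧸ Q)
    rw [hf, eq_comm, QuotientGroup.eq]
  rw [h3, mul_comm]
  exact Nat.mul_dvd_mul_left _ h2

theorem sixteen_dvd (b : K ≃* K) (hb : ∀ u, b (b u) = u) (Q : Subgroup K) (hQn : Q.Normal) (hQb : ∀ q ∈ Q, b q ∈ Q)
    (hcQ : Nat.card Q = 128) (hidx : 2 ∣ Q.index) (hX : Nat.card {q : K // q ∈ Q ∧ q * b q = 1} ≤ 16) :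
    16 ∣ Nat.card (FF b) := by
  have h1 := two_mul_dvd b hb Q hQn hQb hidx
  rw [hcQ] at h1
  have h2 := (relIndex_FF b hb Q hQn).trans hX
  have h3 : (FF b).relIndex (MM b Q hQn) * Nat.card (FF b) = Nat.card (MM b Q hQn) := by
    rw [mul_comm, Subgroup.relIndex, ← ((FF b).subgroupOf (MM b Q hQn)).card_mul_index,
      Nat.card_congr (subgroupOfEquivOfLe (FF_le b Q hQn)).toEquiv]
  set i := (FF b).relIndex (MM b Q hQn) with hi
  have hi0 : i ≠ 0 := by
    intro h0
    rw [h0, zero_mul] at h3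
    exact Nat.card_pos.ne h3
  -- the 2-part
  obtain ⟨s, m, hm, hsm⟩ := Nat.exists_eq_two_pow_mul_odd hi0
  have hs : s ≤ 4 := by
    by_contra hcon
    push Not at hcon
    have h4 : 2 ^ 5 ≤ 2 ^ s := Nat.pow_le_pow_right (by norm_num) hcon
    have h5 : 0 < m := hm.pos
    have h6 : 2 ^ 5 * 1 ≤ 2 ^ s * m := Nat.mul_le_mul h4 h5
    omega
  rw [← h3, hsm] at h1
  have h4 : (2 : ℕ) ^ 8 ∣ 2 ^ s * (m * Nat.card (FF b)) := by
    rw [← mul_assoc]
    norm_num only [] at h1 ⊢
    exact h1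
  have h5 : (2 : ℕ) ^ (8 - s) ∣ m * Nat.card (FF b) := by
    have h6 : (2 : ℕ) ^ 8 = 2 ^ s * 2 ^ (8 - s) := by rw [← pow_add]; congr 1; omega
    rw [h6] at h4
    exact Nat.dvd_of_mul_dvd_mul_left (pow_pos (by norm_num) s) h4
  have h6 : (2 : ℕ) ^ 4 ∣ m * Nat.card (FF b) := (pow_dvd_pow 2 (by omega)).trans h5
  have h7 : Nat.Coprime (2 ^ 4) m := Nat.Coprime.pow_left _ (Nat.coprime_two_left.2 hm)
  exact h7.dvd_of_dvd_mul_left h6

end

/-! ### the centralizer of a 2B involution -/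

section CC

open Matrix Cfsg.Agent.SporadicRecognition.HeldModel Cfsg.Agent.Held.AffineIso
  Cfsg.Agent.KFacts.TwoSix.Base Cfsg.Agent.KFacts.TwoSix.Facts Cfsg.Agent.KFacts.TwoSix.Normal
  Cfsg.Agent.KFacts.TwoSix.Aut Cfsg.Agent.KFacts.TwoSix.U

/-- `QQ` in `CC` -/
def QC : Subgroup CC := QQ.subgroupOf CC

theorem QC_normal : QC.Normal := ⟨fun _ hq p => norm_QQ p.2 hq⟩

theorem card_QC : Nat.card QC = 128 := by
  unfold QC
  rw [Nat.card_congr (Subgroup.subgroupOfEquivOfLe QQ_le_CC).toEquiv, card_QQ]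

theorem index_QC : QC.index = 168 := by
  have h := QC.card_mul_index
  rw [card_QC, card_CC] at h
  omega

theorem zC_sq : zC * zC = 1 := Subtype.ext zz_sq

theorem zC_comm (g : CC) : g * zC = zC * g := Subtype.ext (zz_comm g.2)

/-- the elements `q` -/
theorem card_X (b : CC ≃* CC) (hb : ∀ u, b (b u) = u) (h : ∀ e : CC, (e : L5) ∈ R1 → ((b e : CC) : L5) ∈ R2) :
    Nat.card {q : CC // q ∈ QC ∧ q * b q = 1} ≤ 16 := by
  have himg : bim b R1 = R2 := by
    refine eq_of_le_of_card_ge ?_ ?_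
    · intro g hg
      obtain ⟨c, hc, rfl⟩ := mem_bim.1 hg
      exact h c hc
    · rw [card_bim b R1_le_CC, card_R1, card_R2]
  let G : F4 → CC := fun f => rC (Function.update f 3 0) * b (rC (Function.update f 3 0)) * (if f 3 = 1 then zC else 1)
  have hupd : ∀ f : F4, f = Function.update f 3 0 + (f 3) • (Pi.single 3 1 : F4) := by
    intro f
    funext j
    by_cases hj : j = 3
    · subst hj
      simp
    · simp [Function.update_of_ne hj, Pi.single_eq_of_ne hj]
  have hz2 : ∀ t : ZMod 2, t = 0 ∨ t = 1 := by decide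
  have hrC : ∀ f : F4, rC f * b (rC f) = rC (Function.update f 3 0) * b (rC (Function.update f 3 0)) := by
    intro f
    rcases hz2 (f 3) with h3 | h3
    · have e : Function.update f 3 0 = f := by
        funext j
        by_cases hj : j = 3
        · subst hj
          simp [h3]
        · simp [Function.update_of_ne hj]
      rw [e]
    · have e : rC f = rC (Function.update f 3 0) * zC := by
        conv_lhs => rw [hupd f, h3, one_smul, rC_add, ← zC_eq]
      rw [e, map_mul, aut_zC]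
      calc rC (Function.update f 3 0) * zC * (b (rC (Function.update f 3 0)) * zC)
          = rC (Function.update f 3 0) * (zC * b (rC (Function.update f 3 0))) * zC := by group
        _ = rC (Function.update f 3 0) * (b (rC (Function.update f 3 0)) * zC) * zC := by rw [zC_comm (b _)]
        _ = rC (Function.update f 3 0) * b (rC (Function.update f 3 0)) * (zC * zC) := by group
        _ = _ := by rw [zC_sq, mul_one]
  have key : ∀ q : CC, q ∈ QC → q * b q = 1 → ∃ f, G f = q := by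
    intro q hq hq1
    obtain ⟨a, ha, s, hs, hqe⟩ := exists_mul' (show (q : L5) ∈ QQ from hq)
    rw [← himg] at hs
    obtain ⟨e, he, hes⟩ := mem_bim.1 hs
    obtain ⟨f, rfl⟩ := mem_R1_low'.1 ha
    have hqe' : q = rC f * b e := by
      apply Subtype.ext
      rw [hqe, ← hes]
      rfl
    have h1 : rC f * b e * (b (rC f) * e) = 1 := by
      have h2 := hq1
      rw [hqe', map_mul, hb] at h2
      exact h2
    have h2 : b (e * rC f) = (rC f)⁻¹ * e⁻¹ := by
      rw [map_mul]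
      calc b e * b (rC f) = (rC f)⁻¹ * (rC f * b e * (b (rC f) * e)) * e⁻¹ := by group
        _ = (rC f)⁻¹ * e⁻¹ := by rw [h1, mul_one]
    have h3 : ((b (e * rC f) : CC) : L5) ∈ R2 := h _ (R1.mul_mem he (ro_mem_R1 f))
    have h4 : ((b (e * rC f) : CC) : L5) ∈ R1 := by
      rw [h2]
      exact R1.mul_mem (R1.inv_mem (ro_mem_R1 f)) (R1.inv_mem he)
    have h5 : e * rC f = 1 ∨ e * rC f = zC := by
      rcases inter h4 h3 with h6 | h6
      · left
        apply b.injective
        rw [map_one]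
        exact Subtype.ext h6
      · right
        apply b.injective
        rw [aut_zC]
        exact Subtype.ext h6
    have hinv : (rC f)⁻¹ = rC f := Subtype.ext (ro_inv f)
    have hf0 : ∀ t : ZMod 2, Function.update (Function.update f 3 t) 3 0 = Function.update f 3 0 := fun t =>
      Function.update_idem _ _ _
    rcases h5 with h6 | h6
    · refine ⟨Function.update f 3 0, ?_⟩
      have h7 : e = rC f := by
        rw [← hinv]
        exact (eq_inv_of_mul_eq_one_left h6 :)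
      show rC (Function.update (Function.update f 3 0) 3 0) * b (rC (Function.update (Function.update f 3 0) 3 0)) *
        (if Function.update f 3 0 3 = 1 then zC else 1) = q
      rw [hf0, Function.update_self, if_neg (by decide), mul_one, ← hrC, hqe', h7]
    · refine ⟨Function.update f 3 1, ?_⟩
      have h7 : e = rC f * zC := by
        have h8 : e = zC * (rC f)⁻¹ := by rw [← h6, mul_inv_cancel_right]
        rw [h8, hinv]
        exact (zC_comm (rC f)).symm
      have h9 : (if Function.update f 3 1 3 = 1 then zC else (1 : CC)) = zC :=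
        if_pos (Function.update_self (3 : Fin 4) (1 : ZMod 2) f)
      show rC (Function.update (Function.update f 3 1) 3 0) * b (rC (Function.update (Function.update f 3 1) 3 0)) *
        (if Function.update f 3 1 3 = 1 then zC else 1) = q
      rw [hf0, h9, ← hrC, hqe', h7, map_mul, aut_zC, mul_assoc]
  have hsurj : Function.Surjective (fun f : {f : F4 // G f ∈ QC ∧ G f * b (G f) = 1} =>
      (⟨G f, f.2⟩ : {q : CC // q ∈ QC ∧ q * b q = 1})) := by
    rintro ⟨q, hq, hq1⟩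
    obtain ⟨f, hf⟩ := key q hq hq1
    exact ⟨⟨f, by rw [hf]; exact ⟨hq, hq1⟩⟩, Subtype.ext hf⟩
  refine (Nat.card_le_card_of_surjective _ hsurj).trans ?_
  refine (Nat.card_le_card_of_injective (fun f : {f : F4 // G f ∈ QC ∧ G f * b (G f) = 1} => (f : F4))
    Subtype.val_injective).trans ?_
  simp

theorem sixteen_CC (b : CC ≃* CC) (hb : ∀ u, b (b u) = u) (h : ∀ e : CC, (e : L5) ∈ R1 → ((b e : CC) : L5) ∈ R2) :
    16 ∣ Nat.card (FF b) :=
  sixteen_dvd b hb QC QC_normal (fun _ hq => aut_QQ b hq) card_QC (by rw [index_QC]; norm_num) (card_X b hb h)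

end CC

section He

open Cfsg.Agent.SporadicRecognition.HeldModel Cfsg.Agent.KFacts.TwoSix.Aut Cfsg.Agent.KFacts.He.InvolAut
  Cfsg.Agent.OddHalf.UT5.KBasic Cfsg.Agent.H383.Cube Cfsg.Agent.H546.IFO

variable {G : Type*} [Group G] {z : G} {ι : CC →* G}

theorem out_of_hyp [Finite G] [IsSimpleGroup G] (h : SporadicRecognition.HeldModel.Hyp z ι) (α : MulAut G)
    (h2 : α * α = 1) (ho : α ∉ (MulAut.conj : G →* MulAut G).range) : 2 ^ 4 ∣ Nat.card (fix α) := by
  obtain ⟨k, hk⟩ := exists_fix_z h α h2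
  have hαα : ∀ x, α (α x) = x := fun x => by
    rw [← MulAut.mul_apply, h2]; rfl
  have e1 : ∀ x, ((MulAut.conj k)⁻¹ * α * MulAut.conj k) x = k⁻¹ * α (k * x * k⁻¹) * k := by
    intro x
    rw [MulAut.mul_apply, MulAut.mul_apply, MulAut.conj_apply, MulAut.conj_inv_apply]
  set β := (MulAut.conj k)⁻¹ * α * MulAut.conj k with hβ
  have hβz : β z = z := by
    rw [e1, hk]
    group
  have hββ : ∀ x, β (β x) = x := by
    intro x
    rw [e1, e1]
    have e2 : k * (k⁻¹ * α (k * x * k⁻¹) * k) * k⁻¹ = α (k * x * k⁻¹) := by group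
    rw [e2, hαα]
    group
  have hβo : β ∉ (MulAut.conj : G →* MulAut G).range := by
    intro h3
    apply ho
    have h4 := conj_range_normal (MulAut.conj k) h3
    have h5 : MulAut.conj k * β * (MulAut.conj k)⁻¹ = α := by rw [hβ]; group
    rwa [h5] at h4
  obtain ⟨b, hb⟩ := exists_b h β hβz
  have hbb : ∀ u, b (b u) = u := fun u => h.inj (by rw [hb, hb, hββ])
  rcases aut_cases b with h1 | h1
  · exfalso
    obtain ⟨p, hp⟩ := aut_inner b h1
    exact hβo (inner_of h (c := p) fun u => by rw [← hb, hp, map_mul, map_mul, map_inv])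
  · have h3 := sixteen_CC b hbb h1
    have hinj : Function.Injective ((MulAut.conj k).toMonoidHom.comp ι) :=
      (MulAut.conj k).injective.comp h.inj
    refine dvd_fix (B := (FF b).map ((MulAut.conj k).toMonoidHom.comp ι)) ?_ ?_
    · rintro _ ⟨u, hu, rfl⟩
      show α (k * ι u * k⁻¹) = k * ι u * k⁻¹
      have h4 : β (ι u) = ι u := by rw [← hb]; exact congrArg ι hu
      rw [e1] at h4
      calc α (k * ι u * k⁻¹) = k * (k⁻¹ * α (k * ι u * k⁻¹) * k) * k⁻¹ := by group
        _ = k * ι u * k⁻¹ := by rw [h4]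
    · rw [card_map_of_injective hinj]
      norm_num only []
      exact h3

theorem out_he : OutP Cfsg.Spor.He fun σ => 2 ^ 4 ∣ Nat.card (fix σ) := by
  intro σ hσ hout
  have h1 : σ * σ = 1 := by rw [← pow_two, ← hσ, pow_orderOf_eq_one]
  have : IsSimpleGroup Cfsg.Spor.He := Cfsg.Agent.S1695.result.1
  have : Finite Cfsg.Spor.He := Nat.finite_of_card_ne_zero (by rw [Cfsg.Agent.S1695.result.2]; norm_num)
  exact out_of_hyp Cfsg.Agent.KFacts.He.Hyp.hyp σ h1 (by
    rintro ⟨x, hx⟩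
    exact hout x hx.symm)

end He

end Cfsg.Agent.H306.IFHe
end

-- part: H306/IFHe/Row
section
/-!
# S5719: the row He (helper306)

`|A|` even: `Even.lean`, `EvenB.lean`.  `|A|` odd: `16 ∣ |C_T(σ)|` gives `|A| < 240`, and `A` is a local subgroup.
-/

set_option autoImplicit false

namespace Cfsg.Agent.H306.IFHe

open Cfsg Cfsg.Agent.H209.Fxy Cfsg.Agent.H546.IFO Cfsg.Agent.FixBN.HeStab

/-- **`|A|` odd** -/
theorem killO_he : KillO Cfsg.Spor.He := by
  intro A Γ h hodd
  obtain ⟨σ, -, h2, hout, -, hk, -, hlt⟩ := exists_outer hna h hodd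
  have h16 := hk 4 (out_he σ h2 hout)
  apply false_of_small h hodd
  rw [card_he] at hlt
  have h3 : (2 ^ 4) ^ 6 ≤ fx A σ ^ 6 := Nat.pow_le_pow_left h16 6
  have e : ((2 : ℕ) ^ 4) ^ 6 = 16777216 := by norm_num
  rw [e] at h3
  have h4 : 16777216 * Nat.card A ≤ fx A σ ^ 6 * Nat.card A := Nat.mul_le_mul_right _ h3
  obtain ⟨m, hm⟩ := hodd
  omega

theorem kill_he : Kill Cfsg.Spor.He := Kill.of killE_he killO_he

/-- **The row He of S5719** -/
theorem rowHe : Row fun T => Spor.IsoHe T := by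
  rintro T _ _ _ - ⟨e⟩ A Γ hA
  exact Kill.congr e.symm kill_he A Γ hA

end Cfsg.Agent.H306.IFHe
end

private theorem dce_6dc3b1a303c3 : _root_.True := by
  try have : _root_.True := by simp only [_root_.Cfsg.Agent.H306.IFHe.E.eq_1]
  try have : _root_.True := by simp only [_root_.Cfsg.Agent.H306.IFHe.sub.eq_def]
  try have : _root_.True := by simp only [_root_.Cfsg.Agent.H399.IF.me22.eq_1]
  try have : _root_.True := by simp only [_root_.Cfsg.Agent.H306.IFHe.sub.eq_1]
  try have : _root_.True := by simp only [_root_.Cfsg.Agent.H306.IFHe.eg.eq_1]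
  try have : _root_.True := by simp only [_root_.Cfsg.Agent.H306.IFHe.sub.eq_2]
  try have : _root_.True := by simp only [_root_.Cfsg.Agent.H399.IF.okElab.eq_1]
  try have : _root_.True := by simp only [_root_.Cfsg.Agent.H399.IF.okPair.eq_1]
  exact _root_.True.intro
end

-- part: H209/IF/AllClass
section
set_option linter.all false

/-!
# S5719: the classical cells (collected by helper209)
-/

set_option autoImplicit false

namespace Cfsg.Agent.H209.Fxy

open Cfsg

theorem cAlt : CellsAlt where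
  alt := Cfsg.Agent.H132.IF.kill_alt

theorem cPSL : CellsPSL where
  two := fun F _ _ h => Cfsg.Agent.H800.IFx.kill_psl_two F h
  three := Cfsg.Agent.H771.IFx.three
  four := Cfsg.Agent.H358.IF.psl_four
  oddmid := fun F _ _ n ho h5 _ => Cfsg.Agent.H974.IF.killE_psl_odd F n ho h5
  oddlarge := fun F _ _ n ho h8 => Cfsg.Agent.H974.IF.killE_psl_odd F n ho (by omega)
  even := fun F _ _ n he hn => Cfsg.Agent.H232.IFR.killE_psl_even F n he hn
  oddA := fun F _ _ n hn hs => Cfsg.Agent.H716.IFO.psl_odd F n hn hs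

theorem psuBig (F : Type) [Field F] [Fintype F] (n q : ℕ) (hF : Fintype.card F = q ^ 2) (hn : 5 ≤ n)
    (hs : IsSimpleGroup (PSU n F q)) : KillE (PSU n F q) := by
  rcases Nat.even_or_odd q with he | ho
  · exact Cfsg.Agent.H406.IF.psu_even F n q hF he hn hs
  · exact Cfsg.Agent.H411.IFU.psu_odd F n q hF ho hn hs

theorem cPSU : CellsPSU where
  three := fun F _ _ q hF h2 hs => Cfsg.Agent.H66.IFU.three F q hF h2 hs
  four := Cfsg.Agent.H838.IF.psu_four
  mid := fun F _ _ n q hF h5 _ hs => psuBig F n q hF h5 hs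
  large := fun F _ _ n q hF h8 hs => psuBig F n q hF (by omega) hs
  oddA := fun F _ _ n q hF hn hs => Cfsg.Agent.H574.IFO.psu_oddA F n q hF hn hs

theorem cPSp : CellsPSp where
  two := Cfsg.Agent.H804.P4.psp4
  oddmid := Cfsg.Agent.H500.IFSp.oddmid
  oddlarge := Cfsg.Agent.H17.IFSp.oddlarge
  even := Cfsg.Agent.H407.IF.killE_psp_even
  oddA := Cfsg.Agent.H447.IFO.psp_oddA

theorem cO : CellsO where
  odd_mid := fun F _ _ m ho hm hm6 hs => Cfsg.Agent.H59.IF.odd_mid F m ho hm hm6 hs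
  odd_large := Cfsg.Agent.H254.IF.odd_large
  odd_O := fun F _ _ m ho hm hs => Cfsg.Agent.H429.IFO.odd_O F m ho hm hs
  plus_mid := fun F _ _ m ho h4 h7 hs => Cfsg.Agent.H94.IF.plus_mid F m ho h4 h7 hs
  plus_large := Cfsg.Agent.H254.IF.plus_large
  plus_even := Cfsg.Agent.H829.IFE.plus_even
  plus_O := fun F _ _ m hm hs => Cfsg.Agent.H429.IFO.plus_O F m hm hs
  minus_mid := fun F _ _ m a b ho h4 h7 hz hs => Cfsg.Agent.H94.IF.minus_mid F m a b ho h4 h7 hz hs
  minus_large := Cfsg.Agent.H254.IF.minus_large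
  minus_even := Cfsg.Agent.H829.IFE.minus_even
  minus_O := fun F _ _ m a b hm hz hs => Cfsg.Agent.H429.IFO.minus_O F m a b hm hz hs

end Cfsg.Agent.H209.Fxy
end

-- part: H820/IF/JFourRow
section
set_option linter.all false

/-!
# S5719, the row of `J4` (helper820)
-/

set_option autoImplicit false

namespace Cfsg.Agent.H820.IFJ

/-- **The row of `J4`.** -/
theorem row_j4 : Cfsg.Agent.H209.Fxy.Row fun T => Cfsg.Spor.IsoJ4 T :=
  row Cfsg.Agent.S5580.rows Cfsg.Agent.OrdDiv.table (fun X _ _ _ => Cfsg.Agent.S0000.result)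
    (Cfsg.Agent.S5581.result Cfsg.Agent.H854.JM.noncomm_J Cfsg.Agent.H854.JM.janko)

end Cfsg.Agent.H820.IFJ
end
end
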